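import Cfsg.Agent.PMaxClass.Basic
import Mathlib.GroupTheory.Index

/-!
# A `p`-group with a centraliser of order `p ^ 2` has maximal class
-/

set_option autoImplicit false
set_option linter.style.haveILetI false

namespace CfsgLib.PMaxClass

open Subgroup
open scoped commutatorElement

universe u

theorem maxClass_of_centralizer {G : Type u} [Group G] {p n : ℕ} [hp : Fact p.Prime]
    (hn : Nat.card G = p ^ n) {x : G}
    (hx : Nat.card (centralizer ({x} : Set G)) = p ^ 2) : MaxClass G p n := by
  induction n using Nat.strong_induction_on generalizing G with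
  | _ n ih =>
  have hfin : Finite G := Nat.finite_of_card_ne_zero (by rw [hn]; exact pow_ne_zero _ hp.out.ne_zero)
  have hG : IsPGroup p G := IsPGroup.of_card hn
  have h1 := hp.out.one_lt
  have h2n : 2 ≤ n := by
    have := card_subgroup_dvd_card (centralizer ({x} : Set G))
    rw [hn, hx] at this
    exact (Nat.pow_dvd_pow_iff_le_right h1).1 this
  refine ⟨hp.out, hn, ?_⟩
  rcases Nat.lt_or_ge n 3 with h3 | h3
  · obtain rfl : n = 2 := by omega
    rw [Nat.sub_self, Subgroup.upperCentralSeries_zero]
    intro e
    have := congrArg (fun K : Subgroup G => Nat.card K) e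
    simp only [card_bot, card_top, hn] at this
    exact (Nat.one_lt_pow two_ne_zero h1).ne this
  -- the centre has order `p`
  set C := centralizer ({x} : Set G) with hC
  have hCne : C ≠ ⊤ := fun e => by
    rw [e, card_top, hn] at hx
    exact absurd hx (Nat.pow_lt_pow_right h1 h3).ne'
  have hxZ : x ∉ center G := fun h => hCne (eq_top_iff.2 fun g _ =>
    mem_centralizer_singleton_iff.2 (mem_center_iff.1 h g))
  have hZC : center G < C := lt_of_le_of_ne (center_le_centralizer _) fun e => hxZ
    (e ▸ mem_centralizer_singleton_iff.2 rfl)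
  have hZne : center G ≠ ⊥ := by
    have : Nontrivial G := Finite.one_lt_card_iff_nontrivial.1
      (by rw [hn]; exact Nat.one_lt_pow (by omega) h1)
    exact (hG.bot_lt_center).ne'
  have hZ : Nat.card (center G) = p := by
    have hle := card_mul_le_of_lt hG hZC
    have hlt := card_mul_le_of_lt hG (bot_lt_iff_ne_bot.2 hZne)
    rw [hx, sq] at hle
    rw [card_bot, one_mul] at hlt
    exact le_antisymm (Nat.le_of_mul_le_mul_right hle hp.out.pos) hlt
  have hQ : Nat.card (G ⧸ center G) = p ^ (n - 1) := by
    refine Nat.eq_of_mul_eq_mul_right hp.out.pos ?_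
    rw [← pow_succ, Nat.sub_add_cancel (by omega), ← hn, card_eq_card_quotient_mul_card_subgroup (center G), hZ]
  -- the centraliser of the image
  set q := QuotientGroup.mk' (center G) with hq
  have hQp : IsPGroup p (G ⧸ center G) := IsPGroup.of_card hQ
  have hCQ : Nat.card (centralizer ({q x} : Set (G ⧸ center G))) = p ^ 2 := by
    set D := centralizer ({q x} : Set (G ⧸ center G)) with hD
    set K := D.comap q with hK
    have hKcard : Nat.card K = Nat.card D * p := by
      rw [← hZ]
      have h1 := Subgroup.card_mul_index K
      rw [hK, index_comap_of_surjective _ (QuotientGroup.mk'_surjective _)] at h1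
      have h2 := Subgroup.card_mul_index D
      have h3 := card_eq_card_quotient_mul_card_subgroup (center G)
      have hne : D.index ≠ 0 := FiniteIndex.index_ne_zero
      refine Nat.eq_of_mul_eq_mul_right (Nat.pos_of_ne_zero hne) ?_
      rw [hK, h1, h3, ← h2]
      ring
    have hcomm : ∀ g ∈ K, ⁅g, x⁆ ∈ center G := by
      intro g hg
      rw [← QuotientGroup.eq_one_iff, ← QuotientGroup.mk'_apply, map_commutatorElement,
        commutatorElement_eq_one_iff_mul_comm]
      exact mem_centralizer_singleton_iff.1 hg
    have hCK : C ≤ K := fun g hg => by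
      rw [hK, mem_comap, hD, mem_centralizer_singleton_iff, ← map_mul, ← map_mul,
        mem_centralizer_singleton_iff.1 hg]
    have hKle : Nat.card K ≤ Nat.card C * p := by
      have h1 : C.relIndex K ≤ p := by
        rw [← hZ]
        refine Nat.card_le_card_of_injective (Quotient.lift
          (fun g : K => (⟨⁅(g : G), x⁆⁻¹, inv_mem (hcomm g g.2)⟩ : center G)) ?_) ?_
        · intro a b hab
          have hab' : (a : G)⁻¹ * b ∈ C := (QuotientGroup.leftRel_apply.1 hab : _ ∈ C.subgroupOf K)
          refine Subtype.ext (inv_inj.2 ?_)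
          have h2 := mem_centralizer_singleton_iff.1 hab'
          rw [commutatorElement_def, commutatorElement_def]
          calc (a : G) * x * (a : G)⁻¹ * x⁻¹ = a * (x * ((a : G)⁻¹ * b)) * (b : G)⁻¹ * x⁻¹ := by group
            _ = a * (((a : G)⁻¹ * b) * x) * (b : G)⁻¹ * x⁻¹ := by rw [h2]
            _ = b * x * (b : G)⁻¹ * x⁻¹ := by group
        · intro a b
          induction a using QuotientGroup.induction_on with
          | _ a =>
          induction b using QuotientGroup.induction_on with
          | _ b =>
          intro hab
          have h2 : ⁅(a : G), x⁆ = ⁅(b : G), x⁆ := inv_inj.1 (congrArg Subtype.val hab)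
          refine QuotientGroup.eq.2 (?_ : (a : G)⁻¹ * b ∈ C)
          rw [hC, mem_centralizer_singleton_iff]
          rw [commutatorElement_def, commutatorElement_def, mul_left_inj] at h2
          calc (a : G)⁻¹ * b * x = (a : G)⁻¹ * (b * x * (b : G)⁻¹) * b := by group
            _ = (a : G)⁻¹ * (a * x * (a : G)⁻¹) * b := by rw [h2]
            _ = x * ((a : G)⁻¹ * b) := by group
      rw [← relIndex_mul_relIndex ⊥ C K bot_le hCK |>.trans (relIndex_bot_left K),
        relIndex_bot_left]
      exact Nat.mul_le_mul_left _ h1
    have hDle : Nat.card D ≤ p ^ 2 := by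
      rw [hKcard, hx] at hKle
      exact Nat.le_of_mul_le_mul_right hKle hp.out.pos
    refine le_antisymm hDle ?_
    by_cases hc : q x ∈ center (G ⧸ center G)
    · have : D = ⊤ := eq_top_iff.2 fun g _ => mem_centralizer_singleton_iff.2 (mem_center_iff.1 hc g)
      rw [this, card_top, hQ]
      exact Nat.pow_le_pow_right hp.out.pos (by omega)
    · have hlt : center (G ⧸ center G) < D := lt_of_le_of_ne (center_le_centralizer _)
        fun e => hc (e ▸ mem_centralizer_singleton_iff.2 rfl)
      have : Nontrivial (G ⧸ center G) := Finite.one_lt_card_iff_nontrivial.1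
        (by rw [hQ]; exact Nat.one_lt_pow (by omega) h1)
      have h4 := card_mul_le_of_lt hQp (hQp.bot_lt_center)
      rw [card_bot, one_mul] at h4
      rw [sq]
      exact (Nat.mul_le_mul_right p h4).trans (card_mul_le_of_lt hQp hlt)
  have hrec := ih (n - 1) (by omega) (G := G ⧸ center G) hQ hCQ
  intro e
  refine hrec.ne_top (Subgroup.comap_injective (QuotientGroup.mk'_surjective (center G)) ?_)
  rw [Subgroup.comap_upperCentralSeries_quotient_center, comap_top,
    show (n - 1 - 2).succ = n - 2 by omega, e]

end CfsgLib.PMaxClass
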