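import Mathlib.GroupTheory.Nilpotent
import Mathlib.GroupTheory.Sylow
import Mathlib.GroupTheory.SpecificGroups.Cyclic

/-!
# `p`-groups of maximal class: first properties

`G` has order `p ^ n` and `Subgroup.upperCentralSeries G (n - 2) ≠ ⊤`.

* `MaxClass`: the hypothesis bundle; `MaxClass.of_lower`: from the lower central series of a subgroup.
* `MaxClass.card_upper`: `|Z_i| = p ^ i` for `i ≤ n - 2`.
* `MaxClass.normal_eq_upper`: a normal subgroup of order `p ^ i`, `i ≤ n - 2`, is `Z_i`.
* `MaxClass.index_centralizer_two`: `C(Z_2)` has index `p`.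
-/

set_option autoImplicit false

namespace CfsgLib.PMaxClass

open Subgroup
open scoped commutatorElement

variable {G : Type*} [Group G] {p n : ℕ}

/-- `G` is of order `p ^ n` and nilpotency class at least `n - 1`. -/
structure MaxClass (G : Type*) [Group G] (p n : ℕ) : Prop where
  prime : p.Prime
  card_eq : Nat.card G = p ^ n
  ne_top : Subgroup.upperCentralSeries G (n - 2) ≠ ⊤

theorem MaxClass.finite (h : MaxClass G p n) : Finite G :=
  Nat.finite_of_card_ne_zero (by rw [h.card_eq]; exact pow_ne_zero _ h.prime.ne_zero)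

theorem MaxClass.isPGroup (h : MaxClass G p n) : IsPGroup p G := IsPGroup.of_card h.card_eq

theorem MaxClass.of_lower {Ω : Type*} [Group Ω] {S : Subgroup Ω} (hp : p.Prime)
    (hn : Nat.card S = p ^ n) (hmax : Subgroup.lowerCentralSeries S (n - 2) ≠ ⊥) :
    MaxClass S p n := by
  refine ⟨hp, hn, fun h => hmax ?_⟩
  rw [← Subgroup.top_subtype_lowerCentralSeries, Subgroup.lowerCentralSeries_eq_bot_iff_upperCentralSeries_eq_top.2 h,
    Subgroup.map_bot]

theorem card_mul_le_of_lt [Fact p.Prime] [Finite G] (hG : IsPGroup p G) {A B : Subgroup G}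
    (h : A < B) : Nat.card A * p ≤ Nat.card B := by
  obtain ⟨a, ha⟩ := IsPGroup.iff_card.mp (hG.to_subgroup A)
  obtain ⟨b, hb⟩ := IsPGroup.iff_card.mp (hG.to_subgroup B)
  have hlt : Nat.card A < Nat.card B := Set.Finite.card_lt_card (Set.toFinite _) h
  rw [ha, hb] at hlt
  rw [ha, hb, ← pow_succ]
  exact Nat.pow_le_pow_right (Fact.out : p.Prime).pos
    ((Nat.pow_lt_pow_iff_right (Fact.out : p.Prime).one_lt).1 hlt)

/-- The centre modulo a term of the upper series never has prime index. -/
theorem upper_index_ne_prime [Finite G] (hp : p.Prime) (i : ℕ) :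
    (Subgroup.upperCentralSeries G (i + 1)).index ≠ p := by
  intro hidx
  have hne : Subgroup.upperCentralSeries G (i + 1) ≠ ⊤ := fun h => by
    rw [h, index_top] at hidx
    exact hp.one_lt.ne hidx
  obtain ⟨g, -, hg⟩ := SetLike.exists_of_lt hne.lt_top
  let q := QuotientGroup.mk' (Subgroup.upperCentralSeries G i)
  let K : Subgroup G := (centralizer ({q g} : Set (G ⧸ Subgroup.upperCentralSeries G i))).comap q
  have hK : ∀ y, y ∈ K ↔ ⁅g, y⁆ ∈ Subgroup.upperCentralSeries G i := by
    intro y
    rw [mem_comap, mem_centralizer_singleton_iff, ← QuotientGroup.eq_one_iff,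
      show ((⁅g, y⁆ : G) : G ⧸ Subgroup.upperCentralSeries G i) = ⁅q g, q y⁆ from map_commutatorElement q g y,
      commutatorElement_eq_one_iff_mul_comm]
    exact eq_comm
  have hle : Subgroup.upperCentralSeries G (i + 1) ≤ K := fun z hz => (hK z).2 (by
    rw [← commutatorElement_inv]
    exact inv_mem (Subgroup.mem_upperCentralSeries_succ_iff.1 hz g))
  have hlt : Subgroup.upperCentralSeries G (i + 1) < K := lt_of_le_of_ne hle fun h =>
    hg (h ▸ (hK g).2 (by rw [commutatorElement_self]; exact one_mem _))
  have hKtop : K = ⊤ := by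
    rw [← index_eq_one]
    have h1 := relIndex_mul_index hle
    rw [hidx] at h1
    rcases (Nat.dvd_prime hp).1 (Dvd.intro_left _ h1) with h2 | h2
    · exact h2
    · rw [h2] at h1
      have h3 : (Subgroup.upperCentralSeries G (i + 1)).relIndex K = 1 :=
        Nat.eq_of_mul_eq_mul_right hp.pos (h1.trans (one_mul p).symm)
      exact absurd (relIndex_eq_one.1 h3) hlt.not_ge
  exact hg (Subgroup.mem_upperCentralSeries_succ_iff.2 fun y => (hK y).1 (hKtop ▸ mem_top y))

namespace MaxClass

theorem card_upper (h : MaxClass G p n) {i : ℕ} (hi : i ≤ n - 2) :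
    Nat.card (Subgroup.upperCentralSeries G i) = p ^ i := by
  have := h.finite
  have := Fact.mk h.prime
  have := h.isPGroup.isNilpotent
  have hne : ∀ j ≤ n - 2, Subgroup.upperCentralSeries G j ≠ ⊤ := fun j hj e =>
    h.ne_top (top_le_iff.1 (e ▸ Subgroup.upperCentralSeries_mono G hj))
  have hlt : ∀ j < n - 2, Subgroup.upperCentralSeries G j < Subgroup.upperCentralSeries G (j + 1) := by
    intro j hj
    refine lt_of_le_of_ne (Subgroup.upperCentralSeries_mono G j.le_succ) fun e => hne (j + 1) hj ?_
    have hstab : ∀ m, Subgroup.upperCentralSeries G (j + m) = Subgroup.upperCentralSeries G j := by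
      intro m
      induction m with
      | zero => rfl
      | succ m ih =>
        ext x
        rw [← Nat.add_assoc, Subgroup.mem_upperCentralSeries_succ_iff, ih,
          ← Subgroup.mem_upperCentralSeries_succ_iff, ← e]
    obtain ⟨c, hc⟩ := Group.IsNilpotent.nilpotent G
    rw [← e, ← hstab c]
    exact top_le_iff.1 (hc ▸ Subgroup.upperCentralSeries_mono G (Nat.le_add_left c j))
  choose a ha using fun j => IsPGroup.iff_card.mp (h.isPGroup.to_subgroup (Subgroup.upperCentralSeries G j))
  have hinc : ∀ j < n - 2, a j + 1 ≤ a (j + 1) := by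
    intro j hj
    have h1 := card_mul_le_of_lt h.isPGroup (hlt j hj)
    rw [ha, ha, ← pow_succ] at h1
    exact (Nat.pow_le_pow_iff_right h.prime.one_lt).1 h1
  have hlow : ∀ j ≤ n - 2, ∀ k ≤ j, a k + (j - k) ≤ a j := by
    intro j
    induction j with
    | zero => intro _ k hk; simp [Nat.le_zero.1 hk]
    | succ j ih =>
      intro hj k hk
      rcases hk.eq_or_lt with rfl | hk'
      · simp
      · have := ih (by omega) k (by omega)
        have := hinc j (by omega)
        omega
  have htop : a (n - 2) ≤ n - 2 := by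
    have hidx := card_mul_index (Subgroup.upperCentralSeries G (n - 2))
    rw [h.card_eq, ha] at hidx
    by_contra hgt
    push Not at hgt
    have han : a (n - 2) ≤ n := (Nat.pow_dvd_pow_iff_le_right h.prime.one_lt).1 ⟨_, hidx.symm⟩
    have hI : (Subgroup.upperCentralSeries G (n - 2)).index = p ^ (n - a (n - 2)) := by
      refine Nat.eq_of_mul_eq_mul_left (pow_pos h.prime.pos (a (n - 2))) ?_
      rw [hidx, ← pow_add]
      congr 1
      omega
    have hnot : n - a (n - 2) ≠ 0 := fun e => h.ne_top (index_eq_one.1 (by rw [hI, e, pow_zero]))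
    obtain ⟨j, hj⟩ : ∃ j, n - 2 = j + 1 := by
      refine ⟨n - 2 - 1, ?_⟩
      rcases Nat.eq_zero_or_pos (n - 2) with e | e
      · have hcard := ha 0
        rw [Subgroup.upperCentralSeries_zero, card_bot] at hcard
        rcases Nat.pow_eq_one.1 hcard.symm with hp1 | ha0
        · exact absurd hp1 h.prime.one_lt.ne'
        · rw [e] at hgt
          omega
      · omega
    refine upper_index_ne_prime (G := G) h.prime j ?_
    rw [← hj, hI, show n - a (n - 2) = 1 by omega, pow_one]
  have h0 : 0 ≤ a 0 := Nat.zero_le _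
  have h1 := hlow i hi 0 (Nat.zero_le _)
  have h2 := hlow (n - 2) le_rfl i hi
  rw [ha]
  congr 1
  omega

theorem card_center (h : MaxClass G p n) (hn : 3 ≤ n) : Nat.card (center G) = p := by
  rw [← Subgroup.upperCentralSeries_one, h.card_upper (by omega), pow_one]

theorem normal_eq_upper (h : MaxClass G p n) {i : ℕ} (hi : i ≤ n - 2) {N : Subgroup G}
    [N.Normal] (hN : Nat.card N = p ^ i) : N = Subgroup.upperCentralSeries G i := by
  have := h.finite
  have := Fact.mk h.prime
  have := h.isPGroup.isNilpotent
  induction i using Nat.strong_induction_on generalizing N with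
  | _ i ih =>
  refine Subgroup.eq_of_le_of_card_ge ?_ (by rw [hN, h.card_upper hi])
  rcases Nat.eq_zero_or_pos i with rfl | hi0
  · rw [pow_zero, Subgroup.card_eq_one] at hN
    rw [hN]
    exact bot_le
  have hlt : ⁅N, (⊤ : Subgroup G)⁆ < N := by
    refine lt_of_le_of_ne (commutator_le_left N ⊤) fun e => ?_
    have hle : ∀ m, N ≤ (⊤ : Subgroup G).lowerCentralSeries m := by
      intro m
      induction m with
      | zero => exact le_top
      | succ m ihm =>
        rw [Subgroup.lowerCentralSeries_succ]
        exact e.ge.trans (commutator_mono ihm le_rfl)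
    have := (hle _).trans Subgroup.lowerCentralSeries_nilpotencyClass.le
    rw [le_bot_iff] at this
    rw [this, card_bot] at hN
    rcases Nat.pow_eq_one.1 hN.symm with hp1 | hp0
    · exact h.prime.one_lt.ne' hp1
    · omega
  obtain ⟨b, hb⟩ := IsPGroup.iff_card.mp (h.isPGroup.to_subgroup ⁅N, (⊤ : Subgroup G)⁆)
  have hbi : b < i := by
    have h1 := Set.Finite.card_lt_card (Set.toFinite _) hlt
    rw [show Nat.card ((⁅N, (⊤ : Subgroup G)⁆ : Subgroup G) : Set G) = p ^ b from hb,
      show Nat.card (N : Set G) = p ^ i from hN] at h1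
    exact (Nat.pow_lt_pow_iff_right h.prime.one_lt).1 h1
  have h2 := ih b hbi (by omega) hb
  intro x hx
  rw [show i = (i - 1) + 1 by omega, Subgroup.mem_upperCentralSeries_succ_iff]
  intro y
  exact Subgroup.upperCentralSeries_mono G (by omega : b ≤ i - 1)
    (h2 ▸ commutator_mem_commutator hx (mem_top y))

/-- For `n ≥ 4` the centralizer of `Z_2` is a maximal subgroup containing `Z_2`. -/
theorem index_centralizer_two (h : MaxClass G p n) (hn : 4 ≤ n) :
    (centralizer (Subgroup.upperCentralSeries G 2 : Set G)).index = p ∧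
      Subgroup.upperCentralSeries G 2 ≤ centralizer (Subgroup.upperCentralSeries G 2 : Set G) := by
  have := h.finite
  have := Fact.mk h.prime
  have hcard : Nat.card (Subgroup.upperCentralSeries G 2) = p ^ 2 := h.card_upper (by omega)
  have hab : ∀ a ∈ Subgroup.upperCentralSeries G 2, ∀ b ∈ Subgroup.upperCentralSeries G 2, a * b = b * a := by
    intro a ha b hb
    have hc := IsPGroup.isMulCommutative_of_card_eq_prime_sq hcard
    exact congrArg Subtype.val
      (hc.is_comm.comm (⟨a, ha⟩ : Subgroup.upperCentralSeries G 2) ⟨b, hb⟩)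
  refine ⟨?_, fun a ha => mem_centralizer_iff.2 fun b hb => hab b hb a ha⟩
  have hlt : center G < Subgroup.upperCentralSeries G 2 := by
    refine lt_of_le_of_ne ?_ fun e => ?_
    · rw [← Subgroup.upperCentralSeries_one]
      exact Subgroup.upperCentralSeries_mono G (by omega)
    · have := h.card_center (by omega)
      rw [e, hcard] at this
      exact absurd this (Nat.pow_lt_pow_right h.prime.one_lt (by omega : 1 < 2) |>.ne' |>
        fun hh => by simpa using hh)
  obtain ⟨z, hz, hzc⟩ := SetLike.exists_of_lt hlt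
  have hcomm : ∀ y, ⁅z, y⁆ ∈ center G := fun y => by
    rw [← Subgroup.upperCentralSeries_one]
    exact Subgroup.mem_upperCentralSeries_succ_iff.1 hz y
  let f : G →* center G :=
    { toFun := fun y => ⟨⁅z, y⁆, hcomm y⟩
      map_one' := Subtype.ext (commutatorElement_one_right z)
      map_mul' := fun a b => Subtype.ext (by
        show ⁅z, a * b⁆ = ⁅z, a⁆ * ⁅z, b⁆
        rw [commutatorElement_def, commutatorElement_def, commutatorElement_def]
        have hc : a * (z * b * z⁻¹ * b⁻¹) = (z * b * z⁻¹ * b⁻¹) * a :=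
          mem_center_iff.1 (hcomm b) a
        calc z * (a * b) * z⁻¹ * (a * b)⁻¹
            = z * a * z⁻¹ * (z * b * z⁻¹ * b⁻¹) * a⁻¹ := by group
          _ = z * a * z⁻¹ * (a⁻¹ * (a * (z * b * z⁻¹ * b⁻¹))) * a⁻¹ := by group
          _ = z * a * z⁻¹ * (a⁻¹ * ((z * b * z⁻¹ * b⁻¹) * a)) * a⁻¹ := by rw [hc]
          _ = z * a * z⁻¹ * a⁻¹ * (z * b * z⁻¹ * b⁻¹) := by group) }
  have hgen : center G ⊔ zpowers z = Subgroup.upperCentralSeries G 2 := by
    refine Subgroup.eq_of_le_of_card_ge (sup_le hlt.le (zpowers_le.2 hz)) ?_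
    have hlt2 : center G < center G ⊔ zpowers z :=
      lt_of_le_of_ne le_sup_left fun e => hzc (e ▸ mem_sup_right (mem_zpowers z))
    have := card_mul_le_of_lt h.isPGroup hlt2
    rw [h.card_center (by omega)] at this
    rw [hcard, sq]
    exact this
  have hker : f.ker ≤ centralizer (Subgroup.upperCentralSeries G 2 : Set G) := by
    intro y hy
    have h1 : ⁅z, y⁆ = 1 := congrArg Subtype.val hy
    rw [le_antisymm_iff] at hgen
    refine mem_centralizer_iff.2 fun b hb => ?_
    have hle : Subgroup.upperCentralSeries G 2 ≤ centralizer ({y} : Set G) := hgen.2.trans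
      (sup_le (center_le_centralizer _) (zpowers_le.2 (mem_centralizer_singleton_iff.2
        (commutatorElement_eq_one_iff_mul_comm.1 h1))))
    exact (mem_centralizer_singleton_iff.1 (hle hb))
  have hle : (centralizer (Subgroup.upperCentralSeries G 2 : Set G)).index ≤ p := by
    have h1 : f.ker.index ≤ p := by
      rw [index_ker]
      refine le_trans (Nat.card_le_card_of_injective _ Subtype.coe_injective) ?_
      exact le_of_eq (h.card_center (by omega))
    exact le_trans (Nat.le_of_dvd (Nat.pos_of_ne_zero FiniteIndex.index_ne_zero)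
      (index_dvd_of_le hker)) h1
  have hne : centralizer (Subgroup.upperCentralSeries G 2 : Set G) ≠ ⊤ := by
    intro e
    refine hzc (mem_center_iff.2 fun y => ?_)
    exact ((mem_centralizer_iff.1 (e ▸ mem_top y : y ∈ centralizer _)) z hz).symm
  obtain ⟨k, hk⟩ := h.isPGroup.index (centralizer (Subgroup.upperCentralSeries G 2 : Set G))
  rcases k with _ | _ | k
  · exact absurd (index_eq_one.1 (by simpa using hk)) hne
  · simpa using hk
  · have : p < p ^ (k + 1 + 1) := by
      calc p = p ^ 1 := (pow_one p).symm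
        _ < _ := Nat.pow_lt_pow_right h.prime.one_lt (by omega)
    omega

end MaxClass

end CfsgLib.PMaxClass
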