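import Cfsg.Agent.PMaxClass.AbelianTerm

/-!
# `p`-groups of maximal class inside an ambient group

`zTerm S i`: the `i`-th upper central term of `S ≤ Ω`, as a subgroup of `Ω`. With `|S| = p ^ n` and
class `n - 1`: orders, commutator bounds, layers of order `p`, generation modulo the term `n - 2`.
-/

set_option autoImplicit false

namespace CfsgLib.PMaxClass

open Subgroup
open scoped commutatorElement

variable {Ω : Type*} [Group Ω]

/-- The `i`-th term of the upper central series, in the ambient group. -/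
def zTerm (S : Subgroup Ω) (i : ℕ) : Subgroup Ω := (Subgroup.upperCentralSeries S i).map S.subtype

variable {S : Subgroup Ω} {p n : ℕ}

theorem mem_zTerm {i : ℕ} {x : Ω} :
    x ∈ zTerm S i ↔ ∃ h : x ∈ S, (⟨x, h⟩ : S) ∈ Subgroup.upperCentralSeries S i := by
  constructor
  · rintro ⟨y, hy, rfl⟩
    exact ⟨y.2, hy⟩
  · rintro ⟨h, hy⟩
    exact ⟨_, hy, rfl⟩

theorem coe_mem_zTerm {i : ℕ} {x : S} :
    (x : Ω) ∈ zTerm S i ↔ x ∈ Subgroup.upperCentralSeries S i := by
  rw [mem_zTerm]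
  exact ⟨fun ⟨_, h⟩ => h, fun h => ⟨x.2, h⟩⟩

theorem zTerm_le (S : Subgroup Ω) (i : ℕ) : zTerm S i ≤ S := Subgroup.map_subtype_le _

theorem zTerm_mono {i j : ℕ} (h : i ≤ j) : zTerm S i ≤ zTerm S j :=
  Subgroup.map_mono (Subgroup.upperCentralSeries_mono S h)

@[simp] theorem zTerm_zero : zTerm S 0 = ⊥ := by
  rw [zTerm, Subgroup.upperCentralSeries_zero, Subgroup.map_bot]

theorem conj_mem_zTerm {i : ℕ} {x : Ω} (hx : x ∈ zTerm S i) {s : Ω} (hs : s ∈ S) :
    s * x * s⁻¹ ∈ zTerm S i := by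
  obtain ⟨h, hx⟩ := mem_zTerm.1 hx
  exact mem_zTerm.2 ⟨mul_mem (mul_mem hs h) (inv_mem hs),
    (inferInstance : (Subgroup.upperCentralSeries S i).Normal).conj_mem _ hx ⟨s, hs⟩⟩

theorem le_normalizer_zTerm (i : ℕ) : S ≤ normalizer (zTerm S i : Set Ω) := by
  intro s hs
  rw [Subgroup.mem_normalizer_iff]
  refine fun x => ⟨fun hx => conj_mem_zTerm hx hs, fun hx => ?_⟩
  have := conj_mem_zTerm hx (inv_mem hs)
  simpa [mul_assoc] using this

theorem commutator_step {i : ℕ} {x : Ω} (hx : x ∈ zTerm S (i + 1)) {s : Ω} (hs : s ∈ S) :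
    ⁅x, s⁆ ∈ zTerm S i := by
  obtain ⟨h, hx⟩ := mem_zTerm.1 hx
  exact mem_zTerm.2 ⟨mul_mem (mul_mem (mul_mem h hs) (inv_mem h)) (inv_mem hs),
    Subgroup.mem_upperCentralSeries_succ_iff.1 hx ⟨s, hs⟩⟩

theorem commutator_pred {i : ℕ} {x : Ω} (hx : x ∈ zTerm S i) {s : Ω} (hs : s ∈ S) :
    ⁅x, s⁆ ∈ zTerm S (i - 1) ∧ ⁅s, x⁆ ∈ zTerm S (i - 1) := by
  have h : ⁅x, s⁆ ∈ zTerm S (i - 1) := by
    rcases i with _ | i
    · rw [zTerm_zero, Subgroup.mem_bot] at hx
      rw [hx, commutatorElement_one_left]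
      exact one_mem _
    · exact commutator_step hx hs
  exact ⟨h, by rw [← commutatorElement_inv]; exact inv_mem h⟩

theorem mem_zTerm_succ {i : ℕ} {x : Ω} (hx : x ∈ S) (h : ∀ s ∈ S, ⁅x, s⁆ ∈ zTerm S i) :
    x ∈ zTerm S (i + 1) := by
  refine mem_zTerm.2 ⟨hx, Subgroup.mem_upperCentralSeries_succ_iff.2 fun y => ?_⟩
  exact coe_mem_zTerm.1 (h y y.2)

theorem zTerm_one_comm {x : Ω} (hx : x ∈ zTerm S 1) {s : Ω} (hs : s ∈ S) : s * x = x * s := by
  have h := commutator_step hx hs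
  rw [zTerm_zero, Subgroup.mem_bot, commutatorElement_eq_one_iff_mul_comm] at h
  exact h.symm

namespace MaxClass

variable (h : MaxClass S p n)
include h

theorem finite_sub : Finite S := h.finite

theorem sub_upper_top (hn : 3 ≤ n) : Subgroup.upperCentralSeries S (n - 1) = ⊤ := by
  have := h.finite
  have := Fact.mk h.prime
  set N := Subgroup.upperCentralSeries S (n - 2)
  have hq : Nat.card (S ⧸ N) = p ^ 2 := by
    rw [← Subgroup.index_eq_card]
    refine Nat.eq_of_mul_eq_mul_left (pow_pos h.prime.pos (n - 2)) ?_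
    have h1 := card_mul_index N
    rw [h.card_upper le_rfl, h.card_eq] at h1
    rw [h1, ← pow_add]
    congr 1
    omega
  have hc := (IsPGroup.isMulCommutative_of_card_eq_prime_sq hq).is_comm.comm
  refine eq_top_iff.2 fun x _ => ?_
  rw [show n - 1 = n - 2 + 1 by omega, Subgroup.mem_upperCentralSeries_succ_iff]
  intro y
  rw [← QuotientGroup.eq_one_iff, ← QuotientGroup.mk'_apply, map_commutatorElement,
    commutatorElement_eq_one_iff_mul_comm]
  exact hc _ _

theorem zTerm_top (hn : 3 ≤ n) {i : ℕ} (hi : n - 1 ≤ i) : zTerm S i = S := by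
  refine le_antisymm (zTerm_le S i) fun x hx => zTerm_mono hi ?_
  exact mem_zTerm.2 ⟨hx, (h.sub_upper_top hn).symm ▸ Subgroup.mem_top _⟩

theorem card_zTerm {i : ℕ} (hi : i ≤ n - 2) : Nat.card (zTerm S i) = p ^ i := by
  rw [zTerm, Subgroup.card_map_of_injective S.subtype_injective, h.card_upper hi]

/-- `[Z i, Z j] ≤ Z (i + j - n)`. -/
theorem commutator_zTerm (hn : 3 ≤ n) {i j k : ℕ} (hi : i + 2 ≤ n) (hk : i + j ≤ n + k) {x y : Ω}
    (hx : x ∈ zTerm S i) (hy : y ∈ zTerm S j) : ⁅x, y⁆ ∈ zTerm S k := by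
  obtain ⟨hxS, hx⟩ := mem_zTerm.1 hx
  obtain ⟨hyS, hy⟩ := mem_zTerm.1 hy
  refine zTerm_mono (show j + i - n ≤ k by omega) (mem_zTerm.2
    ⟨mul_mem (mul_mem (mul_mem hxS hyS) (inv_mem hxS)) (inv_mem hyS), ?_⟩)
  exact h.commutator_upper_upper (h.sub_upper_top hn) hi (commutator_mem_commutator hx hy)

theorem commute_zTerm (hn : 3 ≤ n) {i j : ℕ} (hi : i + 2 ≤ n) (hk : i + j ≤ n) {x y : Ω}
    (hx : x ∈ zTerm S i) (hy : y ∈ zTerm S j) : x * y = y * x := by
  have h1 := h.commutator_zTerm hn (k := 0) hi (by omega) hx hy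
  rwa [zTerm_zero, Subgroup.mem_bot, commutatorElement_eq_one_iff_mul_comm] at h1

theorem exists_layer {i : ℕ} (h1 : 1 ≤ i) (hi : i ≤ n - 2) :
    ∃ x, x ∈ zTerm S i ∧ x ∉ zTerm S (i - 1) := by
  obtain ⟨x, hx, hx'⟩ := SetLike.not_le_iff_exists.1 (h.upper_lt h1 (by omega))
  exact ⟨x, coe_mem_zTerm.2 hx, fun e => hx' (coe_mem_zTerm.1 e)⟩

theorem le_of_mem_layer {i : ℕ} (h1 : 1 ≤ i) (hi : i ≤ n - 2) {H : Subgroup Ω}
    (hle : zTerm S (i - 1) ≤ H) {x : Ω} (hx : x ∈ zTerm S i) (hx' : x ∉ zTerm S (i - 1))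
    (hxH : x ∈ H) : zTerm S i ≤ H := by
  have := h.finite
  have := Fact.mk h.prime
  have : Finite (zTerm S i) := Finite.of_injective _ (Subgroup.inclusion_injective (zTerm_le S i))
  have hlt : zTerm S (i - 1) < H ⊓ zTerm S i :=
    lt_of_le_of_ne (le_inf hle (zTerm_mono (by omega))) fun e =>
      hx' (e.symm ▸ Subgroup.mem_inf.2 ⟨hxH, hx⟩ : x ∈ zTerm S (i - 1))
  have hp : IsPGroup p ↥(zTerm S i) := IsPGroup.of_card (h.card_zTerm hi)
  have h2 := card_mul_le_of_lt (G := ↥(zTerm S i)) hp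
    (A := (zTerm S (i - 1)).subgroupOf (zTerm S i)) (B := (H ⊓ zTerm S i).subgroupOf (zTerm S i))
    (lt_of_le_of_ne (fun y hy => hlt.le hy) fun e => hlt.ne (by
      have e' := congrArg (Subgroup.map (zTerm S i).subtype) e
      rwa [Subgroup.map_subgroupOf_eq_of_le (zTerm_mono (show i - 1 ≤ i by omega)),
        Subgroup.map_subgroupOf_eq_of_le inf_le_right] at e'))
  rw [Nat.card_congr (Subgroup.subgroupOfEquivOfLe (zTerm_mono (show i - 1 ≤ i by omega))).toEquiv,
    Nat.card_congr (Subgroup.subgroupOfEquivOfLe (inf_le_right (a := H))).toEquiv,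
    h.card_zTerm (by omega), ← pow_succ, show i - 1 + 1 = i by omega, ← h.card_zTerm hi] at h2
  exact (Subgroup.eq_of_le_of_card_ge inf_le_right h2).ge.trans inf_le_left

theorem exists_eq_pow_mul {i : ℕ} (h1 : 1 ≤ i) (hi : i ≤ n - 2) {x : Ω} (hx : x ∈ zTerm S i)
    (hx' : x ∉ zTerm S (i - 1)) {w : Ω} (hw : w ∈ zTerm S i) :
    ∃ (j : ℤ) (v : Ω), v ∈ zTerm S (i - 1) ∧ w = x ^ j * v := by
  have hle : zpowers x ≤ normalizer (zTerm S (i - 1) : Set Ω) :=
    (zpowers_le.2 (zTerm_le S i hx)).trans (le_normalizer_zTerm _)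
  have hw' : w ∈ zpowers x ⊔ zTerm S (i - 1) :=
    h.le_of_mem_layer h1 hi le_sup_right hx hx' (mem_sup_left (mem_zpowers x)) hw
  rw [← SetLike.mem_coe, Subgroup.coe_mul_of_left_le_normalizer_right _ _ hle] at hw'
  obtain ⟨_, ⟨j, rfl⟩, v, hv, rfl⟩ := hw'
  exact ⟨j, v, hv, rfl⟩

theorem pow_p_mem {i : ℕ} (hi : i ≤ n - 2) {x : Ω} (hx : x ∈ zTerm S i) :
    x ^ p ∈ zTerm S (i - 1) := by
  have := h.finite
  have := Fact.mk h.prime
  obtain ⟨hxS, hx⟩ := mem_zTerm.1 hx
  rcases Nat.eq_zero_or_pos i with rfl | h1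
  · rw [Subgroup.upperCentralSeries_zero, Subgroup.mem_bot] at hx
    have : x = 1 := congrArg Subtype.val hx
    simp [this]
  refine mem_zTerm.2 ⟨pow_mem hxS p, ?_⟩
  set A := (Subgroup.upperCentralSeries S (i - 1)).subgroupOf (Subgroup.upperCentralSeries S i)
  have hA : A.index = p := by
    show (Subgroup.upperCentralSeries S (i - 1)).relIndex _ = p
    have h2 := Subgroup.card_mul_index A
    rw [Nat.card_congr (Subgroup.subgroupOfEquivOfLe (Subgroup.upperCentralSeries_mono S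
      (show i - 1 ≤ i by omega))).toEquiv, h.card_upper (by omega), h.card_upper hi] at h2
    refine Nat.eq_of_mul_eq_mul_left (pow_pos h.prime.pos (i - 1)) (h2.trans ?_)
    rw [← pow_succ, Nat.sub_add_cancel h1]
  have := Subgroup.pow_index_mem A ⟨⟨x, hxS⟩, hx⟩
  rw [hA] at this
  exact this

theorem eq_of_sup_top (hn : 3 ≤ n) {H : Subgroup Ω} (hH : H ≤ S)
    (hsup : S ≤ H ⊔ zTerm S (n - 2)) : H = S := by
  have := h.finite
  have := Fact.mk h.prime
  by_contra hne
  obtain ⟨M, hM, hle⟩ := (eq_top_or_exists_le_coatom (H.subgroupOf S)).resolve_left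
    fun e => hne (le_antisymm hH (Subgroup.subgroupOf_eq_top.1 e))
  have := h.isPGroup.isNilpotent
  have hnorm : M.Normal := Subgroup.NormalizerCondition.normal_of_coatom M
    Group.normalizerCondition_of_isNilpotent hM
  have hcomm : _root_.commutator S ≤ M := by
    have hidx : M.index = p := by
      obtain ⟨k, hk⟩ := h.isPGroup.index M
      rcases k with _ | _ | k
      · exact absurd (index_eq_one.1 (by simpa using hk)) hM.1
      · simpa using hk
      · exfalso
        obtain ⟨g, hg⟩ := exists_prime_orderOf_dvd_card' (G := S ⧸ M) p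
          (by rw [← Subgroup.index_eq_card, hk]; exact dvd_pow_self p (by omega))
        set K := (zpowers g).comap (QuotientGroup.mk' M)
        have hMK : M < K := by
          refine lt_of_le_of_ne (fun m hm => ?_) fun e => ?_
          · show QuotientGroup.mk' M m ∈ zpowers g
            rw [QuotientGroup.mk'_apply, (QuotientGroup.eq_one_iff m).2 hm]
            exact one_mem _
          · obtain ⟨u, rfl⟩ := QuotientGroup.mk'_surjective M g
            have hu : u ∈ K := mem_zpowers (QuotientGroup.mk' M u)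
            rw [← e] at hu
            rw [QuotientGroup.mk'_apply, (QuotientGroup.eq_one_iff u).2 hu, orderOf_one] at hg
            exact h.prime.one_lt.ne hg
        have h1 := (hM.2 K hMK)
        have h2 : zpowers g = ⊤ := by
          rw [← Subgroup.map_comap_eq_self_of_surjective (QuotientGroup.mk'_surjective M) (zpowers g)]
          show K.map _ = ⊤
          rw [h1, Subgroup.map_top_of_surjective _ (QuotientGroup.mk'_surjective M)]
        have h3 := Nat.card_zpowers g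
        rw [h2, Subgroup.card_top, ← Subgroup.index_eq_card, hk, hg] at h3
        have h5 := Nat.pow_right_injective h.prime.two_le (h3.trans (pow_one p).symm)
        omega
    have := IsPGroup.isMulCommutative_of_card_eq_prime_sq (p := p) (G := S ⧸ M)
    rw [_root_.commutator_def, Subgroup.commutator_le]
    intro a _ b _
    have hcyc : IsCyclic (S ⧸ M) := isCyclic_of_prime_card (p := p)
      (by rw [← Subgroup.index_eq_card]; exact hidx)
    rw [← QuotientGroup.eq_one_iff, ← QuotientGroup.mk'_apply, map_commutatorElement,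
      commutatorElement_eq_one_iff_mul_comm]
    exact hcyc.isMulCommutative.is_comm.comm _ _
  refine hM.1 (eq_top_iff.2 fun x _ => ?_)
  have hlow : Subgroup.upperCentralSeries S (n - 2) ≤ M := by
    rw [← h.lower_eq_upper (h.sub_upper_top hn) (i := n - 2) (by omega),
      show n - 1 - (n - 2) = 1 by omega, Subgroup.top_lowerCentralSeries_one]
    exact hcomm
  have hx : (x : Ω) ∈ H ⊔ zTerm S (n - 2) := hsup x.2
  have hle' : H ⊔ zTerm S (n - 2) ≤ M.map S.subtype := sup_le
    (fun y hy => ⟨⟨y, hH hy⟩, hle hy, rfl⟩) (Subgroup.map_mono hlow)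
  obtain ⟨y, hy, hyx⟩ := hle' hx
  rwa [Subtype.coe_injective hyx] at hy

/-- `S` is not generated by two commuting elements and the term `n - 2`. -/
theorem not_commutative_gen (hn : 5 ≤ n) {a b : Ω} (ha : a ∈ S) (hb : b ∈ S) (hab : a * b = b * a)
    (hsup : S ≤ (zpowers a ⊔ zpowers b) ⊔ zTerm S (n - 2)) : False := by
  have hS := h.eq_of_sup_top (by omega) (sup_le (zpowers_le.2 ha) (zpowers_le.2 hb)) hsup
  have hc : zpowers a ⊔ zpowers b ≤ centralizer ((zpowers a ⊔ zpowers b : Subgroup Ω) : Set Ω) := by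
    refine sup_le (zpowers_le.2 ?_) (zpowers_le.2 ?_)
    all_goals
      rw [← zpowers_le, le_centralizer_iff]
      refine sup_le (zpowers_le.2 ?_) (zpowers_le.2 ?_)
    all_goals
      rw [mem_centralizer_iff]
      rintro _ ⟨j, rfl⟩
    · exact (Commute.refl a).zpow_left j
    · exact (show Commute a b from hab).zpow_left j
    · exact (show Commute b a from hab.symm).zpow_left j
    · exact (Commute.refl b).zpow_left j
  rw [hS] at hc
  obtain ⟨x, hx, hx'⟩ := h.exists_layer (i := 2) (by omega) (by omega)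
  refine hx' (mem_zTerm_succ (zTerm_le S 2 hx) fun s hs => ?_)
  rw [zTerm_zero, Subgroup.mem_bot, commutatorElement_eq_one_iff_mul_comm]
  exact mem_centralizer_iff.1 (hc hs) x (zTerm_le S 2 hx)

theorem pow_p_mem_top (hn : 5 ≤ n) {g : Ω} (hg : g ∈ S) : g ^ p ∈ zTerm S (n - 2) := by
  have := h.finite
  have := Fact.mk h.prime
  by_contra hgp
  refine h.not_commutative_gen hn hg hg rfl ?_
  set N := Subgroup.upperCentralSeries S (n - 2)
  have hidx : N.index = p ^ 2 := by
    refine Nat.eq_of_mul_eq_mul_left (pow_pos h.prime.pos (n - 2)) ?_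
    have h1 := card_mul_index N
    rw [h.card_upper le_rfl, h.card_eq] at h1
    rw [h1, ← pow_add]
    congr 1
    omega
  have ho : orderOf ((⟨g, hg⟩ : S) : S ⧸ N) = p ^ 2 := by
    refine orderOf_eq_prime_pow (fun e => hgp (mem_zTerm.2 ⟨pow_mem hg p, ?_⟩)) ?_
    · rw [pow_one, ← QuotientGroup.mk_pow, QuotientGroup.eq_one_iff] at e
      exact e
    · rw [← hidx, Subgroup.index_eq_card]
      exact pow_card_eq_one'
  intro x hx
  have hmem : ((⟨x, hx⟩ : S) : S ⧸ N) ∈ zpowers ((⟨g, hg⟩ : S) : S ⧸ N) := by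
    have htop : zpowers ((⟨g, hg⟩ : S) : S ⧸ N) = ⊤ := Subgroup.eq_top_of_card_eq _ (by
      rw [Nat.card_zpowers, ho, ← hidx, Subgroup.index_eq_card])
    rw [htop]
    exact mem_top _
  obtain ⟨j, hj⟩ := hmem
  have h1 : (⟨g, hg⟩ : S) ^ (-j) * ⟨x, hx⟩ ∈ N := by
    rw [zpow_neg]
    refine QuotientGroup.eq.1 ?_
    rw [QuotientGroup.mk_zpow]
    exact hj
  have h2 : g ^ (-j) * x ∈ zTerm S (n - 2) := ⟨_, h1, by simp⟩
  have h3 := mul_mem (mem_sup_left (mem_sup_left (zpow_mem (mem_zpowers g) j)) :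
    g ^ j ∈ (zpowers g ⊔ zpowers g) ⊔ zTerm S (n - 2)) (mem_sup_right h2)
  simpa using h3

end MaxClass

end CfsgLib.PMaxClass
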