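import Mathlib.GroupTheory.Commutator.Basic
import Mathlib.GroupTheory.PGroup
import Mathlib.Data.Nat.Choose.Dvd

/-!
# The leading term of `(a x) ^ p x ^ (-p)` along a filtration

`W` is a descending sequence of normal subgroups with `[W s, W t] ≤ W (s + t + 1)` and `x` moves
`W s` into `W (s + 1)` for `s ≥ 1`.  Sequences which are polynomial along `W` are closed under
products, and the top difference is additive modulo one more step.  So `(a x) ^ p x ^ (-p)` is
congruent to `d * a ^ p` modulo `W (p + 1)`, where `d` is the `(p - 1)`-fold commutator of `a`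
with `x`, as soon as `p`-th powers of elements of `W k`, `k ≥ 2`, lie in `W (p + 1)`.
-/

set_option autoImplicit false

namespace CfsgLib.PMaxClass

open Subgroup
open scoped commutatorElement

variable {G : Type*} [Group G]

/-- A descending series of normal subgroups, commutators falling by one more step than the sum. -/
structure Filtered (W : ℕ → Subgroup G) : Prop where
  anti : ∀ {s t : ℕ}, s ≤ t → W t ≤ W s
  normal : ∀ s, (W s).Normal
  comm : ∀ s t, ⁅W s, W t⁆ ≤ W (s + t + 1)

/-- The forward difference. -/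
def diff (f : ℕ → G) : ℕ → G := fun n => (f n)⁻¹ * f (n + 1)

/-- The iterated forward difference. -/
def diffs : ℕ → (ℕ → G) → ℕ → G
  | 0, f => f
  | m + 1, f => diffs m (diff f)

/-- The first `m` differences of `f` descend along `W` from level `s`. -/
def PolyW (W : ℕ → Subgroup G) : ℕ → ℕ → (ℕ → G) → Prop
  | 0, s, f => ∀ n, f n ∈ W s
  | m + 1, s, f => (∀ n, f n ∈ W s) ∧ PolyW W m (s + 1) (diff f)

variable {W : ℕ → Subgroup G}

theorem PolyW.values : ∀ {m s : ℕ} {f : ℕ → G}, PolyW W m s f → ∀ n, f n ∈ W s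
  | 0, _, _, h => h
  | _ + 1, _, _, h => h.1

theorem PolyW.depth : ∀ {m s : ℕ} {f : ℕ → G}, PolyW W (m + 1) s f → PolyW W m s f
  | 0, _, _, h => h.1
  | m + 1, _, _, h => ⟨h.1, PolyW.depth (m := m) h.2⟩

theorem PolyW.level (hW : Filtered W) :
    ∀ {m s t : ℕ} {f : ℕ → G}, t ≤ s → PolyW W m s f → PolyW W m t f
  | 0, _, _, _, hts, h => fun n => hW.anti hts (h n)
  | m + 1, _, _, _, hts, h =>
    ⟨fun n => hW.anti hts (h.1 n), PolyW.level hW (m := m) (by omega) h.2⟩

theorem PolyW.diffs_mem : ∀ {m s : ℕ} {f : ℕ → G}, PolyW W m s f → ∀ n, diffs m f n ∈ W (s + m)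
  | 0, _, _, h => h
  | m + 1, s, f, h => fun n => by
    rw [show s + (m + 1) = s + 1 + m by omega]
    exact PolyW.diffs_mem (m := m) h.2 n

theorem diffs_one : ∀ (m n : ℕ), diffs m (fun _ => (1 : G)) n = 1
  | 0, _ => rfl
  | m + 1, n => by
    show diffs m (diff fun _ => (1 : G)) n = 1
    rw [show diff (fun _ => (1 : G)) = fun _ => (1 : G) by funext k; simp [diff]]
    exact diffs_one m n

theorem diffs_const : ∀ (m : ℕ), 1 ≤ m → ∀ (c : G) (n : ℕ), diffs m (fun _ => c) n = 1
  | m + 1, _, c, n => by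
    show diffs m (diff fun _ => c) n = 1
    rw [show diff (fun _ => c) = fun _ => (1 : G) by funext k; simp [diff]]
    exact diffs_one m n

theorem diffs_eq : ∀ (m : ℕ) (f : ℕ → G) (n : ℕ),
    (∀ j < m, f (n + j) = 1) → diffs m f n = f (n + m) := by
  intro m
  induction m with
  | zero => intros; rfl
  | succ m ih =>
    intro f n h
    show diffs m (diff f) n = _
    rw [ih (diff f) n fun j hj => by
      simp [diff, h j (by omega), show n + j + 1 = n + (j + 1) by omega, h (j + 1) (by omega)]]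
    simp [diff, h m (by omega), show n + m + 1 = n + (m + 1) by omega]

/-- Products, inverses and commutators. -/
theorem PolyW.closed (hW : Filtered W) (m : ℕ) :
    (∀ (s : ℕ) (f g : ℕ → G), PolyW W m s f → PolyW W m s g → PolyW W m s (fun n => f n * g n)) ∧
    (∀ (s : ℕ) (f : ℕ → G), PolyW W m s f → PolyW W m s (fun n => (f n)⁻¹)) ∧
    ∀ (s t : ℕ) (f g : ℕ → G), PolyW W m s f → PolyW W m t g →
      PolyW W m (s + t + 1) (fun n => ⁅f n, g n⁆) := by
  induction m with
  | zero =>
    exact ⟨fun s f g hf hg n => mul_mem (hf n) (hg n), fun s f hf n => inv_mem (hf n),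
      fun s t f g hf hg n => hW.comm s t (commutator_mem_commutator (hf n) (hg n))⟩
  | succ m ih =>
    obtain ⟨hmul, hinv, hcomm⟩ := ih
    have hconj : ∀ (s t : ℕ) (f g : ℕ → G), PolyW W m s f → PolyW W m t g →
        PolyW W m s (fun n => g n * f n * (g n)⁻¹) := by
      intro s t f g hf hg
      have e : (fun n => g n * f n * (g n)⁻¹) = fun n => ⁅g n, f n⁆ * f n := by
        funext n; rw [commutatorElement_def]; group
      rw [e]
      exact hmul s _ _ ((hcomm t s g f hg hf).level hW (by omega)) hf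
    refine ⟨?_, ?_, ?_⟩
    · intro s f g hf hg
      refine ⟨fun n => mul_mem (hf.1 n) (hg.1 n), ?_⟩
      have e : diff (fun n => f n * g n) = fun n =>
          ((g n)⁻¹ * diff f n * ((g n)⁻¹)⁻¹) * diff g n := by
        funext n; simp only [diff]; group
      rw [e]
      exact hmul _ _ _ (hconj (s + 1) s _ _ hf.2 (hinv s g hg.depth)) hg.2
    · intro s f hf
      refine ⟨fun n => inv_mem (hf.1 n), ?_⟩
      have e : diff (fun n => (f n)⁻¹) = fun n => f n * (diff f n)⁻¹ * (f n)⁻¹ := by
        funext n; simp only [diff]; group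
      rw [e]
      exact hconj (s + 1) s _ _ (hinv _ _ hf.2) hf.depth
    · intro s t f g hf hg
      refine ⟨fun n => hW.comm s t (commutator_mem_commutator (hf.1 n) (hg.1 n)), ?_⟩
      have e : diff (fun n => ⁅f n, g n⁆) = fun n =>
          (⁅f n, g n⁆⁻¹ * (f n * ⁅diff f n, g n⁆ * (f n)⁻¹) * (⁅f n, g n⁆⁻¹)⁻¹) *
            (g n * (f n * ⁅diff f n, diff g n⁆ * (f n)⁻¹) * (g n)⁻¹ *
              (g n * ⁅f n, diff g n⁆ * (g n)⁻¹)) := by
        funext n; simp only [diff, commutatorElement_def]; group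
      rw [e]
      have hf0 := hf.depth
      have hg0 := hg.depth
      refine hmul _ _ _ ?_ (hmul _ _ _ ?_ ?_)
      · refine hconj _ (s + t + 1) _ _ ?_ (hinv _ _ (hcomm s t f g hf0 hg0))
        refine hconj _ s _ _ ?_ hf0
        exact (hcomm (s + 1) t _ g hf.2 hg0).level hW (by omega)
      · refine hconj _ t _ _ ?_ hg0
        refine hconj _ s _ _ ?_ hf0
        exact (hcomm (s + 1) (t + 1) _ _ hf.2 hg.2).level hW (by omega)
      · refine hconj _ t _ _ ?_ hg0
        exact (hcomm s (t + 1) f _ hf0 hg.2).level hW (by omega)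

/-- The top difference is additive one step further down. -/
theorem diffs_mul (hW : Filtered W) : ∀ (m s : ℕ) (f g : ℕ → G) (n : ℕ),
    PolyW W m s f → PolyW W m s g →
    (diffs m (fun k => f k * g k) n)⁻¹ * (diffs m f n * diffs m g n) ∈ W (s + m + 1) := by
  intro m
  induction m with
  | zero =>
    intro s f g n _ _
    rw [show diffs 0 (fun k => f k * g k) n = f n * g n from rfl,
      show diffs 0 f n * diffs 0 g n = f n * g n from rfl, inv_mul_cancel]
    exact one_mem _
  | succ m ih =>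
    intro s f g n hf hg
    have hN := hW.normal (s + (m + 1) + 1)
    let M : ℕ → G := fun k => ⁅(diff f k)⁻¹, (g k)⁻¹⁆
    obtain ⟨hmul, hinv, hcomm⟩ := PolyW.closed hW m
    have hM : PolyW W m (s + 1 + s + 1) M := hcomm _ _ _ _ (hinv _ _ hf.2) (hinv _ _ hg.depth)
    have hM1 : PolyW W m (s + 1) M := hM.level hW (by omega)
    have e : diff (fun k => f k * g k) = fun k => (diff f k * M k) * diff g k := by
      funext k; simp only [diff, M, commutatorElement_def]; group
    show (diffs m (diff fun k => f k * g k) n)⁻¹ * (diffs m (diff f) n * diffs m (diff g) n) ∈ _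
    have h1 := ih (s + 1) _ _ n (hmul _ _ _ hf.2 hM1) hg.2
    have h2 := ih (s + 1) _ _ n hf.2 hM1
    rw [show s + 1 + m + 1 = s + (m + 1) + 1 by omega] at h1 h2
    have h3 : diffs m M n ∈ W (s + (m + 1) + 1) := hW.anti (by omega) (hM.diffs_mem n)
    rw [e]
    rw [← QuotientGroup.eq, QuotientGroup.mk_mul] at h1 h2 ⊢
    rw [← QuotientGroup.eq_one_iff] at h3
    rw [h1, h2, h3, mul_one]

theorem PolyW.one : ∀ {m s : ℕ}, PolyW W m s (fun _ => (1 : G))
  | 0, _ => fun _ => one_mem _
  | m + 1, s => ⟨fun _ => one_mem _, by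
      rw [show diff (fun _ => (1 : G)) = fun _ => (1 : G) by funext k; simp [diff]]
      exact (PolyW.one : PolyW W m (s + 1) fun _ => (1 : G))⟩

theorem diff_choose (c : G) (k : ℕ) :
    diff (fun n : ℕ => c ^ n.choose (k + 1)) = fun n => c ^ n.choose k := by
  funext n
  simp only [diff]
  rw [Nat.choose_succ_succ', pow_add, (Commute.pow_pow_self c _ _).eq, inv_mul_cancel_left]

theorem PolyW.choose (hW : Filtered W) : ∀ (k m s : ℕ) (c : G), c ∈ W (s + k) →
    PolyW W m s (fun n : ℕ => c ^ n.choose k) := by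
  intro k
  induction k with
  | zero =>
    intro m s c hc
    cases m with
    | zero => intro n; simpa using hc
    | succ m =>
      refine ⟨fun n => by simpa using hc, ?_⟩
      rw [show diff (fun n : ℕ => c ^ n.choose 0) = fun _ => (1 : G) by funext j; simp [diff]]
      exact PolyW.one
  | succ k ih =>
    intro m s c hc
    have h0 : ∀ n : ℕ, c ^ n.choose (k + 1) ∈ W s := fun n => pow_mem (hW.anti (by omega) hc) _
    cases m with
    | zero => exact h0
    | succ m =>
      refine ⟨h0, ?_⟩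
      rw [diff_choose]
      exact ih m (s + 1) c (by rwa [show s + 1 + k = s + (k + 1) by omega])

theorem diffs_choose : ∀ (k m : ℕ) (c : G) (n : ℕ), k < m →
    diffs m (fun j : ℕ => c ^ j.choose k) n = 1 := by
  intro k
  induction k with
  | zero =>
    intro m c n hm
    simpa using diffs_const m (by omega) c n
  | succ k ih =>
    intro m c n hm
    obtain ⟨m, rfl⟩ : ∃ m', m = m' + 1 := ⟨m - 1, by omega⟩
    show diffs m (diff _) n = 1
    rw [diff_choose]
    exact ih m c n (by omega)

/-- The value at the first possibly nontrivial place lies deep. -/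
theorem PolyW.value_mem {k m s : ℕ} {f : ℕ → G} (h : PolyW W m s f) (hk : k ≤ m)
    (h1 : ∀ j < k, f j = 1) : f k ∈ W (s + k) := by
  induction m with
  | zero =>
    obtain rfl : k = 0 := by omega
    exact h 0
  | succ m ih =>
    rcases hk.eq_or_lt with rfl | hlt
    · have := h.diffs_mem 0
      rwa [diffs_eq _ f 0 (by simpa using h1), zero_add] at this
    · exact ih h.depth (by omega)

/-- The iterated commutator of `a` with `x`. -/
def dcomm (x a : G) : ℕ → G
  | 0 => a
  | k + 1 => (dcomm x a k)⁻¹ * (x * dcomm x a k * x⁻¹)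

theorem dcomm_succ' (x a : G) : ∀ k,
    dcomm x a (k + 1) = dcomm x (a⁻¹ * (x * a * x⁻¹)) k := by
  intro k
  induction k with
  | zero => rfl
  | succ k ih => rw [dcomm, ih]; rfl

section Main

variable (hW : Filtered W) {x : G} (hx : ∀ s, 1 ≤ s → ∀ d ∈ W s, d⁻¹ * (x * d * x⁻¹) ∈ W (s + 1))

theorem diffs_conj_seq : ∀ (m : ℕ) (d : G) (n : ℕ),
    diffs m (fun k => x ^ k * d * (x ^ k)⁻¹) n = x ^ n * dcomm x d m * (x ^ n)⁻¹ := by
  intro m
  induction m with
  | zero => intros; rfl
  | succ m ih =>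
    intro d n
    show diffs m (diff _) n = _
    rw [show diff (fun k => x ^ k * d * (x ^ k)⁻¹) =
        fun k => x ^ k * (d⁻¹ * (x * d * x⁻¹)) * (x ^ k)⁻¹ by
      funext k; simp only [diff, pow_succ]; group, ih, dcomm_succ']

include hW hx

theorem PolyW.conj_seq : ∀ (m s : ℕ) (d : G), 1 ≤ s → d ∈ W s →
    PolyW W m s (fun k => x ^ k * d * (x ^ k)⁻¹) := by
  intro m
  induction m with
  | zero => intro s d _ hd n; exact (hW.normal s).conj_mem d hd _
  | succ m ih =>
    intro s d hs hd
    refine ⟨fun n => (hW.normal s).conj_mem d hd _, ?_⟩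
    rw [show diff (fun k => x ^ k * d * (x ^ k)⁻¹) =
        fun k => x ^ k * (d⁻¹ * (x * d * x⁻¹)) * (x ^ k)⁻¹ by
      funext k; simp only [diff, pow_succ]; group]
    exact ih (s + 1) _ (by omega) (hx s hs d hd)

/-- The main congruence. -/
theorem mul_pow_congr {p : ℕ} [hp : Fact p.Prime]
    (hpw : ∀ k, 2 ≤ k → k < p → ∀ c ∈ W k, c ^ p ∈ W (p + 1)) {a : G} (ha : a ∈ W 1) :
    ((a * x) ^ p * (x ^ p)⁻¹)⁻¹ * (dcomm x a (p - 1) * a ^ p) ∈ W (p + 1) := by
  have := hW.normal (p + 1)
  have hp2 := hp.out.two_le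
  set F : ℕ → G := fun k => (a * x) ^ k * (x ^ k)⁻¹ with hF
  have hdiff : diff F = fun k => x ^ k * a * (x ^ k)⁻¹ := by
    funext k; simp only [diff, hF, pow_succ]; group
  have hF0 : ∀ n, F n ∈ W 0 := by
    intro n
    induction n with
    | zero => simp [hF]
    | succ n ih =>
      rw [show F (n + 1) = F n * diff F n by simp [diff]]
      refine mul_mem ih ?_
      rw [hdiff]
      exact (hW.normal 0).conj_mem a (hW.anti (Nat.zero_le 1) ha) _
  have hFp : ∀ m, PolyW W m 0 F := by
    intro m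
    cases m with
    | zero => exact hF0
    | succ m => exact ⟨hF0, by rw [hdiff]; exact PolyW.conj_seq hW hx m 1 a le_rfl ha⟩
  have hFd : diffs p F 0 = dcomm x a (p - 1) := by
    obtain ⟨q, hq⟩ : ∃ q, p = q + 1 := ⟨p - 1, by omega⟩
    rw [hq]
    show diffs q (diff F) 0 = _
    rw [hdiff, diffs_conj_seq]
    simp
  -- corrected sequences
  have step : ∀ k, k + 2 ≤ p → ∃ (h : ℕ → G), PolyW W p 0 h ∧ (∀ j < k + 2, h j = 1) ∧
      ((diffs p h 0 : G) : G ⧸ W (p + 1)) = (dcomm x a (p - 1) : G) ∧
      ((h p : G) : G ⧸ W (p + 1)) = (F p : G) * ((a ^ p)⁻¹ : G) := by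
    intro k
    induction k with
    | zero =>
      intro _
      have hq : PolyW W p 0 (fun n : ℕ => a⁻¹ ^ n.choose 1) :=
        PolyW.choose hW 1 p 0 a⁻¹ (by simpa using inv_mem ha)
      refine ⟨fun n => F n * a⁻¹ ^ n.choose 1, (PolyW.closed hW p).1 0 _ _ (hFp p) hq, ?_, ?_, ?_⟩
      · intro j hj
        interval_cases j
        · simp [hF]
        · simp [hF]
      · have h1 := diffs_mul hW p 0 F _ 0 (hFp p) hq
        rw [diffs_choose 1 p a⁻¹ 0 (by omega), hFd, mul_one, zero_add] at h1
        exact QuotientGroup.eq.2 h1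
      · simp [Nat.choose_one_right]
    | succ k ih =>
      intro hk
      obtain ⟨h, hpol, h1, hd, hv⟩ := ih (by omega)
      set c := h (k + 2) with hc
      have hcW : c ∈ W (k + 2) := by simpa using hpol.value_mem (k := k + 2) (by omega) h1
      have hq : PolyW W p 0 (fun n : ℕ => c⁻¹ ^ n.choose (k + 2)) :=
        PolyW.choose hW (k + 2) p 0 c⁻¹ (by simpa using inv_mem hcW)
      refine ⟨fun n => h n * c⁻¹ ^ n.choose (k + 2), (PolyW.closed hW p).1 0 _ _ hpol hq, ?_, ?_, ?_⟩
      · intro j hj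
        rcases Nat.lt_or_ge j (k + 2) with hjk | hjk
        · simp [h1 j hjk, Nat.choose_eq_zero_of_lt hjk]
        · obtain rfl : j = k + 2 := by omega
          simp [← hc]
      · have h2 := diffs_mul hW p 0 h _ 0 hpol hq
        rw [diffs_choose (k + 2) p c⁻¹ 0 (by omega), mul_one, zero_add] at h2
        exact (QuotientGroup.eq.2 h2).trans hd
      · show ((h p * c⁻¹ ^ p.choose (k + 2) : G) : G ⧸ W (p + 1)) = _
        have hcp : ((c⁻¹ ^ p.choose (k + 2) : G) : G ⧸ W (p + 1)) = 1 := by
          rw [QuotientGroup.eq_one_iff]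
          obtain ⟨e, he⟩ := hp.out.dvd_choose_self (k := k + 2) (by omega) (by omega)
          rw [he, pow_mul]
          exact pow_mem (hpw (k + 2) (by omega) (by omega) _ (inv_mem hcW)) e
        rw [QuotientGroup.mk_mul, hcp, mul_one, hv]
  obtain ⟨h, -, h1, hd, hv⟩ := step (p - 2) (by omega)
  rw [diffs_eq p h 0 (fun j hj => by rw [zero_add]; exact h1 j (by omega)), zero_add, hv] at hd
  rw [← QuotientGroup.eq, QuotientGroup.mk_mul _ (dcomm x a (p - 1)), ← hd]
  simp [hF]

end Main

end CfsgLib.PMaxClass
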