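import Cfsg.Agent.PMaxClass.AbelianTerm
import Cfsg.Agent.PMaxClass.Filtration
import Cfsg.Agent.PMaxClass.Criterion

/-!
# Uniform elements of groups of maximal class, and `p`-th powers

* `MaxClass.upper_top`: the upper series reaches the top after `n - 1` steps.
* `Uniform`: `x` moves every layer `U_j/U_(j-1)`, `2 ≤ j ≤ n - 2`, onto the next one.
* `MaxClass.uniform_of_centralizer`: an element outside `U_(n-2)` with centraliser of order `p ^ 2`
  is uniform.
* `MaxClass.pow_level`: if every element of `U_(n-2) x` has order dividing `p`, the `p`-th power of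
  an element of exact level `j ≥ p` has exact level `j + 1 - p`.
-/

set_option autoImplicit false
set_option linter.style.haveILetI false

namespace CfsgLib.PMaxClass

open Subgroup
open scoped commutatorElement

variable {G : Type*} [Group G] {p n : ℕ}

/-- The element moves each layer of the upper series onto the next one. -/
def Uniform (G : Type*) [Group G] (n : ℕ) (x : G) : Prop :=
  ∀ j, 2 ≤ j → j + 2 ≤ n → ∀ a ∈ Subgroup.upperCentralSeries G j,
    a ∉ Subgroup.upperCentralSeries G (j - 1) → ⁅a, x⁆ ∉ Subgroup.upperCentralSeries G (j - 2)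

namespace MaxClass

theorem index_upper (h : MaxClass G p n) (hn : 2 ≤ n) :
    (Subgroup.upperCentralSeries G (n - 2)).index = p ^ 2 := by
  refine Nat.eq_of_mul_eq_mul_left (pow_pos h.prime.pos (n - 2)) ?_
  have h1 := card_mul_index (Subgroup.upperCentralSeries G (n - 2))
  rw [h.card_upper le_rfl, h.card_eq] at h1
  rw [h1, ← pow_add, Nat.sub_add_cancel hn]

theorem commutator_mem_upper (h : MaxClass G p n) (hn : 2 ≤ n) (a b : G) :
    ⁅a, b⁆ ∈ Subgroup.upperCentralSeries G (n - 2) := by
  have := Fact.mk h.prime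
  have hc := IsPGroup.isMulCommutative_of_card_eq_prime_sq (p := p)
    (G := G ⧸ Subgroup.upperCentralSeries G (n - 2)) (h.index_upper hn)
  rw [← QuotientGroup.eq_one_iff, ← QuotientGroup.mk'_apply, map_commutatorElement,
    commutatorElement_eq_one_iff_mul_comm]
  exact hc.is_comm.comm _ _

theorem upper_top (h : MaxClass G p n) (hn : 2 ≤ n) :
    Subgroup.upperCentralSeries G (n - 1) = ⊤ := by
  refine eq_top_iff.2 fun a _ => ?_
  rw [show n - 1 = n - 2 + 1 by omega, Subgroup.mem_upperCentralSeries_succ_iff]
  exact fun b => h.commutator_mem_upper hn a b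

/-- An element with centraliser of order `p ^ 2` avoids `U_(n-2)`. -/
theorem not_mem_of_centralizer (h : MaxClass G p n) (hn : 4 ≤ n) {x : G}
    (hx : Nat.card (centralizer ({x} : Set G)) = p ^ 2) :
    x ∉ Subgroup.upperCentralSeries G (n - 2) := by
  have := h.finite
  have := Fact.mk h.prime
  intro hmem
  have h2 : Subgroup.upperCentralSeries G 2 ≤ centralizer ({x} : Set G) := by
    intro u hu
    rw [mem_centralizer_singleton_iff, ← commutatorElement_eq_one_iff_mul_comm]
    have := h.commutator_upper_upper (h.upper_top (by omega)) (i := n - 2) (j := 2) (by omega)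
      (commutator_mem_commutator hmem hu)
    rw [show 2 + (n - 2) - n = 0 by omega, Subgroup.upperCentralSeries_zero, mem_bot] at this
    rw [← commutatorElement_inv, this, inv_one]
  have heq : Subgroup.upperCentralSeries G 2 = centralizer ({x} : Set G) :=
    eq_of_le_of_card_ge h2 (by rw [hx, h.card_upper (by omega)])
  have hxU : x ∈ Subgroup.upperCentralSeries G 2 := heq ▸ mem_centralizer_singleton_iff.2 rfl
  have hle : centralizer (Subgroup.upperCentralSeries G 2 : Set G) ≤ centralizer ({x} : Set G) :=
    centralizer_le (Set.singleton_subset_iff.2 hxU)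
  have h3 := index_dvd_of_le hle
  have h4 := card_mul_index (centralizer ({x} : Set G))
  rw [(h.index_centralizer_two hn).1] at h3
  rw [hx, h.card_eq] at h4
  have h5 : (centralizer ({x} : Set G)).index ≤ p := Nat.le_of_dvd h.prime.pos h3
  have h6 : p ^ n ≤ p ^ 3 := by
    rw [← h4, pow_succ p 2]
    exact Nat.mul_le_mul_left _ h5
  have := (Nat.pow_le_pow_iff_right h.prime.one_lt).1 h6
  omega

theorem uniform_of_centralizer (h : MaxClass G p n) (hn : 3 ≤ n) {x : G}
    (hx : Nat.card (centralizer ({x} : Set G)) = p ^ 2)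
    (hxU : x ∉ Subgroup.upperCentralSeries G (n - 2)) : Uniform G n x := by
  have := h.finite
  have := Fact.mk h.prime
  intro j hj hjn a ha ha' hbad
  set U := Subgroup.upperCentralSeries G with hU
  -- everything in `U j` moves `x` by an element of `U (j - 2)`
  let q := QuotientGroup.mk' (U (j - 2))
  have hsup : U (j - 1) ⊔ zpowers a = U j := by
    refine eq_of_le_of_card_ge (sup_le (Subgroup.upperCentralSeries_mono G (by omega))
      (zpowers_le.2 ha)) ?_
    have h1 := card_mul_le_of_lt h.isPGroup (lt_of_le_of_ne le_sup_left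
      fun (e : U (j - 1) = U (j - 1) ⊔ zpowers a) =>
        ha' (e.symm ▸ mem_sup_right (mem_zpowers a) : a ∈ U (j - 1)))
    rw [h.card_upper (by omega)] at h1
    rw [h.card_upper (by omega)]
    calc p ^ j = p ^ (j - 1) * p := by rw [← pow_succ, Nat.sub_add_cancel (by omega)]
      _ ≤ _ := h1
  have hall : ∀ g ∈ U j, ⁅g, x⁆ ∈ U (j - 2) := by
    intro g hg
    have hle : U (j - 1) ⊔ zpowers a ≤ (centralizer ({q x} : Set _)).comap q := by
      refine sup_le (fun y hy => ?_) (zpowers_le.2 ?_)
      · rw [mem_comap, mem_centralizer_singleton_iff, ← commutatorElement_eq_one_iff_mul_comm,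
          ← map_commutatorElement, QuotientGroup.mk'_apply, QuotientGroup.eq_one_iff]
        rw [show j - 1 = j - 2 + 1 by omega] at hy
        exact Subgroup.mem_upperCentralSeries_succ_iff.1 hy x
      · rw [mem_comap, mem_centralizer_singleton_iff, ← commutatorElement_eq_one_iff_mul_comm,
          ← map_commutatorElement, QuotientGroup.mk'_apply, QuotientGroup.eq_one_iff]
        exact hbad
    have := hle (hsup.symm ▸ hg)
    rwa [mem_comap, mem_centralizer_singleton_iff, ← commutatorElement_eq_one_iff_mul_comm,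
      ← map_commutatorElement, QuotientGroup.mk'_apply, QuotientGroup.eq_one_iff] at this
  -- the kernel is small
  set C := centralizer ({x} : Set G) with hC
  have hker : Nat.card ↥(C ⊓ U j) ≤ p := by
    have hlt : C ⊓ U j < C := lt_of_le_of_ne inf_le_left fun e => hxU
      (Subgroup.upperCentralSeries_mono G (show j ≤ n - 2 by omega)
        ((inf_eq_left.1 e) (mem_centralizer_singleton_iff.2 rfl)))
    have h1 := card_mul_le_of_lt h.isPGroup hlt
    rw [hx, sq] at h1
    exact Nat.le_of_mul_le_mul_right h1 h.prime.pos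
  have himg : (C ⊓ U j).relIndex (U j) ≤ Nat.card (U (j - 2)) := by
    refine Nat.card_le_card_of_injective (Quotient.lift
      (fun g : U j => (⟨⁅(g : G), x⁆, hall g g.2⟩ : U (j - 2))) ?_) ?_
    · intro b c hbc
      have h2 : (b : G)⁻¹ * c ∈ C ⊓ U j :=
        (QuotientGroup.leftRel_apply.1 hbc : _ ∈ (C ⊓ U j).subgroupOf (U j))
      have h3 := mem_centralizer_singleton_iff.1 h2.1
      refine Subtype.ext ?_
      show ⁅(b : G), x⁆ = ⁅(c : G), x⁆
      calc ⁅(b : G), x⁆ = b * (x * ((b : G)⁻¹ * c)) * (c : G)⁻¹ * x⁻¹ := by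
            rw [commutatorElement_def]; group
        _ = b * (((b : G)⁻¹ * c) * x) * (c : G)⁻¹ * x⁻¹ := by rw [h3]
        _ = ⁅(c : G), x⁆ := by rw [commutatorElement_def]; group
    · intro b c
      induction b using QuotientGroup.induction_on with
      | _ b =>
      induction c using QuotientGroup.induction_on with
      | _ c =>
      intro hbc
      have h2 : ⁅(b : G), x⁆ = ⁅(c : G), x⁆ := congrArg Subtype.val hbc
      refine QuotientGroup.eq.2 (?_ : (b : G)⁻¹ * c ∈ C ⊓ U j)
      refine ⟨?_, (U j).mul_mem ((U j).inv_mem b.2) c.2⟩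
      show _ ∈ C
      rw [hC, mem_centralizer_singleton_iff]
      rw [commutatorElement_def, commutatorElement_def, mul_left_inj] at h2
      calc (b : G)⁻¹ * c * x = (b : G)⁻¹ * (c * x * (c : G)⁻¹) * c := by group
        _ = (b : G)⁻¹ * (b * x * (b : G)⁻¹) * c := by rw [h2]
        _ = x * ((b : G)⁻¹ * c) := by group
  have hmul : Nat.card ↥(C ⊓ U j) * (C ⊓ U j).relIndex (U j) = Nat.card (U j) := by
    rw [← relIndex_bot_left, relIndex_mul_relIndex _ _ _ bot_le inf_le_right, relIndex_bot_left]
  have h7 := Nat.mul_le_mul hker himg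
  rw [hmul, h.card_upper (by omega), h.card_upper (by omega)] at h7
  have h8 : p ^ j ≤ p ^ (j - 2 + 1) := h7.trans (le_of_eq (by rw [pow_succ, mul_comm]))
  have := (Nat.pow_le_pow_iff_right h.prime.one_lt).1 h8
  omega

/-- The elements of `U_(n-2) x` are conjugate to `x`. -/
theorem exists_conj_eq (h : MaxClass G p n) (hn : 2 ≤ n) {x : G}
    (hx : Nat.card (centralizer ({x} : Set G)) = p ^ 2) {a : G}
    (ha : a ∈ Subgroup.upperCentralSeries G (n - 2)) : ∃ g : G, g * x * g⁻¹ = a * x := by
  have := h.finite
  set C := centralizer ({x} : Set G) with hC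
  let f : G ⧸ C → Subgroup.upperCentralSeries G (n - 2) := Quotient.lift
    (fun g => ⟨⁅g, x⁆, h.commutator_mem_upper hn g x⟩) (fun b c hbc => by
      have h3 := mem_centralizer_singleton_iff.1 (QuotientGroup.leftRel_apply.1 hbc)
      refine Subtype.ext ?_
      show ⁅b, x⁆ = ⁅c, x⁆
      calc ⁅b, x⁆ = b * (x * (b⁻¹ * c)) * c⁻¹ * x⁻¹ := by
            rw [commutatorElement_def]; group
        _ = b * ((b⁻¹ * c) * x) * c⁻¹ * x⁻¹ := by rw [h3]
        _ = ⁅c, x⁆ := by rw [commutatorElement_def]; group)
  have hinj : Function.Injective f := by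
    intro b c
    induction b using QuotientGroup.induction_on with
    | _ b =>
    induction c using QuotientGroup.induction_on with
    | _ c =>
    intro hbc
    have h2 : ⁅b, x⁆ = ⁅c, x⁆ := congrArg Subtype.val hbc
    refine QuotientGroup.eq.2 ?_
    rw [hC, mem_centralizer_singleton_iff]
    rw [commutatorElement_def, commutatorElement_def, mul_left_inj] at h2
    calc b⁻¹ * c * x = b⁻¹ * (c * x * c⁻¹) * c := by group
      _ = b⁻¹ * (b * x * b⁻¹) * c := by rw [h2]
      _ = x * (b⁻¹ * c) := by group
  have hidx : C.index = p ^ (n - 2) := by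
    refine Nat.eq_of_mul_eq_mul_left (pow_pos h.prime.pos 2) ?_
    have h4 := card_mul_index C
    rw [hx, h.card_eq] at h4
    rw [h4, ← pow_add]
    congr 1
    omega
  have hcard : Nat.card (G ⧸ C) = Nat.card (Subgroup.upperCentralSeries G (n - 2)) := by
    rw [← index_eq_card, hidx, h.card_upper le_rfl]
  obtain ⟨y, hy⟩ := ((Nat.bijective_iff_injective_and_card f).2 ⟨hinj, hcard⟩).2 ⟨a, ha⟩
  induction y using QuotientGroup.induction_on with
  | _ g =>
  refine ⟨g, ?_⟩
  have : ⁅g, x⁆ = a := congrArg Subtype.val hy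
  rw [← this, commutatorElement_def]
  group

theorem pow_eq_one_of_mem (h : MaxClass G p n) (hn : 2 ≤ n) {x : G} (hxp : x ^ p = 1)
    (hx : Nat.card (centralizer ({x} : Set G)) = p ^ 2) {a : G}
    (ha : a ∈ Subgroup.upperCentralSeries G (n - 2)) : (a * x) ^ p = 1 := by
  obtain ⟨g, hg⟩ := h.exists_conj_eq hn hx ha
  rw [← hg, conj_pow, hxp]
  group

/-- The filtration below level `j`. -/
def layer (G : Type*) [Group G] (j s : ℕ) : Subgroup G :=
  Subgroup.upperCentralSeries G (min j (j + 1 - s))

theorem filtered_layer (h : MaxClass G p n) {j : ℕ} (hj : j + 2 ≤ n) : Filtered (layer G j) where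
  anti hst := Subgroup.upperCentralSeries_mono G (by omega)
  normal s := by unfold layer; infer_instance
  comm s t := (h.commutator_upper_upper (h.upper_top (by omega)) (by omega)).trans
    (Subgroup.upperCentralSeries_mono G (by omega))

theorem layer_step {j : ℕ} {x : G} (s : ℕ) (hs : 1 ≤ s) (d : G) (hd : d ∈ layer G j s) :
    d⁻¹ * (x * d * x⁻¹) ∈ layer G j (s + 1) := by
  unfold layer at hd ⊢
  rw [show d⁻¹ * (x * d * x⁻¹) = ⁅d⁻¹, x⁆ by rw [commutatorElement_def]; group]
  rcases Nat.eq_zero_or_pos (min j (j + 1 - s)) with h0 | h0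
  · rw [h0, Subgroup.upperCentralSeries_zero, mem_bot] at hd
    rw [hd, inv_one, commutatorElement_one_left]
    exact one_mem _
  · rw [show min j (j + 1 - s) = min j (j + 1 - (s + 1)) + 1 by omega] at hd
    exact Subgroup.mem_upperCentralSeries_succ_iff.1 (inv_mem hd) x

theorem dcomm_mem {j : ℕ} {x a : G} (ha : a ∈ Subgroup.upperCentralSeries G j) :
    ∀ k, dcomm x a k ∈ Subgroup.upperCentralSeries G (j - k) := by
  intro k
  induction k with
  | zero => simpa [dcomm] using ha
  | succ k ih =>
    rw [dcomm, show (dcomm x a k)⁻¹ * (x * dcomm x a k * x⁻¹) = ⁅(dcomm x a k)⁻¹, x⁆ by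
      rw [commutatorElement_def]; group]
    rcases Nat.eq_zero_or_pos (j - k) with h0 | h0
    · rw [h0, Subgroup.upperCentralSeries_zero, mem_bot] at ih
      rw [ih, inv_one, commutatorElement_one_left]
      exact one_mem _
    · rw [show j - k = j - (k + 1) + 1 by omega] at ih
      exact Subgroup.mem_upperCentralSeries_succ_iff.1 (inv_mem ih) x

theorem dcomm_not_mem {x : G} (hu : Uniform G n x) {j : ℕ} (hjn : j + 2 ≤ n) {a : G}
    (ha : a ∈ Subgroup.upperCentralSeries G j) (ha' : a ∉ Subgroup.upperCentralSeries G (j - 1)) :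
    ∀ k, k + 1 ≤ j → dcomm x a k ∉ Subgroup.upperCentralSeries G (j - k - 1) := by
  intro k
  induction k with
  | zero => intro _; simpa [dcomm] using ha'
  | succ k ih =>
    intro hk hmem
    rw [dcomm, show (dcomm x a k)⁻¹ * (x * dcomm x a k * x⁻¹) = ⁅(dcomm x a k)⁻¹, x⁆ by
      rw [commutatorElement_def]; group, show j - (k + 1) - 1 = j - k - 2 by omega] at hmem
    exact hu (j - k) (by omega) (by omega) _ (inv_mem (dcomm_mem ha k))
      (fun hh => ih (by omega) (inv_mem_iff.1 hh)) hmem

/-- `p`-th powers along the upper series. -/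
theorem pow_level (h : MaxClass G p n) {x : G} (hu : Uniform G n x)
    (hx : ∀ a ∈ Subgroup.upperCentralSeries G (n - 2), (a * x) ^ p = 1) :
    ∀ j, j + 2 ≤ n → ∀ a ∈ Subgroup.upperCentralSeries G j,
      a ^ p ∈ Subgroup.upperCentralSeries G (j + 1 - p) ∧
        (p ≤ j → a ∉ Subgroup.upperCentralSeries G (j - 1) →
          a ^ p ∉ Subgroup.upperCentralSeries G (j - p)) := by
  have := Fact.mk h.prime
  intro j
  induction j using Nat.strong_induction_on with
  | _ j ih =>
  intro hjn a ha
  rcases Nat.eq_zero_or_pos j with rfl | hj0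
  · rw [Subgroup.upperCentralSeries_zero, mem_bot] at ha
    subst ha
    exact ⟨by simp, fun hp => absurd hp (by have := h.prime.two_le; omega)⟩
  have hp2 := h.prime.two_le
  have hW := h.filtered_layer hjn
  have hmain := mul_pow_congr hW layer_step (x := x) (fun k hk hkp c hc => by
      unfold layer at hc ⊢
      exact Subgroup.upperCentralSeries_mono G (by omega)
        ((ih (min j (j + 1 - k)) (by omega) (by omega) c hc).1))
    (a := a) (by unfold layer; rwa [show min j (j + 1 - 1) = j by omega])
  have hx1 : x ^ p = 1 := by simpa using hx 1 (one_mem _)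
  rw [hx a (Subgroup.upperCentralSeries_mono G (by omega) ha), hx1, inv_one, mul_one, inv_one,
    one_mul] at hmain
  unfold layer at hmain
  rw [show min j (j + 1 - (p + 1)) = j - p by omega] at hmain
  have hd : dcomm x a (p - 1) ∈ Subgroup.upperCentralSeries G (j + 1 - p) := by
    rw [show j + 1 - p = j - (p - 1) by omega]
    exact dcomm_mem ha _
  refine ⟨?_, fun hpj ha' hmem => ?_⟩
  · have := mul_mem (inv_mem hd) (Subgroup.upperCentralSeries_mono G
      (show j - p ≤ j + 1 - p by omega) hmain)
    simpa using this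
  · refine dcomm_not_mem hu hjn ha ha' (p - 1) (by omega) ?_
    rw [show j - (p - 1) - 1 = j - p by omega]
    simpa using mul_mem hmain (inv_mem hmem)

end MaxClass

end CfsgLib.PMaxClass
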