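import Cfsg.Agent.PMaxClass.Rank
import Cfsg.Agent.FusionEssential.OrderCube
import Cfsg.Agent.FusionRankTwo.Util

/-!
# A pearl gives an element with centraliser of order `p ^ 2`, and hence maximal class
-/

set_option autoImplicit false
set_option linter.style.haveILetI false

namespace CfsgLib.PMaxClass

open Subgroup
open Cfsg Cfsg.FusionSystem CfsgLib.Fusion CfsgLib.FusionEssential
open scoped commutatorElement

variable {Ω : Type*} [Group Ω] {S : Subgroup Ω} {F : FusionSystem S} {E : Subgroup Ω} {p : ℕ}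

theorem mem_normalizer_of_forall {K : Subgroup Ω} [Finite K] {g : Ω}
    (h : ∀ e ∈ K, g * e * g⁻¹ ∈ K) : g ∈ Subgroup.normalizer (K : Set Ω) := by
  rw [Subgroup.mem_normalizer_iff]
  have hinj : Function.Injective (fun e : K => (⟨g * e * g⁻¹, h e e.2⟩ : K)) := fun a b hab =>
    Subtype.ext (mul_right_cancel (mul_left_cancel
      (show g * (a * g⁻¹) = g * (b * g⁻¹) by simpa [mul_assoc] using congrArg Subtype.val hab)))
  intro e
  refine ⟨h e, fun he => ?_⟩
  obtain ⟨a, ha⟩ := Finite.injective_iff_surjective.1 hinj ⟨_, he⟩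
  have ha' : g * (a : Ω) * g⁻¹ = g * e * g⁻¹ := congrArg Subtype.val ha
  rw [← mul_left_cancel (mul_right_cancel ha')]
  exact a.2

/-- A subgroup of order `p ^ 2` containing its centraliser, in a nonabelian `p`-group or properly. -/
theorem exists_centralizer_sq {G : Type*} [Group G] [Finite G] [Fact p.Prime] (hG : IsPGroup p G)
    {K : Subgroup G} (hK : Nat.card K = p ^ 2) (hcent : centralizer (K : Set G) ≤ K) (hne : K ≠ ⊤) :
    ∃ x ∈ K, x ∉ center G ∧ Nat.card (centralizer ({x} : Set G)) = p ^ 2 := by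
  have hp : p.Prime := Fact.out
  have hcomm := IsPGroup.isMulCommutative_of_card_eq_prime_sq hK
  have hZK : center G ≤ K := (center_le_centralizer _).trans hcent
  have hKne : ¬ K ≤ center G := fun h => hne (top_le_iff.1 (le_trans
    (fun g _ => mem_centralizer_iff.2 fun k hk => (mem_center_iff.1 (h hk) g).symm) hcent))
  obtain ⟨x, hxK, hxZ⟩ := SetLike.not_le_iff_exists.1 hKne
  refine ⟨x, hxK, hxZ, ?_⟩
  have hsup : center G ⊔ zpowers x = K := by
    refine eq_of_le_of_card_ge (sup_le hZK (zpowers_le.2 hxK)) ?_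
    have hlt : center G < center G ⊔ zpowers x :=
      lt_of_le_of_ne le_sup_left fun e => hxZ (e ▸ mem_sup_right (mem_zpowers x))
    have : Nontrivial G := nontrivial_of_ne x 1 fun e => hxZ (e ▸ one_mem _)
    have h1 := card_mul_le_of_lt hG hG.bot_lt_center
    rw [card_bot, one_mul] at h1
    rw [hK, sq]
    exact (Nat.mul_le_mul_right p h1).trans (card_mul_le_of_lt hG hlt)
  have heq : centralizer ({x} : Set G) = K := by
    refine le_antisymm (fun g hg => hcent (mem_centralizer_iff.2 fun k hk => ?_)) fun g hg => ?_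
    · rw [← hsup] at hk
      have hle : center G ⊔ zpowers x ≤ centralizer ({g} : Set G) := sup_le (center_le_centralizer _)
        (zpowers_le.2 (mem_centralizer_singleton_iff.2 (mem_centralizer_singleton_iff.1 hg).symm))
      exact mem_centralizer_singleton_iff.1 (hle hk)
    · exact mem_centralizer_singleton_iff.2
        (congrArg Subtype.val (hcomm.is_comm.comm (⟨g, hg⟩ : K) ⟨x, hxK⟩))
  rw [heq, hK]

/-- The element supplied by a pearl. -/
theorem exists_pearl_element [Finite S] [Fact p.Prime] (hS : IsPGroup p S) (hF : F.IsSaturated p)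
    (hp : p ≠ 2) (hE : F.IsEssential p E)
    (hpearl : (Nat.card E = p ^ 2 ∧ ∀ x ∈ E, x ^ p = 1 ∧ IsMulCommutative ↥E) ∨
      (Nat.card E = p ^ 3 ∧ ¬ IsMulCommutative ↥E)) {n : ℕ} (hn : Nat.card S = p ^ n) :
    3 ≤ n ∧ MaxClass S p n ∧ ∃ x : S, (x : Ω) ∈ E ∧ x ^ p = 1 ∧
      Nat.card (centralizer ({x} : Set S)) = p ^ 2 ∧
      x ∉ Subgroup.upperCentralSeries S (n - 2) ∧ Uniform S n x := by
  have hpp : p.Prime := Fact.out
  have hES := hE.1.1
  set K := E.subgroupOf S with hKdef
  have hKcard : Nat.card K = Nat.card E := Nat.card_congr (subgroupOfEquivOfLe hES).toEquiv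
  have hcS : centralizerIn S E ≤ E := hE.1.2 E (isConj_refl hES)
  have hcent : centralizer (K : Set S) ≤ K := fun g hg => hcS ⟨g.2, mem_centralizer_iff.2 fun e he =>
    congrArg Subtype.val (mem_centralizer_iff.1 hg ⟨e, hES he⟩ he)⟩
  have hKne : K ≠ ⊤ := fun e => by
    obtain ⟨y, hy⟩ := CfsgLib.FusionRankTwo.exists_normalizer_not_mem hS hF hE
    exact hy (e.ge (mem_top (⟨y, y.2.1⟩ : S)))
  suffices h : ∃ x : S, x ∈ K ∧ x ∉ center S ∧ x ^ p = 1 ∧
      Nat.card (centralizer ({x} : Set S)) = p ^ 2 by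
    obtain ⟨x, hxK, hxZ, hxp, hx⟩ := h
    have hM := maxClass_of_centralizer hn hx
    have hn3 : 3 ≤ n := by
      by_contra hlt
      have : Nat.card S ≤ Nat.card K := by
        rw [hn, hKcard]
        rcases hpearl with ⟨h1, -⟩ | ⟨h1, -⟩ <;> rw [h1] <;>
          exact Nat.pow_le_pow_right hpp.pos (by omega)
      exact hKne (eq_of_le_of_card_ge le_top (by rwa [card_top]))
    have hxU : x ∉ Subgroup.upperCentralSeries S (n - 2) := by
      rcases Nat.lt_or_ge n 4 with h4 | h4
      · rw [show n - 2 = 1 by omega, Subgroup.upperCentralSeries_one]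
        exact hxZ
      · exact hM.not_mem_of_centralizer h4 hx
    exact ⟨hn3, hM, x, hxK, hxp, hx, hxU, hM.uniform_of_centralizer hn3 hx hxU⟩
  rcases hpearl with ⟨hcard, hexp⟩ | ⟨hcard, hnc⟩
  · obtain ⟨x, hxK, hxZ, hx⟩ := exists_centralizer_sq (p := p) hS (hKcard.trans hcard) hcent hKne
    exact ⟨x, hxK, hxZ, Subtype.ext (hexp x hxK).1, hx⟩
  have hEx : Odd p ∧ IsExtraspecial p ↥E ∧ ∀ x ∈ E, x ^ p = 1 := by
    rcases essential_card_cube hS hE hcard with h | h | ⟨h, -⟩
    · exact absurd h.1 hnc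
    · exact h
    · exact absurd h hp
  obtain ⟨-, -, hexp⟩ := hEx
  haveI := finite_of_le hES
  obtain ⟨hZp, hder, -, -⟩ := center_of_card_cube hcard hnc
  -- the centre of `S` is the centre of `E`
  have hZK : center S ≤ K := (center_le_centralizer _).trans hcent
  have hScard : 1 < Nat.card S := lt_of_lt_of_le (by rw [hcard]; exact Nat.one_lt_pow (by omega) hpp.one_lt)
    (card_le_of_le hES)
  have : Nontrivial S := Finite.one_lt_card_iff_nontrivial.1 hScard
  have hZE : ∀ z : S, z ∈ center S ↔ ∃ h : (z : Ω) ∈ E, (⟨z, h⟩ : E) ∈ center E := by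
    set Z' : Subgroup S := ((center E).map (inclusion hES)) with hZ'
    have hle : center S ≤ Z' := fun z hz => ⟨⟨z, hZK hz⟩, mem_center_iff.2 fun e => Subtype.ext
      (congrArg Subtype.val (mem_center_iff.1 hz ⟨e, hES e.2⟩) :), rfl⟩
    have heq : center S = Z' := by
      refine eq_of_le_of_card_ge hle ?_
      rw [hZ', card_map_of_injective (inclusion_injective hES), hZp]
      have h1 := card_mul_le_of_lt hS hS.bot_lt_center
      rwa [card_bot, one_mul] at h1
    intro z
    rw [heq]
    constructor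
    · rintro ⟨e, he, rfl⟩
      exact ⟨e.2, he⟩
    · rintro ⟨h, hz⟩
      exact ⟨⟨z, h⟩, hz, rfl⟩
  -- elements acting trivially on `E / Z(E)`
  have hkey : ∀ g : S, (∀ e ∈ K, ⁅g, e⁆ ∈ center S) → g ∈ K := by
    intro g hg
    have hgn : ∀ e ∈ E, (g : Ω) * e * (g : Ω)⁻¹ ∈ E := by
      intro e he
      have h1 := hZK (hg ⟨e, hES he⟩ he)
      have h2 := mul_mem (show ((⁅g, (⟨e, hES he⟩ : S)⁆ : S) : Ω) ∈ E from h1) he
      simpa [commutatorElement_def, mul_assoc] using h2
    have hgN : (g : Ω) ∈ Subgroup.normalizer (E : Set Ω) := by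
      haveI := finite_of_le hES
      exact mem_normalizer_of_forall hgn
    have hgN' : (g : Ω) ∈ normalizerIn S E := ⟨g.2, hgN⟩
    let α : F.autGroup E := ⟨E.normalizerMonoidHom ⟨g, hgN⟩, autInducedBy_le_autGroup hES
      (mem_autInducedBy_iff.2 ⟨g, g.2, hgN, fun _ => rfl⟩)⟩
    by_contra hgK
    refine not_mem_Inn_of_not_mem hE.1 hgN' hgK (β := (α : MulAut E)) (fun _ => rfl) ?_
    let C : ℕ → Subgroup E := fun i => if i = 0 then ⊤ else if i = 1 then center E else ⊥
    have hinv : ∀ β ∈ F.autGroup E, ∀ i, ∀ y ∈ C i, β y ∈ C i := by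
      intro β _ i y hy
      match i with
      | 0 => trivial
      | 1 =>
        have := Characteristic.fixed (H := center ↥E) inferInstance β
        show β y ∈ center ↥E
        have hy' : y ∈ center ↥E := hy
        rw [← this] at hy'
        exact hy'
      | i + 2 =>
        have : y = 1 := hy
        rw [this, map_one]
        exact one_mem _
    have hmem : α ∈ stabChain (F.autGroup E) C 2 hinv := by
      intro i hi y hy
      match i with
      | 0 =>
        show y⁻¹ * (α : MulAut E) y ∈ center ↥E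
        obtain ⟨h, h'⟩ := (hZE _).1 ((inferInstance : (center S).Normal).conj_mem _
          (hg ⟨y, hES y.2⟩ y.2) (⟨y, hES y.2⟩ : S)⁻¹)
        convert h' using 1
        refine Subtype.ext ?_
        show (y : Ω)⁻¹ * ((g : Ω) * y * (g : Ω)⁻¹) = _
        simp [commutatorElement_def, mul_assoc]
      | 1 =>
        show y⁻¹ * (α : MulAut E) y ∈ (⊥ : Subgroup E)
        have hy' : y ∈ center ↥E := hy
        have hz : (⟨y, hES y.2⟩ : S) ∈ center S := (hZE _).2 ⟨y.2, hy'⟩
        rw [mem_bot]
        refine Subtype.ext ?_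
        show (y : Ω)⁻¹ * ((g : Ω) * y * (g : Ω)⁻¹) = 1
        have := congrArg Subtype.val (mem_center_iff.1 hz g)
        simp only [MulMemClass.coe_mul] at this
        rw [this]
        group
    exact map_le_Inn hE stabChain_normal (stabChain_isPGroup (hS.to_le hES) rfl rfl)
      ⟨α, hmem, rfl⟩
  -- the quotient by the centre
  set q := QuotientGroup.mk' (center S) with hq
  set Kq := K.map q with hKq
  have hKqK : Kq.comap q = K := by
    rw [hKq, comap_map_eq, QuotientGroup.ker_mk', sup_eq_left.2 hZK]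
  have hKqcard : Nat.card Kq = p ^ 2 := by
    have h1 := card_mul_index K
    have h2 := card_mul_index Kq
    have h3 := card_eq_card_quotient_mul_card_subgroup (center S)
    have hidx : Kq.index = K.index := by
      rw [← hKqK, index_comap_of_surjective _ (QuotientGroup.mk'_surjective _)]
    have hZS : Nat.card (center S) = p := by
      have : center S = (center E).map (inclusion hES) := by
        ext z
        rw [hZE]
        constructor
        · rintro ⟨h, hz⟩
          exact ⟨⟨z, h⟩, hz, rfl⟩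
        · rintro ⟨e, he, rfl⟩
          exact ⟨e.2, he⟩
      rw [this, card_map_of_injective (inclusion_injective hES), hZp]
    rw [h3, ← h2, hidx, hZS, hKcard, hcard] at h1
    have hne : K.index ≠ 0 := FiniteIndex.index_ne_zero
    refine Nat.eq_of_mul_eq_mul_right hpp.pos (Nat.eq_of_mul_eq_mul_right
      (Nat.pos_of_ne_zero hne) ?_)
    rw [← pow_succ, h1]
    ring
  have hcentQ : centralizer (Kq : Set (S ⧸ center S)) ≤ Kq := by
    intro v hv
    obtain ⟨g, rfl⟩ := QuotientGroup.mk'_surjective _ v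
    refine ⟨g, hkey g fun e he => ?_, rfl⟩
    rw [← QuotientGroup.eq_one_iff, ← QuotientGroup.mk'_apply, map_commutatorElement,
      commutatorElement_eq_one_iff_mul_comm]
    exact (mem_centralizer_iff.1 hv _ ⟨e, he, rfl⟩).symm
  have hKqne : Kq ≠ ⊤ := fun e => hKne (by rw [← hKqK, e, comap_top])
  obtain ⟨_, ⟨x, hxK, rfl⟩, hxq, hxc⟩ := exists_centralizer_sq (p := p)
    (hS.to_quotient (center S)) hKqcard hcentQ hKqne
  have hKqc := IsPGroup.isMulCommutative_of_card_eq_prime_sq hKqcard
  have hxZ : x ∉ center S := fun h => by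
    refine hxq ?_
    rw [hq, QuotientGroup.mk'_apply, (QuotientGroup.eq_one_iff x).2 h]
    exact one_mem _
  refine ⟨x, hxK, hxZ, Subtype.ext (hexp x hxK), ?_⟩
  have hCK : centralizer ({x} : Set S) < K := by
    refine lt_of_le_of_ne (fun g hg => ?_) fun e => hxZ ?_
    · have hgx : q g ∈ centralizer ({q x} : Set (S ⧸ center S)) := by
        rw [mem_centralizer_singleton_iff, ← map_mul, ← map_mul, mem_centralizer_singleton_iff.1 hg]
      have hle : Kq ≤ centralizer ({q x} : Set (S ⧸ center S)) := fun v hv =>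
        mem_centralizer_singleton_iff.2
          (congrArg Subtype.val (hKqc.is_comm.comm (⟨v, hv⟩ : Kq) ⟨q x, x, hxK, rfl⟩))
      rw [← eq_of_le_of_card_ge hle (by rw [hxc, hKqcard])] at hgx
      rw [← hKqK]
      exact hgx
    · refine (hZE x).2 ⟨hxK, mem_center_iff.2 fun w => Subtype.ext ?_⟩
      have hw : (⟨w, hES w.2⟩ : S) ∈ centralizer ({x} : Set S) := e.ge w.2
      exact congrArg (fun v : S => (v : Ω)) (mem_centralizer_singleton_iff.1 hw)
  refine le_antisymm ?_ ?_
  · have := card_mul_le_of_lt hS hCK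
    rw [hKcard, hcard, pow_succ] at this
    exact Nat.le_of_mul_le_mul_right this hpp.pos
  · have hlt : center S < centralizer ({x} : Set S) := lt_of_le_of_ne (center_le_centralizer _)
      fun e => hxZ (e ▸ mem_centralizer_singleton_iff.2 rfl)
    have h1 := card_mul_le_of_lt hS hS.bot_lt_center
    rw [card_bot, one_mul] at h1
    rw [sq]
    exact (Nat.mul_le_mul_right p h1).trans (card_mul_le_of_lt hS hlt)

end CfsgLib.PMaxClass
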