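import Cfsg.Agent.PMaxClass.Windows
import Cfsg.Agent.SolvSig.Mod

/-!
# Groups of maximal class of order at most `p ^ (p + 2)`

Blackburn: the first two-step centraliser centralises every layer `U_j/U_(j-2)` with `j ≥ 3`, and
also the last one when the exponent of the order is odd.
-/

set_option autoImplicit false
set_option linter.style.haveILetI false

namespace CfsgLib.PMaxClass

open Subgroup
open MaxClass (layerCentralizer mem_layerCentralizer)
open scoped commutatorElement

variable {G : Type*} [Group G] {p n : ℕ}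

/-- The descending series with first term the first two-step centraliser. -/
def term (G : Type*) [Group G] (n s : ℕ) : Subgroup G :=
  if s ≤ 1 then layerCentralizer G (n - 2) else Subgroup.upperCentralSeries G (n - s)

/-- The first two-step centraliser centralises the layers from `f + 2` on. -/
def Flat (G : Type*) [Group G] (n f : ℕ) : Prop :=
  ∀ j, f + 2 ≤ j → j + 2 ≤ n → layerCentralizer G (n - 2) ≤ layerCentralizer G j

theorem Flat.mono {f f' : ℕ} (h : Flat G n f) (hf : f ≤ f') : Flat G n f' :=
  fun j hj hjn => h j (by omega) hjn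

/-- The generators along the series. -/
def sg (x a : G) : ℕ → G
  | 0 => a
  | 1 => a
  | (i + 2) => ⁅x, sg x a (i + 1)⁆

theorem commutator_le_iff_map {N X Y : Subgroup G} [N.Normal] :
    ⁅X, Y⁆ ≤ N ↔ X.map (QuotientGroup.mk' N) ≤
      centralizer (Y.map (QuotientGroup.mk' N) : Set (G ⧸ N)) := by
  rw [← commutator_eq_bot_iff_le_centralizer, ← map_commutator, Subgroup.map_eq_bot_iff,
    QuotientGroup.ker_mk']

theorem commutator_mem_of_upper {j : ℕ} {b : G} (hb : b ∈ Subgroup.upperCentralSeries G j) (y : G) :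
    ⁅b, y⁆ ∈ Subgroup.upperCentralSeries G (j - 1) := by
  rcases Nat.eq_zero_or_pos j with rfl | hj
  · rw [Subgroup.upperCentralSeries_zero, mem_bot] at hb
    rw [hb, commutatorElement_one_left]
    exact one_mem _
  · rw [show j = j - 1 + 1 by omega] at hb
    exact Subgroup.mem_upperCentralSeries_succ_iff.1 hb y

theorem expand (u v w z : G) :
    ⁅u * v, w * z⁆ =
      u * (⁅v, w⁆ * (w * ⁅v, z⁆ * w⁻¹)) * u⁻¹ * (⁅u, w⁆ * (w * ⁅u, z⁆ * w⁻¹)) := by
  simp only [commutatorElement_def]
  group

namespace MaxClass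

theorem commute_upper (h : MaxClass G p n) (hn : 3 ≤ n) {i j : ℕ} (hi : i + 2 ≤ n) (hij : i + j ≤ n)
    {u v : G} (hu : u ∈ Subgroup.upperCentralSeries G i) (hv : v ∈ Subgroup.upperCentralSeries G j) :
    Commute u v := by
  have h1 := h.commutator_upper_upper (h.upper_top (by omega)) (i := i) (j := j) hi
    (commutator_mem_commutator hu hv)
  rw [show j + i - n = 0 by omega, Subgroup.upperCentralSeries_zero, mem_bot,
    commutatorElement_eq_one_iff_commute] at h1
  exact h1

theorem layerCentralizer_normal (h : MaxClass G p n) (hn : 2 ≤ n) {j : ℕ} (hj : 2 ≤ j) :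
    (layerCentralizer G j).Normal :=
  ⟨fun y hy g => by
    rw [show g * y * g⁻¹ = ⁅g, y⁆ * y by rw [commutatorElement_def]; group]
    exact mul_mem (h.upperLayer_le_layerCentralizer hn hj (h.commutator_mem_upper hn g y)) hy⟩

theorem exists_top_gen (h : MaxClass G p n) (hn : 4 ≤ n) :
    ∃ a ∈ layerCentralizer G (n - 2), a ∉ Subgroup.upperCentralSeries G (n - 2) ∧
      Subgroup.upperCentralSeries G (n - 2) ⊔ zpowers a = layerCentralizer G (n - 2) := by
  have := h.finite
  have := Fact.mk h.prime
  set U := Subgroup.upperCentralSeries G (n - 2) with hU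
  set M := layerCentralizer G (n - 2) with hM
  have hUM : U ≤ M := h.upperLayer_le_layerCentralizer (by omega) (by omega)
  have hMne : M ≠ ⊤ := h.layerCentralizer_ne_top (by omega) (by omega)
  have hMcard : Nat.card M * p ≤ p ^ n := by
    have h1 := card_mul_le_of_lt h.isPGroup (lt_top_iff_ne_top.2 hMne)
    rwa [card_top, h.card_eq] at h1
  have hMlow : p ^ n ≤ Nat.card M * p := by
    rw [← h.card_eq, ← card_mul_index M]
    exact Nat.mul_le_mul_left _ (h.index_layer_le (by omega) (by omega))
  have hne : U ≠ M := by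
    intro e
    rw [← e, hU, h.card_upper le_rfl] at hMlow
    have := (Nat.pow_le_pow_iff_right h.prime.one_lt).1 (hMlow.trans_eq (pow_succ p (n - 2)).symm)
    omega
  obtain ⟨a, ha, ha'⟩ := SetLike.exists_of_lt (lt_of_le_of_ne hUM hne)
  refine ⟨a, ha, ha', eq_of_le_of_card_ge (sup_le hUM (zpowers_le.2 ha)) ?_⟩
  have h1 := card_mul_le_of_lt h.isPGroup (lt_of_le_of_ne le_sup_left
    fun (e : U = U ⊔ zpowers a) => ha' (e.symm ▸ mem_sup_right (mem_zpowers a) : a ∈ U))
  rw [hU, h.card_upper le_rfl] at h1
  refine le_trans ?_ h1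
  rw [← pow_succ]
  refine Nat.le_of_mul_le_mul_right ?_ h.prime.pos
  rw [← pow_succ, show n - 2 + 1 + 1 = n by omega]
  exact hMcard

theorem term_one : term G n 1 = layerCentralizer G (n - 2) := if_pos le_rfl

theorem term_of_le {s : ℕ} (hs : 2 ≤ s) : term G n s = Subgroup.upperCentralSeries G (n - s) :=
  if_neg (by omega)

theorem term_normal (h : MaxClass G p n) (hn : 4 ≤ n) (s : ℕ) : (term G n s).Normal := by
  unfold term
  split_ifs
  · exact h.layerCentralizer_normal (by omega) (by omega)
  · infer_instance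

theorem term_succ_le (h : MaxClass G p n) (hn : 4 ≤ n) {s : ℕ} (hs : 1 ≤ s) :
    ⁅term G n s, (⊤ : Subgroup G)⁆ ≤ term G n (s + 1) := by
  rw [term_of_le (by omega : 2 ≤ s + 1), commutator_le]
  intro b hb y _
  rcases hs.eq_or_lt with rfl | hs2
  · exact h.commutator_mem_upper (by omega) b y
  · rw [term_of_le hs2] at hb
    rw [show n - (s + 1) = n - s - 1 by omega]
    exact commutator_mem_of_upper hb y

theorem term_succ_eq (h : MaxClass G p n) (hn : 4 ≤ n) {s : ℕ} (hs : 1 ≤ s) (hsn : s + 1 ≤ n) :
    ⁅term G n s, (⊤ : Subgroup G)⁆ = term G n (s + 1) := by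
  have := h.finite
  have := Fact.mk h.prime
  rcases hs.eq_or_lt with rfl | hs2
  · refine le_antisymm (h.term_succ_le hn le_rfl) ?_
    obtain ⟨a, ha, ha', -⟩ := h.exists_top_gen hn
    obtain ⟨x, hx⟩ : ∃ x, x ∉ layerCentralizer G (n - 2) := by
      simpa [Subgroup.eq_top_iff'] using h.layerCentralizer_ne_top (j := n - 2) (by omega) (by omega)
    have hmem : ⁅a, x⁆ ∈ ⁅term G n 1, (⊤ : Subgroup G)⁆ :=
      commutator_mem_commutator (by rw [term_one]; exact ha) (mem_top x)
    have := h.term_normal hn 1
    rw [term_of_le (le_refl 2)]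
    set C := ⁅term G n 1, (⊤ : Subgroup G)⁆ with hC
    have hle : C ≤ Subgroup.upperCentralSeries G (n - 2) := by
      have := h.term_succ_le hn (le_refl 1)
      rwa [term_of_le (le_refl 2)] at this
    obtain ⟨i, hi, hcard⟩ := (Nat.dvd_prime_pow h.prime).1
      (h.card_upper (i := n - 2) le_rfl ▸ card_dvd_of_le hle)
    have heq := h.normal_eq_upper (N := C) hi hcard
    rcases hi.eq_or_lt with rfl | hlt
    · exact heq.ge
    · exact absurd (Subgroup.upperCentralSeries_mono G (show i ≤ n - 3 by omega) (heq ▸ hmem))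
        (h.commutator_not_mem_pred hn ha ha' hx)
  · have hc := h.upper_top (by omega)
    rw [term_of_le hs2, term_of_le (by omega : 2 ≤ s + 1), ← h.lower_eq_upper hc (i := n - s)
      (by omega), ← h.lower_eq_upper hc (i := n - (s + 1)) (by omega),
      show n - 1 - (n - (s + 1)) = n - 1 - (n - s) + 1 by omega, Subgroup.lowerCentralSeries_succ]

/-- The degree of commutativity above the floor `f`. -/
theorem commutator_term (h : MaxClass G p n) (hn : 4 ≤ n) {f : ℕ} (hf : Flat G n f) :
    ∀ s t, 1 ≤ s → 1 ≤ t →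
      ⁅term G n s, term G n t⁆ ≤ Subgroup.upperCentralSeries G (max f (n - s - t - 1)) := by
  have := h.finite
  have := Fact.mk h.prime
  have base : ∀ t, 2 ≤ t → ⁅term G n 1, term G n t⁆ ≤
      Subgroup.upperCentralSeries G (max f (n - 1 - t - 1)) := by
    intro t ht
    rw [term_of_le ht, term_one, commutator_le]
    intro y hy b hb
    rw [← commutatorElement_inv]
    refine inv_mem ?_
    rcases le_or_gt (f + 2) (n - t) with hk | hk
    · exact Subgroup.upperCentralSeries_mono G (by omega)
        (mem_layerCentralizer.1 (hf (n - t) hk (by omega) hy) b hb)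
    · exact Subgroup.upperCentralSeries_mono G (by omega) (commutator_mem_of_upper hb y)
  have base1 : ⁅term G n 1, term G n 1⁆ ≤ Subgroup.upperCentralSeries G (max f (n - 3)) := by
    set N := Subgroup.upperCentralSeries G (max f (n - 3)) with hN
    obtain ⟨a, ha, -, hgen⟩ := h.exists_top_gen hn
    rw [commutator_le_iff_map, term_one]
    set q := QuotientGroup.mk' N with hq
    have h1 : ∀ y ∈ layerCentralizer G (n - 2), ∀ b ∈ Subgroup.upperCentralSeries G (n - 2),
        q b * q y = q y * q b := by
      intro y hy b hb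
      rw [← commutatorElement_eq_one_iff_mul_comm, ← map_commutatorElement, hq,
        QuotientGroup.mk'_apply, QuotientGroup.eq_one_iff]
      exact Subgroup.upperCentralSeries_mono G (by omega) (mem_layerCentralizer.1 hy b hb)
    rintro _ ⟨y, hy, rfl⟩
    refine mem_centralizer_iff.2 ?_
    rintro _ ⟨z, hz, rfl⟩
    have hle : Subgroup.upperCentralSeries G (n - 2) ⊔ zpowers a ≤
        (centralizer ({q a} : Set (G ⧸ N))).comap q := sup_le
      (fun b hb => mem_comap.2 (mem_centralizer_singleton_iff.2 (h1 a ha b hb)))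
      (zpowers_le.2 (mem_comap.2 (mem_centralizer_singleton_iff.2 rfl)))
    rw [hgen] at hle
    have hz' : z ∈ Subgroup.upperCentralSeries G (n - 2) ⊔ zpowers a := hgen.symm ▸ hz
    have hle2 : Subgroup.upperCentralSeries G (n - 2) ⊔ zpowers a ≤
        (centralizer ({q y} : Set (G ⧸ N))).comap q := sup_le
      (fun b hb => mem_comap.2 (mem_centralizer_singleton_iff.2 (h1 y hy b hb)))
      (zpowers_le.2 (mem_comap.2 (mem_centralizer_singleton_iff.2
        (mem_centralizer_singleton_iff.1 (mem_comap.1 (hle hy))).symm)))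
    exact mem_centralizer_singleton_iff.1 (mem_comap.1 (hle2 hz'))
  intro s
  induction s using Nat.strong_induction_on with
  | _ s ih =>
  intro t hs ht
  rcases hs.eq_or_lt with rfl | hs2
  · rcases ht.eq_or_lt with rfl | ht2
    · rw [show n - 1 - 1 - 1 = n - 3 by omega]
      exact base1
    · exact base t ht2
  obtain ⟨r, rfl⟩ : ∃ r, s = r + 1 := ⟨s - 1, by omega⟩
  rcases le_or_gt (r + 1) n with hr | hr
  swap
  · rw [term_of_le hs2, show n - (r + 1) = 0 by omega, Subgroup.upperCentralSeries_zero,
      commutator_bot_left]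
    exact bot_le
  rw [← h.term_succ_eq hn (by omega) hr]
  have hnorm : ∀ X : Subgroup G, X ≤ normalizer
      (Subgroup.upperCentralSeries G (max f (n - (r + 1) - t - 1)) : Set G) := fun X => by
    rw [normalizer_eq_top]
    exact le_top
  refine CfsgLib.SolvSig.commutator_le_of_rotate (hnorm _) (hnorm _) (hnorm _) ?_ ?_
  · rw [commutator_comm (⊤ : Subgroup G) (term G n t)]
    refine (commutator_mono (h.term_succ_le hn ht) le_rfl).trans ?_
    rw [commutator_comm]
    exact (ih r (by omega) (t + 1) (by omega) (by omega)).trans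
      (Subgroup.upperCentralSeries_mono G (by omega))
  · rw [commutator_comm (term G n t) (term G n r)]
    refine (commutator_mono (ih r (by omega) t (by omega) ht) le_rfl).trans ?_
    rw [commutator_le]
    intro b hb y _
    exact Subgroup.upperCentralSeries_mono G (by omega) (commutator_mem_of_upper hb y)

theorem quotient_layerCentralizer (h : MaxClass G p n) (i : ℕ) {j : ℕ} (hj : 2 ≤ j) :
    (layerCentralizer (G ⧸ Subgroup.upperCentralSeries G i) j).comap
      (QuotientGroup.mk' (Subgroup.upperCentralSeries G i)) = layerCentralizer G (i + j) := by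
  ext y
  rw [mem_comap, mem_layerCentralizer, mem_layerCentralizer, show i + j - 2 = i + (j - 2) by omega]
  constructor
  · intro hy b hb
    rw [← h.quotient_series i (j - 2), mem_comap, map_commutatorElement]
    refine hy _ ?_
    rwa [← mem_comap, h.quotient_series i j]
  · intro hy z hz
    obtain ⟨b, rfl⟩ := QuotientGroup.mk'_surjective _ z
    rw [← mem_comap, h.quotient_series i j] at hz
    rw [← map_commutatorElement, ← mem_comap, h.quotient_series i (j - 2)]
    exact hy b hz

theorem flat_of_quotient (h : MaxClass G p n) {i f : ℕ}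
    (hq : Flat (G ⧸ Subgroup.upperCentralSeries G i) (n - i) f) : Flat G n (f + i) := by
  intro j hj hjn
  have h1 := hq (j - i) (by omega) (by omega)
  have h2 := comap_mono (f := QuotientGroup.mk' (Subgroup.upperCentralSeries G i)) h1
  rw [h.quotient_layerCentralizer i (by omega), h.quotient_layerCentralizer i (by omega),
    show i + (n - i - 2) = n - 2 by omega, show i + (j - i) = j by omega] at h2
  exact h2

section Odd

variable (h : MaxClass G p n) (hn : 4 ≤ n) {x a : G}
  (ha : a ∈ layerCentralizer G (n - 2)) (ha' : a ∉ Subgroup.upperCentralSeries G (n - 2))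
  (hx : ∀ j, 2 ≤ j → j + 2 ≤ n → x ∉ layerCentralizer G j)

include h hn ha in
theorem sg_mem : ∀ i, 1 ≤ i → sg x a i ∈ term G n i := by
  intro i hi
  induction i with
  | zero => omega
  | succ i ih =>
    rcases Nat.eq_zero_or_pos i with rfl | hi0
    · show a ∈ term G n 1
      rw [term_one]; exact ha
    · obtain ⟨k, rfl⟩ : ∃ k, i = k + 1 := ⟨i - 1, by omega⟩
      show ⁅x, sg x a (k + 1)⁆ ∈ _
      refine h.term_succ_le hn (by omega) ?_
      rw [commutator_comm]
      exact commutator_mem_commutator (mem_top x) (ih (by omega))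

include h hn ha in
theorem sg_mem_upper {i : ℕ} (hi : 2 ≤ i) :
    sg x a i ∈ Subgroup.upperCentralSeries G (n - i) := by
  have := h.sg_mem hn ha (x := x) i (by omega)
  rwa [term_of_le hi] at this

include h hn ha ha' hx in
theorem sg_not_mem : ∀ i, 2 ≤ i → i + 1 ≤ n →
    sg x a i ∉ Subgroup.upperCentralSeries G (n - i - 1) := by
  intro i hi
  induction i, hi using Nat.le_induction with
  | base =>
    intro _ hmem
    refine h.commutator_not_mem_pred hn ha ha' (hx (n - 2) (by omega) (by omega)) ?_
    rw [← commutatorElement_inv]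
    exact inv_mem hmem
  | succ i hi ih =>
    intro hin hmem
    refine hx (n - i) (by omega) (by omega) (h.mem_layerCentralizer_of_exact (a := sg x a i)
      (by omega) (by omega) (h.sg_mem_upper hn ha hi) (ih (by omega)) ?_)
    obtain ⟨k, rfl⟩ : ∃ k, i = k + 1 := ⟨i - 1, by omega⟩
    rw [← commutatorElement_inv]
    refine inv_mem ?_
    rw [show n - (k + 1) - 2 = n - (k + 1 + 1) - 1 by omega]
    exact hmem

include h hn ha in
/-- Conjugating a commutator of two generators by `x`. -/
theorem conj_pair (hf : Flat G n 2) {i j : ℕ} (hi : 1 ≤ i) (hj : 1 ≤ j) (hij : n ≤ i + j + 3) :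
    ⁅x, ⁅sg x a i, sg x a j⁆⁆ = ⁅sg x a i, sg x a (j + 1)⁆ * ⁅sg x a (i + 1), sg x a j⁆ *
      ⁅sg x a (i + 1), sg x a (j + 1)⁆ := by
  have := h.finite
  have := Fact.mk h.prime
  have hmem : ∀ k l, 1 ≤ k → 1 ≤ l → n ≤ k + l + 3 →
      ⁅sg x a k, sg x a l⁆ ∈ Subgroup.upperCentralSeries G 2 := by
    intro k l hk hl hkl
    have h1 := h.commutator_term hn hf k l hk hl
      (commutator_mem_commutator (h.sg_mem hn ha (x := x) k hk) (h.sg_mem hn ha (x := x) l hl))
    exact Subgroup.upperCentralSeries_mono G (by omega) h1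
  have hab : ∀ y ∈ Subgroup.upperCentralSeries G 2, ∀ z ∈ Subgroup.upperCentralSeries G 2,
      Commute y z := fun y hy z hz => by
    have hc := IsPGroup.isMulCommutative_of_card_eq_prime_sq (p := p)
      (G := Subgroup.upperCentralSeries G 2) (h.card_upper (i := 2) (by omega))
    exact congrArg Subtype.val (hc.is_comm.comm (⟨y, hy⟩ : Subgroup.upperCentralSeries G 2) ⟨z, hz⟩)
  have hu : ∀ k, 1 ≤ k → ∀ y ∈ Subgroup.upperCentralSeries G 2,
      sg x a (k + 1) * y * (sg x a (k + 1))⁻¹ = y := fun k hk y hy => by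
    rw [(h.commute_upper (by omega) (by omega) (by omega) (Subgroup.upperCentralSeries_mono G
      (show n - (k + 1) ≤ n - 2 by omega) (h.sg_mem_upper hn ha (by omega))) hy).eq,
      mul_inv_cancel_right]
  have hstep : ∀ k, 1 ≤ k → x * sg x a k * x⁻¹ = sg x a (k + 1) * sg x a k := by
    intro k hk
    obtain ⟨l, rfl⟩ : ∃ l, k = l + 1 := ⟨k - 1, by omega⟩
    show _ = ⁅x, sg x a (l + 1)⁆ * _
    rw [commutatorElement_def]
    group
  have hvw := hmem i (j + 1) hi (by omega) (by omega)
  have hq := hmem i j hi hj hij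
  have huw := hmem (i + 1) (j + 1) (by omega) (by omega) (by omega)
  have huz := hmem (i + 1) j (by omega) hj (by omega)
  have h1 : x * ⁅sg x a i, sg x a j⁆ * x⁻¹ =
      ⁅sg x a i, sg x a (j + 1)⁆ * ⁅sg x a i, sg x a j⁆ *
        (⁅sg x a (i + 1), sg x a (j + 1)⁆ * ⁅sg x a (i + 1), sg x a j⁆) := by
    rw [conjugate_commutatorElement, hstep i hi, hstep j hj, expand, hu j hj _ hq,
      hu i hi _ (mul_mem hvw hq), hu j hj _ huz]
  rw [commutatorElement_def x, h1]
  generalize ⁅sg x a i, sg x a (j + 1)⁆ = A at hvw ⊢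
  generalize ⁅sg x a i, sg x a j⁆ = B at hq ⊢
  generalize ⁅sg x a (i + 1), sg x a (j + 1)⁆ = C at huw ⊢
  generalize ⁅sg x a (i + 1), sg x a j⁆ = D at huz ⊢
  calc A * B * (C * D) * B⁻¹ = A * (B * (C * D)) * B⁻¹ := by group
    _ = A * (C * D * B) * B⁻¹ := by rw [(hab B hq _ (mul_mem huw huz)).eq]
    _ = A * (C * D) := by group
    _ = A * (D * C) := by rw [(hab C huw D huz).eq]
    _ = A * D * C := by group

include h hn ha ha' hx in
/-- For odd `n`, the last two layers follow. -/
theorem flat_zero_of_odd (hf : Flat G n 2) {m : ℕ} (hm : n = 2 * m + 1) (hmp : n ≤ p + 2) :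
    Flat G n 0 := by
  have := h.finite
  have := Fact.mk h.prime
  have hm2 : 2 ≤ m := by omega
  set U := Subgroup.upperCentralSeries G with hU
  set c : ℕ → G := fun i => ⁅sg x a i, sg x a (2 * m - i)⁆ with hc
  set d : ℕ → G := fun i => ⁅sg x a i, sg x a (2 * m - 1 - i)⁆ with hd
  set e : ℕ → G := fun i => ⁅x, d i⁆ with he
  have hdmem : ∀ i, 1 ≤ i → i + 2 ≤ 2 * m → d i ∈ U 2 := by
    intro i hi hi'
    exact Subgroup.upperCentralSeries_mono G (by omega) (h.commutator_term hn hf i (2 * m - 1 - i)
      hi (by omega) (commutator_mem_commutator (h.sg_mem hn ha (x := x) i hi) (h.sg_mem hn ha (x := x) _ (by omega))))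
  have hsum : ∀ k l, 2 ≤ k → 2 ≤ l → ⁅sg x a k, sg x a l⁆ ∈ U (n - k - l) := by
    intro k l hk hl
    have h1 := h.commutator_upper_upper (h.upper_top (by omega)) (i := n - k) (j := n - l)
      (by omega) (commutator_mem_commutator (h.sg_mem_upper hn ha (x := x) hk)
        (h.sg_mem_upper hn ha (x := x) hl))
    exact Subgroup.upperCentralSeries_mono G (by omega) h1
  have hU1 : ∀ y ∈ U 1, ∀ g : G, ⁅g, y⁆ = 1 := by
    intro y hy g
    have h1 := commutator_mem_of_upper hy g
    rw [Nat.sub_self, Subgroup.upperCentralSeries_zero, mem_bot] at h1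
    rw [← commutatorElement_inv, h1, inv_one]
  have hU2 : ∀ y ∈ U 2, ∀ g : G, ⁅g, y⁆ ∈ U 1 := by
    intro y hy g
    rw [← commutatorElement_inv]
    exact inv_mem (commutator_mem_of_upper hy g)
  have hcen : ∀ y ∈ U 1, ∀ g : G, Commute g y := fun y hy g =>
    commutatorElement_eq_one_iff_commute.1 (hU1 y hy g)
  -- the relations
  have hrel : ∀ i, 1 ≤ i → i + 2 ≤ 2 * m → e i = c i * c (i + 1) := by
    intro i hi hi'
    show ⁅x, d i⁆ = _
    rw [hd, h.conj_pair hn ha hf hi (by omega) (by omega),
      show 2 * m - 1 - i + 1 = 2 * m - i by omega]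
    have h0 : ⁅sg x a (i + 1), sg x a (2 * m - i)⁆ = 1 := by
      have := hsum (i + 1) (2 * m - i) (by omega) (by omega)
      rwa [show n - (i + 1) - (2 * m - i) = 0 by omega, hU, Subgroup.upperCentralSeries_zero,
        mem_bot] at this
    rw [h0, mul_one, hc]
    simp only [show 2 * m - (i + 1) = 2 * m - 1 - i by omega]
  have hmul : ∀ i, 1 ≤ i → i + 3 ≤ 2 * m → e i * e (i + 1) = 1 := by
    intro i hi hi'
    have hq : ⁅sg x a i, sg x a (2 * m - 2 - i)⁆ ∈ U 2 :=
      Subgroup.upperCentralSeries_mono G (by omega) (h.commutator_term hn hf i (2 * m - 2 - i)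
        hi (by omega) (commutator_mem_commutator (h.sg_mem hn ha (x := x) i hi)
          (h.sg_mem hn ha (x := x) _ (by omega))))
    have h2 := hU2 _ hq x
    rw [h.conj_pair hn ha hf hi (by omega) (by omega),
      show 2 * m - 2 - i + 1 = 2 * m - 1 - i by omega] at h2
    have h3 : ⁅sg x a (i + 1), sg x a (2 * m - 1 - i)⁆ ∈ U 1 := by
      have := hsum (i + 1) (2 * m - 1 - i) (by omega) (by omega)
      rwa [show n - (i + 1) - (2 * m - 1 - i) = 1 by omega] at this
    have h4 : d i * d (i + 1) ∈ U 1 := by
      have := mul_mem h2 (inv_mem h3)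
      rw [mul_inv_cancel_right] at this
      simpa only [hd, show 2 * m - 1 - (i + 1) = 2 * m - 2 - i by omega] using this
    have h5 := hU1 _ h4 x
    rw [commutatorElement_mul_right_eq_mul_conj] at h5
    have hc5 : d i * ⁅x, d (i + 1)⁆ * (d i)⁻¹ = ⁅x, d (i + 1)⁆ := by
      rw [(hcen _ (hU2 _ (hdmem (i + 1) (by omega) (by omega)) x) (d i)).eq, mul_inv_cancel_right]
    show ⁅x, d i⁆ * ⁅x, d (i + 1)⁆ = 1
    rw [← hc5, ← h5]
    group
  have hcm : ∀ k, k + 1 ≤ m → c (m - k) = e (m - k) ^ k := by
    intro k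
    induction k with
    | zero =>
      intro _
      simp [hc, show 2 * m - m = m by omega]
    | succ k ih =>
      intro hk
      have h1 := hrel (m - (k + 1)) (by omega) (by omega)
      rw [show m - (k + 1) + 1 = m - k by omega, ih (by omega)] at h1
      rcases Nat.eq_zero_or_pos k with rfl | hk0
      · simpa [eq_comm] using h1
      have h2 := hmul (m - (k + 1)) (by omega) (by omega)
      rw [show m - (k + 1) + 1 = m - k by omega] at h2
      rw [eq_inv_of_mul_eq_one_right h2, inv_pow] at h1
      rw [pow_succ']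
      exact (eq_mul_inv_iff_mul_eq.1 h1).symm
  have hk : ∀ k, 2 ≤ k → k + 2 ≤ n → ⁅sg x a (n - k), a⁆ ∈ U (k - 2) →
      layerCentralizer G (n - 2) ≤ layerCentralizer G k := by
    intro k hk hkn hmem
    obtain ⟨a₀, ha₀, ha₀', hgen⟩ := h.exists_top_gen hn
    have hgen' : U (n - 2) ⊔ zpowers a = layerCentralizer G (n - 2) := by
      refine eq_of_le_of_card_ge (sup_le (h.upperLayer_le_layerCentralizer (by omega) (by omega))
        (zpowers_le.2 ha)) ?_
      have h1 := card_mul_le_of_lt h.isPGroup (lt_of_le_of_ne le_sup_left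
        fun (e : U (n - 2) = U (n - 2) ⊔ zpowers a) =>
          ha' (e.symm ▸ mem_sup_right (mem_zpowers a) : a ∈ U (n - 2)))
      rw [h.card_upper le_rfl] at h1
      have h2 := card_mul_le_of_lt h.isPGroup
        (lt_top_iff_ne_top.2 (h.layerCentralizer_ne_top (j := n - 2) (by omega) (by omega)))
      rw [card_top, h.card_eq, show n = n - 2 + 1 + 1 by omega, pow_succ, pow_succ] at h2
      exact (Nat.le_of_mul_le_mul_right h2 h.prime.pos).trans h1
    rw [← hgen', sup_le_iff, zpowers_le]
    refine ⟨h.upperLayer_le_layerCentralizer (by omega) hk, ?_⟩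
    refine h.mem_layerCentralizer_of_exact (a := sg x a (n - k)) (by omega) hkn ?_ ?_ hmem
    · have := h.sg_mem_upper hn ha (x := x) (i := n - k) (by omega)
      rwa [show n - (n - k) = k by omega] at this
    · have := h.sg_not_mem hn ha ha' hx (n - k) (by omega) (by omega)
      rwa [show n - (n - k) - 1 = k - 1 by omega] at this
  -- `e 1` is trivial
  have he1 : e 1 = 1 := by
    by_contra hne
    rcases le_or_gt m 2 with hm' | hm'
    · refine hne (hU1 _ ?_ x)
      have h2 : ⁅sg x a 2, a⁆ ∈ U (3 - 2) := mem_layerCentralizer.1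
        (show a ∈ layerCentralizer G 3 by rwa [show 3 = n - 2 by omega]) _
        (by rw [show 3 = n - 2 by omega]; exact h.sg_mem_upper hn ha le_rfl)
      show ⁅a, sg x a (2 * m - 1 - 1)⁆ ∈ U 1
      rw [show 2 * m - 1 - 1 = 2 by omega, ← commutatorElement_inv]
      exact inv_mem h2
    · have hd2 : d 2 ∉ U 1 := by
        intro hmem
        have h2 := hmul 1 le_rfl (by omega)
        rw [show e (1 + 1) = 1 from hU1 _ hmem x, mul_one] at h2
        exact hne h2
      have hd2U : d 2 ∈ U 2 := hdmem 2 (by omega) (by omega)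
      have hu : ⁅a, sg x a 2⁆ ∈ U (n - 4) := by
        have h1 := h.commutator_term hn hf 1 2 le_rfl (by omega)
          (commutator_mem_commutator (h.sg_mem hn ha (x := x) 1 le_rfl) (h.sg_mem hn ha (x := x) 2 (by omega)))
        exact Subgroup.upperCentralSeries_mono G (by omega) h1
      have hv : ⁅a, sg x a (n - 4)⁆ ∈ U 2 := by
        have h1 := h.commutator_term hn hf 1 (n - 4) le_rfl (by omega)
          (commutator_mem_commutator (h.sg_mem hn ha (x := x) 1 le_rfl)
            (h.sg_mem hn ha (x := x) (n - 4) (by omega)))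
        exact Subgroup.upperCentralSeries_mono G (by omega) h1
      have hz : sg x a (n - 4) ∈ U 4 := by
        have := h.sg_mem_upper hn ha (x := x) (i := n - 4) (by omega)
        rwa [show n - (n - 4) = 4 by omega] at this
      have hs2 : sg x a 2 ∈ U (n - 2) := h.sg_mem_upper hn ha le_rfl
      have hfix : a * d 2 * a⁻¹ = d 2 := by
        simp only [hd, show 2 * m - 1 - 2 = n - 4 by omega] at hd2U ⊢
        rw [conjugate_commutatorElement,
          show a * sg x a 2 * a⁻¹ = ⁅a, sg x a 2⁆ * sg x a 2 by rw [commutatorElement_def]; group,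
          show a * sg x a (n - 4) * a⁻¹ = ⁅a, sg x a (n - 4)⁆ * sg x a (n - 4) by
            rw [commutatorElement_def]; group, expand,
          commutatorElement_eq_one_iff_commute.2 (h.commute_upper (by omega) (by omega) (by omega) hs2 hv),
          commutatorElement_eq_one_iff_commute.2 (h.commute_upper (by omega) (by omega) (by omega) hu hv),
          commutatorElement_eq_one_iff_commute.2 (h.commute_upper (by omega) (by omega) (by omega) hu hz)]
        simp only [one_mul, mul_one, mul_inv_cancel]
        have hk1 : ∀ y ∈ U 2, ∀ w ∈ U (n - 2), w * y * w⁻¹ = y := fun y hy w hw => by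
          rw [(h.commute_upper (by omega) (by omega) (by omega) hw hy).eq, mul_inv_cancel_right]
        rw [hk1 _ hd2U _ (Subgroup.upperCentralSeries_mono G (by omega) hv),
          hk1 _ hd2U _ (Subgroup.upperCentralSeries_mono G (by omega) hu)]
      have haC : a ∈ layerCentralizer G 2 := h.mem_layerCentralizer_of_exact (a := d 2) (by omega)
        (by omega) hd2U hd2 (by
          rw [commutatorElement_eq_one_iff_commute.2 (show Commute (d 2) a from
            (mul_inv_eq_iff_eq_mul.1 hfix).symm)]
          exact one_mem _)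
      have hc1 : c 1 = 1 := by
        have hz2 : sg x a (2 * m - 1) ∈ U 2 := by
          have := h.sg_mem_upper hn ha (x := x) (i := 2 * m - 1) (by omega)
          rwa [show n - (2 * m - 1) = 2 by omega] at this
        have := mem_layerCentralizer.1 haC _ hz2
        rw [Nat.sub_self, Subgroup.upperCentralSeries_zero, mem_bot] at this
        simp only [hc]
        show ⁅a, sg x a (2 * m - 1)⁆ = 1
        rw [← commutatorElement_inv, this, inv_one]
      have h1 := hcm (m - 1) (by omega)
      rw [show m - (m - 1) = 1 by omega, hc1] at h1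
      have hep : e 1 ^ p = 1 := by
        have h2 : Nat.card (U 1) = p := by rw [h.card_upper (by omega), pow_one]
        have h3 := pow_card_eq_one' (G := U 1) (x := ⟨e 1, hU2 _ (hdmem 1 le_rfl (by omega)) x⟩)
        rw [h2] at h3
        exact congrArg Subtype.val h3
      have h4 := pow_gcd_eq_one.2 ⟨h1.symm, hep⟩
      rw [Nat.Coprime.gcd_eq_one (Nat.coprime_comm.1 ((Nat.Prime.coprime_iff_not_dvd h.prime).2
        (Nat.not_dvd_of_pos_of_lt (by omega) (by omega)))), pow_one] at h4
      exact hne h4
  intro j hj hjn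
  rcases le_or_gt 4 j with hj4 | hj4
  · exact hf j hj4 hjn
  rcases (show j = 2 ∨ j = 3 by omega) with rfl | rfl
  · refine hk 2 le_rfl hjn ?_
    have h1 := hcm (m - 1) (by omega)
    rw [show m - (m - 1) = 1 by omega, he1, one_pow] at h1
    simp only [hc] at h1
    rw [show n - 2 = 2 * m - 1 by omega, ← commutatorElement_inv]
    exact inv_mem (by
      show ⁅sg x a 1, sg x a (2 * m - 1)⁆ ∈ _
      rw [h1]; exact one_mem _)
  · refine hk 3 (by omega) hjn ?_
    rw [← commutatorElement_inv, show n - 3 = 2 * m - 1 - 1 by omega]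
    refine inv_mem ?_
    by_contra hmem
    refine hx 2 le_rfl (by omega) (h.mem_layerCentralizer_of_exact (a := d 1) (by omega) (by omega)
      (hdmem 1 le_rfl (by omega)) hmem ?_)
    rw [← commutatorElement_inv, show ⁅x, d 1⁆ = 1 from he1, inv_one]
    exact one_mem _

end Odd

end MaxClass

universe u

/-- Blackburn's theorem on groups of maximal class of small order. -/
theorem blackburn {p : ℕ} : ∀ (n : ℕ) (G : Type u) [Group G], MaxClass G p n → n ≤ p + 2 →
    Flat G n 1 ∧ (Odd n → Flat G n 0) := by
  intro n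
  induction n using Nat.strong_induction_on with
  | _ n ih =>
  intro G _ h hnp
  rcases Nat.even_or_odd n with hev | hodd
  · refine ⟨?_, fun ho => absurd ho (Nat.not_odd_iff_even.2 hev)⟩
    intro j hj hjn
    obtain ⟨k, hk⟩ := hev
    have hq := (ih (n - 1) (by omega) _ (h.quotient (i := 1) (by omega)) (by omega)).2
      ⟨k - 1, by omega⟩
    exact h.flat_of_quotient hq j hj hjn
  · suffices h0 : Flat G n 0 from ⟨h0.mono (by omega), fun _ => h0⟩
    intro j hj hjn
    obtain ⟨m, hm⟩ := hodd
    have hq := (ih (n - 2) (by omega) _ (h.quotient (i := 2) (by omega)) (by omega)).2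
      ⟨m - 1, by omega⟩
    have hn : 4 ≤ n := by omega
    obtain ⟨x, hx⟩ := h.exists_avoid (J := Finset.Icc 2 (n - 2))
      (fun i hi => by rw [Finset.mem_Icc] at hi; omega) (by rw [Nat.card_Icc]; omega)
    obtain ⟨a, ha, ha', -⟩ := h.exists_top_gen hn
    exact h.flat_zero_of_odd hn ha ha'
      (fun i hi hin => hx i (Finset.mem_Icc.2 ⟨hi, by omega⟩)) (h.flat_of_quotient hq) hm hnp
      j hj hjn

end CfsgLib.PMaxClass
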