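import Cfsg.Agent.PMaxClass.Basic
import Cfsg.Agent.LocalEven48.Basic
import Mathlib.RingTheory.Polynomial.Basic
import Mathlib.RingTheory.Nilpotent.Basic

/-!
Abelian terms of exponent `p` in a `p`-group of maximal class.
-/

set_option autoImplicit false

namespace CfsgLib.PMaxClass

open Subgroup
open scoped commutatorElement

variable {G : Type*} [Group G] {p n : ℕ}

/-- `[U_(i+1), G] ≤ U_i`. -/
theorem commutator_upper_le (i : ℕ) :
    ⁅Subgroup.upperCentralSeries G (i + 1), (⊤ : Subgroup G)⁆ ≤
      Subgroup.upperCentralSeries G i :=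
  Subgroup.commutator_le.2 fun _ hx y _ => Subgroup.mem_upperCentralSeries_succ_iff.1 hx y

/-- `[γ_(k+1), U_i] ≤ U_(i-k-1)`. -/
theorem commutator_lower_upper_le : ∀ (k i : ℕ),
    ⁅(⊤ : Subgroup G).lowerCentralSeries k, Subgroup.upperCentralSeries G i⁆ ≤
      Subgroup.upperCentralSeries G (i - k - 1) := by
  intro k
  induction k with
  | zero =>
    intro i
    rcases i with _ | i
    · rw [Subgroup.upperCentralSeries_zero, commutator_bot_right]
    · rw [Subgroup.lowerCentralSeries_zero, commutator_comm]
      simpa using commutator_upper_le (G := G) i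
  | succ k ih =>
    intro i
    rw [Subgroup.lowerCentralSeries_succ]
    refine CfsgLib.LocalEven48.three_subgroups_le le_normalizer_of_normal le_normalizer_of_normal
      le_normalizer_of_normal ?_ ?_
    · -- `[[G, U_i], L_k]`
      rcases i with _ | i
      · rw [Subgroup.upperCentralSeries_zero, commutator_bot_right, commutator_bot_left]; exact bot_le
      · rw [commutator_comm ⊤ (Subgroup.upperCentralSeries G (i + 1))]
        refine (commutator_mono (commutator_upper_le i) le_rfl).trans ?_
        rw [commutator_comm]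
        refine (ih i).trans (Subgroup.upperCentralSeries_mono G (by omega))
    · -- `[[U_i, L_k], G]`
      rw [commutator_comm (Subgroup.upperCentralSeries G i)]
      refine (commutator_mono (ih i) le_rfl).trans ?_
      rcases Nat.eq_zero_or_pos (i - k - 1) with h0 | h0
      · rw [h0, Subgroup.upperCentralSeries_zero, commutator_bot_left]; exact bot_le
      · obtain ⟨j, hj⟩ := Nat.exists_eq_add_of_le' h0
        rw [hj]
        exact (commutator_upper_le j).trans (Subgroup.upperCentralSeries_mono G (by omega))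

/-- The polynomial identity behind the norm map. -/
theorem eq_zero_of_norm {A : Type*} [AddCommGroup A] (hp : p.Prime) (D : AddMonoid.End A)
    (hD : D ^ (p - 1) = 0) {a : A} (h : (∑ j ∈ Finset.range p, (D + 1) ^ j) a = 0) :
    p • a = 0 := by
  have e := congrArg (Polynomial.aeval D) (Polynomial.geom_sum_X_comp_X_add_one_eq_sum (R := ℤ) p)
  rw [Polynomial.aeval_comp, map_sum, map_sum] at e
  simp only [map_pow, Polynomial.aeval_X, map_mul, map_natCast, map_add, map_one] at e
  rw [e] at h
  set q : ℕ := p - 1 with hq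
  have hpq : p = q + 1 := by have := hp.pos; omega
  -- write the sum as `p • Q + D ^ q`
  set c : ℕ → ℕ := fun i => p.choose (i + 1) / p with hc
  have hci : ∀ i < q, p.choose (i + 1) = p * c i := fun i hi => by
    rw [hc, Nat.mul_div_cancel' (hp.dvd_choose_self (by omega) (by omega))]
  set R : AddMonoid.End A := ∑ i ∈ Finset.range q, (c (i + 1) : AddMonoid.End A) * D ^ i with hR
  have hsum : (∑ i ∈ Finset.range p, (p.choose (i + 1) : AddMonoid.End A) * D ^ i) =
      (p : AddMonoid.End A) * ∑ i ∈ Finset.range q, (c i : AddMonoid.End A) * D ^ i := by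
    rw [hpq, Finset.sum_range_succ, hD, mul_zero, add_zero, Finset.mul_sum]
    refine Finset.sum_congr rfl fun i hi => ?_
    rw [← hpq, hci i (Finset.mem_range.1 hi), Nat.cast_mul, mul_assoc]
  rw [hsum] at h
  obtain ⟨q', hq'⟩ : ∃ q', q = q' + 1 := ⟨q - 1, by have := hp.two_le; omega⟩
  have hQ : IsUnit (∑ i ∈ Finset.range q, (c i : AddMonoid.End A) * D ^ i) := by
    rw [hq', Finset.sum_range_succ', pow_zero, mul_one]
    have hc0 : c 0 = 1 := by rw [hc]; simp [hp.pos]
    rw [hc0, Nat.cast_one, add_comm]
    refine IsNilpotent.isUnit_one_add ?_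
    have hfac : (∑ i ∈ Finset.range q', (c (i + 1) : AddMonoid.End A) * D ^ (i + 1)) =
        D * ∑ i ∈ Finset.range q', (c (i + 1) : AddMonoid.End A) * D ^ i := by
      rw [Finset.mul_sum]
      refine Finset.sum_congr rfl fun i _ => ?_
      rw [pow_succ', ← mul_assoc, (Nat.cast_commute _ D).eq, mul_assoc]
    rw [hfac]
    refine Commute.isNilpotent_mul_right (Commute.sum_right _ _ _ fun i _ => ?_) ⟨q, hD⟩
    exact (Nat.commute_cast D _).mul_right ((Commute.refl D).pow_right i)
  obtain ⟨u, hu⟩ := hQ
  rw [← hu, (Nat.cast_commute p _).eq] at h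
  have h2 := congrArg (fun x => (↑u⁻¹ : AddMonoid.End A) x) h
  simp only [map_zero] at h2
  have h3 : ((↑u⁻¹ : AddMonoid.End A) * ((u : AddMonoid.End A) * (p : AddMonoid.End A))) a = 0 := by
    rw [AddMonoid.End.coe_mul]
    exact (congrArg _ h).trans (map_zero _)
  rw [← mul_assoc, u.inv_mul, one_mul, AddMonoid.End.natCast_apply] at h3
  exact h3

namespace MaxClass

theorem upper_pred (h : MaxClass G p n) [Finite G] (hc : Group.nilpotencyClass G = n - 1) :
    Subgroup.upperCentralSeries G (n - 1) = ⊤ := by
  have := Fact.mk h.prime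
  have := h.isPGroup.isNilpotent
  exact Subgroup.upperCentralSeries_eq_top_iff_nilpotencyClass_le.2 hc.le

/-- The lower series is the upper series reversed. -/
theorem lower_eq_upper (h : MaxClass G p n) (hc : Subgroup.upperCentralSeries G (n - 1) = ⊤)
    {i : ℕ} (hi : i + 2 ≤ n) :
    (⊤ : Subgroup G).lowerCentralSeries (n - 1 - i) = Subgroup.upperCentralSeries G i := by
  have := h.finite
  have := Fact.mk h.prime
  have hle : ∀ k, k ≤ n - 1 →
      (⊤ : Subgroup G).lowerCentralSeries k ≤ Subgroup.upperCentralSeries G (n - 1 - k) := by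
    intro k
    induction k with
    | zero => intro _; simp [hc]
    | succ k ih =>
      intro hk
      rw [Subgroup.lowerCentralSeries_succ]
      refine (commutator_mono (ih (by omega)) le_rfl).trans ?_
      rw [show n - 1 - k = n - 1 - (k + 1) + 1 by omega]
      exact commutator_upper_le _
  have hcard : ∀ j, j + 2 ≤ n →
      p ^ j ≤ Nat.card ↥((⊤ : Subgroup G).lowerCentralSeries (n - 1 - j)) := by
    intro j
    induction j with
    | zero => intro _; exact Nat.one_le_iff_ne_zero.2 Nat.card_pos.ne'
    | succ j ih =>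
      intro hj
      have hne : (⊤ : Subgroup G).lowerCentralSeries (n - 1 - (j + 1)) ≠
          (⊤ : Subgroup G).lowerCentralSeries (n - 1 - j) := by
        intro e
        have hconst : ∀ t, (⊤ : Subgroup G).lowerCentralSeries (n - 1 - (j + 1) + t) =
            (⊤ : Subgroup G).lowerCentralSeries (n - 1 - (j + 1)) := by
          intro t
          induction t with
          | zero => rfl
          | succ t iht =>
            rw [← Nat.add_assoc, Subgroup.lowerCentralSeries_succ, iht,
              ← Subgroup.lowerCentralSeries_succ,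
              show n - 1 - (j + 1) + 1 = n - 1 - j by omega, ← e]
        have hb : (⊤ : Subgroup G).lowerCentralSeries (n - 1) = ⊥ :=
          Subgroup.lowerCentralSeries_eq_bot_iff_upperCentralSeries_eq_top.2 hc
        have := hconst (j + 1)
        rw [Nat.sub_add_cancel (by omega), hb] at this
        have hlast := hle (n - 1 - (j + 1)) (by omega)
        refine h.ne_top (top_le_iff.1 ?_)
        -- the series would already vanish
        have h0 : (⊤ : Subgroup G).lowerCentralSeries (n - 2) = ⊥ := le_bot_iff.1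
          (this ▸ (⊤ : Subgroup G).lowerCentralSeries_antitone (by omega))
        rw [Subgroup.lowerCentralSeries_eq_bot_iff_upperCentralSeries_eq_top.1 h0]
      have hlt : (⊤ : Subgroup G).lowerCentralSeries (n - 1 - j) <
          (⊤ : Subgroup G).lowerCentralSeries (n - 1 - (j + 1)) :=
        lt_of_le_of_ne ((⊤ : Subgroup G).lowerCentralSeries_antitone (by omega)) hne.symm
      have h1 := card_mul_le_of_lt h.isPGroup hlt
      rw [pow_succ]
      exact (Nat.mul_le_mul_right p (ih (by omega))).trans h1
  have h1 := hle (n - 1 - i) (by omega)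
  rw [show n - 1 - (n - 1 - i) = i by omega] at h1
  exact eq_of_le_of_card_ge h1 ((h.card_upper (by omega)).trans_le (hcard i hi))

/-- `[U_i, U_j] ≤ U_(i+j-n)`. -/
theorem commutator_upper_upper (h : MaxClass G p n)
    (hc : Subgroup.upperCentralSeries G (n - 1) = ⊤) {i j : ℕ} (hi : i + 2 ≤ n) :
    ⁅Subgroup.upperCentralSeries G i, Subgroup.upperCentralSeries G j⁆ ≤
      Subgroup.upperCentralSeries G (j + i - n) := by
  rw [← h.lower_eq_upper hc hi]
  exact (commutator_lower_upper_le _ _).trans (Subgroup.upperCentralSeries_mono G (by omega))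

theorem upper_lt (h : MaxClass G p n) {j : ℕ} (hj : 1 ≤ j) (hjn : j + 1 ≤ n) :
    ¬ Subgroup.upperCentralSeries G j ≤ Subgroup.upperCentralSeries G (j - 1) := by
  intro hle
  have := h.finite
  rcases Nat.lt_or_ge (n - 2) j with hlt | hge
  · have h1 : Subgroup.upperCentralSeries G j ≤ Subgroup.upperCentralSeries G (n - 2) :=
      hle.trans (Subgroup.upperCentralSeries_mono G (by omega))
    have h2 : Subgroup.upperCentralSeries G j = Subgroup.upperCentralSeries G (n - 2) :=
      le_antisymm h1 (Subgroup.upperCentralSeries_mono G hlt.le)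
    -- the series is stationary from `n - 2` on
    have hstab : ∀ t, Subgroup.upperCentralSeries G (n - 2 + t) = Subgroup.upperCentralSeries G (n - 2) := by
      intro t
      induction t with
      | zero => rfl
      | succ t iht =>
        ext x
        rw [← Nat.add_assoc, Subgroup.mem_upperCentralSeries_succ_iff, iht,
          ← Subgroup.mem_upperCentralSeries_succ_iff]
        rw [show j = n - 2 + 1 by omega] at h2
        rw [h2]
    have := Fact.mk h.prime
    have := h.isPGroup.isNilpotent
    obtain ⟨c, hcn⟩ := Group.IsNilpotent.nilpotent G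
    refine h.ne_top ?_
    rw [← hstab c]
    exact top_le_iff.1 (hcn ▸ Subgroup.upperCentralSeries_mono G (Nat.le_add_left c _))
  · have h1 := card_le_of_le hle
    rw [h.card_upper hge, h.card_upper (by omega)] at h1
    exact absurd h1 (Nat.pow_lt_pow_right h.prime.one_lt (by omega)).not_ge

/-- The elements acting trivially on `U_j/U_(j-2)`. -/
def layerCentralizer (G : Type*) [Group G] (j : ℕ) : Subgroup G :=
  (centralizer ((Subgroup.upperCentralSeries G j).map
    (QuotientGroup.mk' (Subgroup.upperCentralSeries G (j - 2))) : Set _)).comap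
      (QuotientGroup.mk' (Subgroup.upperCentralSeries G (j - 2)))

theorem mem_layerCentralizer {j : ℕ} {x : G} : x ∈ layerCentralizer G j ↔
    ∀ b ∈ Subgroup.upperCentralSeries G j, ⁅b, x⁆ ∈ Subgroup.upperCentralSeries G (j - 2) := by
  rw [layerCentralizer, mem_comap, mem_centralizer_iff]
  constructor
  · intro hx b hb
    rw [← QuotientGroup.eq_one_iff, ← QuotientGroup.mk'_apply, map_commutatorElement,
      commutatorElement_eq_one_iff_mul_comm]
    exact hx _ ⟨b, hb, rfl⟩
  · rintro hx _ ⟨b, hb, rfl⟩
    rw [← commutatorElement_eq_one_iff_mul_comm, ← map_commutatorElement, QuotientGroup.mk'_apply,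
      QuotientGroup.eq_one_iff]
    exact hx b hb

theorem layerCentralizer_ne_top (h : MaxClass G p n) {j : ℕ} (hj : 2 ≤ j) (hjn : j + 1 ≤ n) :
    layerCentralizer G j ≠ ⊤ := by
  intro e
  refine h.upper_lt (by omega) hjn fun b hb => ?_
  rw [show j - 1 = j - 2 + 1 by omega, Subgroup.mem_upperCentralSeries_succ_iff]
  exact fun y => mem_layerCentralizer.1 (e ▸ mem_top y) b hb

/-- An abelian term of exponent `p`. -/
theorem elementary_upper (h : MaxClass G p n) (hc : Subgroup.upperCentralSeries G (n - 1) = ⊤)
    {m : ℕ} (hm : 1 ≤ m) (hmp : m + 1 ≤ p) (hmn : 2 * m ≤ n + 1) (hm2 : m + 2 ≤ n) :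
    (∀ a ∈ Subgroup.upperCentralSeries G m, ∀ b ∈ Subgroup.upperCentralSeries G m, a * b = b * a) ∧
      ∀ a ∈ Subgroup.upperCentralSeries G m, a ^ p = 1 := by
  classical
  have := h.finite
  have := Fact.mk h.prime
  set U : ℕ → Subgroup G := Subgroup.upperCentralSeries G with hU
  -- commutative
  have hcU : ∀ i j, i + 2 ≤ n → j + i ≤ n → U j ≤ centralizer (U i : Set G) := by
    intro i j hi hij
    rw [← commutator_eq_bot_iff_le_centralizer, commutator_comm, eq_bot_iff]
    refine (h.commutator_upper_upper hc hi).trans ?_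
    rw [show j + i - n = 0 by omega, Subgroup.upperCentralSeries_zero]
  obtain ⟨a₁, ha₁, ha₁'⟩ := SetLike.not_le_iff_exists.1 (h.upper_lt hm (by omega))
  have hgen : U (m - 1) ⊔ zpowers a₁ = U m := by
    have hle : U (m - 1) ⊔ zpowers a₁ ≤ U m :=
      sup_le (Subgroup.upperCentralSeries_mono G (by omega)) (zpowers_le.2 ha₁)
    refine eq_of_le_of_card_ge hle ?_
    have h1 := card_mul_le_of_lt h.isPGroup (lt_of_le_of_ne le_sup_left fun (e : U (m - 1) = U (m - 1) ⊔ zpowers a₁) =>
      ha₁' (e.symm ▸ mem_sup_right (mem_zpowers a₁) : a₁ ∈ U (m - 1)))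
    rw [h.card_upper (by omega)] at h1
    rw [h.card_upper (by omega)]
    calc p ^ m = p ^ (m - 1) * p := by rw [← pow_succ, Nat.sub_add_cancel hm]
      _ ≤ _ := h1
  have hab : IsMulCommutative ↥(U m) := by
    refine le_centralizer_iff_isMulCommutative.1 ?_
    have h1 : U (m - 1) ≤ centralizer (U m : Set G) := hcU m (m - 1) hm2 (by omega)
    have h2 : zpowers a₁ ≤ centralizer (U m : Set G) := by
      refine zpowers_le.2 (mem_centralizer_iff.2 fun b hb => ?_)
      have hb' : b ∈ U (m - 1) ⊔ zpowers a₁ := hgen.symm ▸ hb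
      have hle : U (m - 1) ⊔ zpowers a₁ ≤ centralizer ({a₁} : Set G) := sup_le
        (fun x hx => mem_centralizer_singleton_iff.2 (mem_centralizer_iff.1 (h1 hx) a₁ ha₁).symm)
        (zpowers_le.2 (mem_centralizer_singleton_iff.2 rfl))
      exact mem_centralizer_singleton_iff.1 (hle hb')
    rw [← hgen] at h1 h2 ⊢
    exact sup_le h1 h2
  refine ⟨fun a ha b hb => congrArg Subtype.val (mul_comm' (⟨a, ha⟩ : U m) ⟨b, hb⟩), ?_⟩
  -- a suitable element `s`
  set J : Finset ℕ := insert (m + 1) ((Finset.Icc (n - p + 1) (n - 2)).filter (2 ≤ ·)) with hJ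
  have hJb : ∀ j ∈ J, 2 ≤ j ∧ j + 1 ≤ n := by
    intro j hj
    rcases Finset.mem_insert.1 hj with rfl | hj
    · omega
    · obtain ⟨h1, h2⟩ := Finset.mem_filter.1 hj
      rw [Finset.mem_Icc] at h1
      omega
  have hJc : J.card ≤ p - 1 := by
    refine (Finset.card_insert_le _ _).trans ?_
    have := (Finset.card_filter_le (Finset.Icc (n - p + 1) (n - 2)) (2 ≤ ·)).trans_eq (Nat.card_Icc _ _)
    omega
  obtain ⟨s, hs⟩ : ∃ s : G, ∀ j ∈ J, s ∉ layerCentralizer G j := by
    by_contra hno
    push Not at hno
    have : Fintype G := Fintype.ofFinite G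
    have hcard : ∀ j ∈ J, (Finset.univ.filter (· ∈ layerCentralizer G j)).card * p ≤ Nat.card G := by
      intro j hj
      have h1 := card_mul_le_of_lt h.isPGroup
        (lt_top_iff_ne_top.2 (h.layerCentralizer_ne_top (hJb j hj).1 (hJb j hj).2))
      rw [card_top] at h1
      rwa [Nat.card_eq_fintype_card, Fintype.card_subtype] at h1
    have hcov : Finset.univ ⊆ J.biUnion fun j => Finset.univ.filter (· ∈ layerCentralizer G j) := by
      intro x _
      obtain ⟨j, hj, hx⟩ := hno x
      exact Finset.mem_biUnion.2 ⟨j, hj, by simpa using hx⟩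
    have h1 := (Finset.card_le_card hcov).trans Finset.card_biUnion_le
    rw [Finset.card_univ, ← Nat.card_eq_fintype_card] at h1
    have h2 : (∑ j ∈ J, (Finset.univ.filter (· ∈ layerCentralizer G j)).card) * p ≤
        J.card * Nat.card G := by
      rw [Finset.sum_mul]
      exact (Finset.sum_le_card_nsmul J _ _ hcard).trans_eq (by rw [smul_eq_mul])
    have h3 : Nat.card G * p ≤ J.card * Nat.card G := (Nat.mul_le_mul_right p h1).trans h2
    rw [mul_comm J.card] at h3
    have h4 : p ≤ J.card := Nat.le_of_mul_le_mul_left h3 Nat.card_pos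
    have := h.prime.two_le
    omega
  -- the pth power of `s` lies deep
  have hidx2 : (U (n - 2)).index = p ^ 2 := by
    refine Nat.eq_of_mul_eq_mul_left (pow_pos h.prime.pos (n - 2)) ?_
    have h1 := card_mul_index (U (n - 2))
    rw [h.card_upper le_rfl, h.card_eq] at h1
    rw [h1, ← pow_add]
    congr 1
    omega
  have hsp : ∀ t, t ≤ n - 2 → max 1 (n - p) ≤ t → s ^ p ∈ U (n - 2) → s ^ p ∈ U (n - 2 - (n - 2 - t)) := by
    intro t ht htb h0
    induction hd : n - 2 - t generalizing t with
    | zero => simpa using h0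
    | succ d ihd =>
      have hd' : s ^ p ∈ U (n - 2 - d) := ihd (t + 1) (by omega) (by omega) (by omega)
      set j := n - 2 - d with hj
      have hjJ : j ∈ J := Finset.mem_insert_of_mem (Finset.mem_filter.2
        ⟨Finset.mem_Icc.2 ⟨by omega, by omega⟩, by omega⟩)
      rw [show n - 2 - (d + 1) = j - 1 by omega]
      by_contra hno
      refine hs j hjJ (mem_layerCentralizer.2 fun b hb => ?_)
      have hjn : j ≤ n - 2 := by omega
      have hsup : U (j - 1) ⊔ zpowers (s ^ p) = U j := by
        refine eq_of_le_of_card_ge (sup_le (Subgroup.upperCentralSeries_mono G (by omega))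
          (zpowers_le.2 hd')) ?_
        have h1 := card_mul_le_of_lt h.isPGroup (lt_of_le_of_ne le_sup_left fun (e : U (j - 1) = U (j - 1) ⊔ zpowers (s ^ p)) =>
          hno (e.symm ▸ mem_sup_right (mem_zpowers (s ^ p)) : s ^ p ∈ U (j - 1)))
        rw [h.card_upper (by omega)] at h1
        rw [h.card_upper hjn]
        calc p ^ j = p ^ (j - 1) * p := by rw [← pow_succ, Nat.sub_add_cancel (by omega)]
          _ ≤ _ := h1
      let f := QuotientGroup.mk' (U (j - 2))
      have hle : U j ≤ (centralizer ({f s} : Set _)).comap f := by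
        rw [← hsup, sup_le_iff, zpowers_le]
        refine ⟨fun x hx => ?_, ?_⟩
        · rw [mem_comap, mem_centralizer_singleton_iff, ← commutatorElement_eq_one_iff_mul_comm,
            ← map_commutatorElement, QuotientGroup.mk'_apply, QuotientGroup.eq_one_iff]
          rw [show j - 1 = j - 2 + 1 by omega] at hx
          exact Subgroup.mem_upperCentralSeries_succ_iff.1 hx s
        · rw [mem_comap, mem_centralizer_singleton_iff, map_pow]
          exact (Commute.self_pow (f s) p).symm.eq
      have := hle hb
      rw [mem_comap, mem_centralizer_singleton_iff, ← commutatorElement_eq_one_iff_mul_comm,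
        ← map_commutatorElement, QuotientGroup.mk'_apply, QuotientGroup.eq_one_iff] at this
      exact this
  have hsp0 : s ^ p ∈ U (n - 2) := by
    have : (U (n - 2)).Normal := inferInstance
    let := IsPGroup.commGroupOfCardEqPrimeSq (p := p) (G := G ⧸ U (n - 2)) hidx2
    have hnc : ¬ IsCyclic (G ⧸ U (n - 2)) := by
      intro hcyc
      obtain ⟨g, hg⟩ := hcyc.exists_generator
      obtain ⟨g, rfl⟩ := QuotientGroup.mk'_surjective (U (n - 2)) g
      let f := QuotientGroup.mk' (U (n - 3))
      refine h.ne_top (eq_top_iff.2 fun x _ => ?_)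
      have hn3 : U (n - 2) ≤ (centralizer ({f g} : Set _)).comap f := fun y hy => by
        rw [mem_comap, mem_centralizer_singleton_iff, ← commutatorElement_eq_one_iff_mul_comm,
          ← map_commutatorElement, QuotientGroup.mk'_apply, QuotientGroup.eq_one_iff]
        rw [show n - 2 = n - 3 + 1 by omega] at hy
        exact Subgroup.mem_upperCentralSeries_succ_iff.1 hy g
      have hall : ∀ y, y ∈ (centralizer ({f g} : Set _)).comap f := by
        intro y
        obtain ⟨e, he⟩ := Subgroup.mem_zpowers_iff.1 (hg (y : G ⧸ U (n - 2)))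
        have h1 : (g ^ e)⁻¹ * y ∈ U (n - 2) := QuotientGroup.eq.1 (by rw [← he]; rfl)
        have h2 := mul_mem (zpow_mem (show g ∈ (centralizer ({f g} : Set _)).comap f from
          mem_comap.2 (mem_centralizer_singleton_iff.2 rfl)) e) (hn3 h1)
        simpa using h2
      rw [show n - 2 = n - 3 + 1 by omega, Subgroup.mem_upperCentralSeries_succ_iff]
      intro y
      obtain ⟨e, he⟩ := Subgroup.mem_zpowers_iff.1 (hg (x : G ⧸ U (n - 2)))
      have h1 : (g ^ e)⁻¹ * x ∈ U (n - 2) := QuotientGroup.eq.1 (by rw [← he]; rfl)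
      have hxc : ∀ z, f z * f g = f g * f z := fun z => mem_centralizer_singleton_iff.1 (hall z)
      rw [← QuotientGroup.eq_one_iff, ← QuotientGroup.mk'_apply, map_commutatorElement,
        commutatorElement_eq_one_iff_mul_comm]
      have hcomm2 : Commute (f ((g ^ e)⁻¹ * x)) (f y) := by
        rw [show n - 2 = n - 3 + 1 by omega] at h1
        have := Subgroup.mem_upperCentralSeries_succ_iff.1 h1 y
        rw [← QuotientGroup.eq_one_iff, ← QuotientGroup.mk'_apply, map_commutatorElement,
          commutatorElement_eq_one_iff_commute] at this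
        exact this
      have hcomm1 : Commute (f g ^ e) (f y) :=
        ((show Commute (f g) (f y) from (hxc y).symm)).zpow_left e
      have hx : f x = f g ^ e * f ((g ^ e)⁻¹ * x) := by rw [← map_zpow, ← map_mul, mul_inv_cancel_left]
      rw [hx]
      exact hcomm1.mul_left hcomm2
    have hexp : (s : G ⧸ U (n - 2)) ^ p = 1 := by
      have hdvd : orderOf (s : G ⧸ U (n - 2)) ∣ p ^ 2 := by
        rw [← hidx2]; exact orderOf_dvd_natCard _
      obtain ⟨d, hd, hd'⟩ := (Nat.dvd_prime_pow h.prime).1 hdvd
      refine orderOf_dvd_iff_pow_eq_one.1 ?_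
      rw [hd']
      refine (pow_dvd_pow p (show d ≤ 1 from ?_)).trans (by rw [pow_one])
      by_contra hd1
      refine hnc (isCyclic_of_orderOf_eq_card (s : G ⧸ U (n - 2)) ?_)
      rw [hd', show d = 2 by omega]
      exact hidx2.symm
    rw [← QuotientGroup.eq_one_iff]
    simpa using hexp
  have hspt : s ^ p ∈ U (max 1 (n - p)) := by
    have := hsp (max 1 (n - p)) (by have := h.prime.two_le; omega) le_rfl hsp0
    rwa [show n - 2 - (n - 2 - max 1 (n - p)) = max 1 (n - p) by
      have := h.prime.two_le; omega] at this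
  -- `b` with `[b, s]` outside `U (m - 1)`
  obtain ⟨b, hb, hb'⟩ : ∃ b ∈ U (m + 1), ⁅b, s⁆ ∉ U (m - 1) := by
    have := hs (m + 1) (Finset.mem_insert_self _ _)
    rw [mem_layerCentralizer, show m + 1 - 2 = m - 1 by omega] at this
    push Not at this
    exact this
  have ha : ⁅b, s⁆ ∈ U m := Subgroup.mem_upperCentralSeries_succ_iff.1 hb s
  have hbs : Commute b (s ^ p) := by
    rw [← commutatorElement_eq_one_iff_commute]
    have h1 := h.commutator_upper_upper hc (i := max 1 (n - p)) (j := m + 1)
      (by have := h.prime.two_le; omega) (commutator_mem_commutator hspt hb)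
    rw [show m + 1 + max 1 (n - p) - n = 0 by omega, Subgroup.upperCentralSeries_zero, mem_bot] at h1
    rw [← commutatorElement_inv, h1, inv_one]
  -- the norm computation
  letI : CommGroup ↥(U m) := { (inferInstance : Group ↥(U m)) with mul_comm := hab.is_comm.comm }
  let σ : G → (↥(U m) →* ↥(U m)) := fun g => (MulAut.conjNormal g).toMonoidHom
  let σA : AddMonoid.End (Additive ↥(U m)) := MonoidHom.toAdditive (σ s)
  let D : AddMonoid.End (Additive ↥(U m)) := σA - 1
  have hDapply : ∀ x : Additive ↥(U m), ((D x).toMul : G) = s * x.toMul * s⁻¹ * (x.toMul : G)⁻¹ := by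
    intro x
    show ((((σ s) x.toMul) / x.toMul : ↥(U m)) : G) = _
    simp [σ, MulAut.conjNormal_apply, div_eq_mul_inv]
  have hDdeep : ∀ (r : ℕ) (x : Additive ↥(U m)), (((D ^ r) x).toMul : G) ∈ U (m - r) := by
    intro r
    induction r with
    | zero => intro x; exact x.toMul.2
    | succ r ih =>
      intro x
      rw [pow_succ', AddMonoid.End.coe_mul, Function.comp_apply, hDapply]
      have hx := ih x
      rcases Nat.eq_zero_or_pos (m - r) with h0 | h0
      · rw [h0] at hx
        rw [show m - (r + 1) = 0 by omega]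
        simp only [hU, Subgroup.upperCentralSeries_zero, mem_bot] at hx ⊢
        rw [show (((D ^ r) x).toMul : G) = 1 from hx]
        group
      · rw [show m - r = m - (r + 1) + 1 by omega] at hx
        have := inv_mem (Subgroup.mem_upperCentralSeries_succ_iff.1 hx s)
        rwa [commutatorElement_inv] at this
  have hDnil : D ^ (p - 1) = 0 := by
    refine AddMonoidHom.ext fun x => ?_
    have := hDdeep (p - 1) x
    rw [show m - (p - 1) = 0 by omega] at this
    simp only [hU, Subgroup.upperCentralSeries_zero, mem_bot] at this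
    exact Additive.toMul.injective (Subtype.ext this)
  set a : ↥(U m) := ⟨⁅b, s⁆, ha⟩ with hadef
  have hD1 : D + 1 = σA := sub_add_cancel _ _
  have hprod : ∀ k : ℕ, (⁅b, s⁆ * s) ^ k =
      (((∑ j ∈ Finset.range k, (D + 1) ^ j) (Additive.ofMul a)).toMul : G) * s ^ k := by
    intro k
    induction k with
    | zero => simp
    | succ k ih =>
      have hgeom : (∑ j ∈ Finset.range (k + 1), (D + 1) ^ j) =
          1 + (D + 1) * ∑ j ∈ Finset.range k, (D + 1) ^ j := by
        rw [Finset.sum_range_succ', pow_zero, Finset.mul_sum, add_comm]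
        exact congrArg (1 + ·) (Finset.sum_congr rfl fun j _ => pow_succ' _ _)
      rw [pow_succ' (⁅b, s⁆ * s), ih, hgeom, hD1]
      show ⁅b, s⁆ * s * (_ * s ^ k) =
        (((a : ↥(U m)) * σ s _ : ↥(U m)) : G) * s ^ (k + 1)
      rw [Subgroup.coe_mul, MulEquiv.coe_toMonoidHom, MulAut.conjNormal_apply]
      simp only [hadef, pow_succ', mul_assoc, inv_mul_cancel_left]
      rfl
  have hN : (∑ j ∈ Finset.range p, (D + 1) ^ j) (Additive.ofMul a) = 0 := by
    have h1 := hprod p
    rw [show ⁅b, s⁆ * s = b * s * b⁻¹ by rw [commutatorElement_def]; group, conj_pow,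
      hbs.eq, mul_inv_cancel_right, right_eq_mul] at h1
    exact Additive.toMul.injective (Subtype.ext h1)
  have hap : a ^ p = 1 := by
    have := eq_zero_of_norm h.prime D hDnil hN
    exact congrArg Additive.toMul this
  -- spread
  let Ω : Subgroup G := ((powMonoidHom p : ↥(U m) →* ↥(U m)).ker).map (U m).subtype
  have hΩmem : ∀ x, x ∈ Ω ↔ x ∈ U m ∧ x ^ p = 1 := by
    intro x
    constructor
    · rintro ⟨y, hy, rfl⟩
      exact ⟨y.2, congrArg Subtype.val (MonoidHom.mem_ker.1 hy)⟩
    · exact fun hx => ⟨⟨x, hx.1⟩, MonoidHom.mem_ker.2 (Subtype.ext hx.2), rfl⟩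
  have hΩn : Ω.Normal := ⟨fun x hx g => by
    obtain ⟨h1, h2⟩ := (hΩmem x).1 hx
    exact (hΩmem _).2 ⟨(inferInstance : (U m).Normal).conj_mem x h1 g, by rw [conj_pow, h2]; group⟩⟩
  have hΩ : Ω = U m := by
    have hle : Ω ≤ U m := map_subtype_le _
    obtain ⟨i, hi, hcard⟩ := (Nat.dvd_prime_pow h.prime).1 (h.card_upper (i := m) (by omega) ▸
      card_dvd_of_le hle)
    have heq : Ω = U i := h.normal_eq_upper (by omega) hcard
    rcases hi.eq_or_lt with rfl | hlt
    · exact heq
    · exact absurd (Subgroup.upperCentralSeries_mono G (show i ≤ m - 1 by omega)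
        (heq ▸ (hΩmem _).2 ⟨ha, congrArg Subtype.val hap⟩ : ⁅b, s⁆ ∈ U i)) hb'
  exact fun x hx => ((hΩmem x).1 (hΩ.symm ▸ hx)).2

end MaxClass

end CfsgLib.PMaxClass
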