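import Cfsg.Agent.PMaxClass.Blackburn

/-!
# No group of maximal class of order `p ^ (p + 1)` has exponent `p`

In the exceptional case the congruence for `(a x) ^ p` is run in `G × G` at two elements `x`, `y` of
the same coset of the first two-step centraliser, of which `y` centralises the second centre.
-/

set_option autoImplicit false
set_option linter.style.haveILetI false

namespace CfsgLib.PMaxClass

open Subgroup
open MaxClass (layerCentralizer mem_layerCentralizer term_one term_of_le)
open scoped commutatorElement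

variable {G : Type*} [Group G] {p n : ℕ}

/-- The index of the agreement of the two components. -/
def pairLevel (n s : ℕ) : ℕ :=
  if s + 1 = n then 1 else n - max s 1 - 1

/-- The index of a component. -/
def capIdx (n s : ℕ) : ℕ := min (max s 1) (n - 1)

/-- Pairs in a term whose components agree one step further down. -/
def pairW (G : Type*) [Group G] (n s : ℕ) : Subgroup (G × G) :=
  ((term G n (capIdx n s)).prod (term G n (capIdx n s))) ⊓
    MonoidHom.eqLocus
      ((QuotientGroup.mk' (Subgroup.upperCentralSeries G (pairLevel n s))).comp (MonoidHom.fst G G))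
      ((QuotientGroup.mk' (Subgroup.upperCentralSeries G (pairLevel n s))).comp (MonoidHom.snd G G))

theorem mem_pairW {s : ℕ} {w : G × G} : w ∈ pairW G n s ↔
    (w.1 ∈ term G n (capIdx n s) ∧ w.2 ∈ term G n (capIdx n s)) ∧
      QuotientGroup.mk' (Subgroup.upperCentralSeries G (pairLevel n s)) w.1 =
        QuotientGroup.mk' (Subgroup.upperCentralSeries G (pairLevel n s)) w.2 := Iff.rfl

namespace MaxClass

theorem term_anti (h : MaxClass G p n) (hn : 4 ≤ n) {s t : ℕ} (hst : s ≤ t) :
    term G n t ≤ term G n s := by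
  rcases le_or_gt s 1 with hs | hs
  · rw [show term G n s = layerCentralizer G (n - 2) from if_pos hs]
    rcases le_or_gt t 1 with ht | ht
    · rw [show term G n t = layerCentralizer G (n - 2) from if_pos ht]
    · rw [term_of_le ht]
      exact (Subgroup.upperCentralSeries_mono G (by omega)).trans
        (h.upperLayer_le_layerCentralizer (by omega) (by omega))
  · rw [term_of_le hs, term_of_le (by omega : 2 ≤ t)]
    exact Subgroup.upperCentralSeries_mono G (by omega)

theorem upper_le_term (h : MaxClass G p n) (hn : 4 ≤ n) {k s : ℕ} (hk : k + 2 ≤ n)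
    (hks : k + s ≤ n) : Subgroup.upperCentralSeries G k ≤ term G n s := by
  refine le_trans ?_ (h.term_anti hn (show s ≤ n - k by omega))
  rw [term_of_le (by omega)]
  exact Subgroup.upperCentralSeries_mono G (by omega)

/-- Commutators of a term with a term of the upper series. -/
theorem commutator_upper_term (h : MaxClass G p n) (hn : 4 ≤ n) {f : ℕ} (hf : Flat G n f) {k t : ℕ}
    (hk : k + 2 ≤ n) (ht : 1 ≤ t) {u v : G} (hu : u ∈ Subgroup.upperCentralSeries G k)
    (hv : v ∈ term G n t) :
    ⁅u, v⁆ ∈ Subgroup.upperCentralSeries G (k - t) ∧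
      ⁅u, v⁆ ∈ Subgroup.upperCentralSeries G (max f (k - t - 1)) := by
  constructor
  · rcases ht.eq_or_lt with rfl | ht2
    · exact commutator_mem_of_upper hu v
    · rw [term_of_le ht2] at hv
      have h1 := h.commutator_upper_upper (h.upper_top (by omega)) (i := n - t) (j := k) (by omega)
        (commutator_mem_commutator hv hu)
      rw [← commutatorElement_inv]
      exact inv_mem (Subgroup.upperCentralSeries_mono G (by omega) h1)
  · have h1 := h.commutator_term hn hf (n - k) t (by omega) ht
      (commutator_mem_commutator (by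
        rw [term_of_le (by omega), show n - (n - k) = k by omega]; exact hu) hv)
    exact Subgroup.upperCentralSeries_mono G (by omega) h1

theorem filtered_pair (h : MaxClass G p n) (hn : 4 ≤ n) (hf : Flat G n 1) :
    Filtered (pairW G n) where
  anti {s t} hst := by
    intro w hw
    obtain ⟨⟨h1, h2⟩, h3⟩ := mem_pairW.1 hw
    refine mem_pairW.2 ⟨⟨h.term_anti hn (by unfold capIdx; omega) h1,
      h.term_anti hn (by unfold capIdx; omega) h2⟩, ?_⟩
    rw [QuotientGroup.mk'_apply, QuotientGroup.mk'_apply, QuotientGroup.eq] at h3 ⊢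
    exact Subgroup.upperCentralSeries_mono G (by unfold pairLevel; split_ifs <;> omega) h3
  normal s := by
    refine ⟨fun w hw g => ?_⟩
    obtain ⟨⟨h1, h2⟩, h3⟩ := mem_pairW.1 hw
    have := h.term_normal hn (capIdx n s)
    refine mem_pairW.2 ⟨⟨this.conj_mem _ h1 _, this.conj_mem _ h2 _⟩, ?_⟩
    set q := QuotientGroup.mk' (Subgroup.upperCentralSeries G (pairLevel n s)) with hq
    set A := term G n (capIdx n s)
    show q (g.1 * w.1 * g.1⁻¹) = q (g.2 * w.2 * g.2⁻¹)
    have key : ∀ y, y ∈ A → ∀ z : G, q (z * y * z⁻¹) = q y := by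
      intro y hy z
      rw [hq, QuotientGroup.mk'_apply, QuotientGroup.mk'_apply, eq_comm, QuotientGroup.eq,
        show y⁻¹ * (z * y * z⁻¹) = ⁅y⁻¹, z⁆ by rw [commutatorElement_def]; group]
      have h5 := h.term_succ_le hn (s := capIdx n s) (by unfold capIdx; omega)
        (commutator_mem_commutator (inv_mem hy) (mem_top z))
      rw [term_of_le (by unfold capIdx; omega : 2 ≤ capIdx n s + 1)] at h5
      rcases le_or_gt n s with hs | hs
      · have h6 : y⁻¹ ∈ Subgroup.upperCentralSeries G 1 := by
          have := inv_mem hy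
          simp only [A] at this
          rw [term_of_le (by unfold capIdx; omega : 2 ≤ capIdx n s)] at this
          exact Subgroup.upperCentralSeries_mono G (by unfold capIdx; omega) this
        have := commutator_mem_of_upper h6 z
        exact Subgroup.upperCentralSeries_mono G (by omega) this
      · exact Subgroup.upperCentralSeries_mono G
          (by unfold capIdx pairLevel; split_ifs <;> omega) h5
    rw [key _ h1, key _ h2, h3]
  comm s t := by
    rw [commutator_le]
    intro w hw w' hw'
    obtain ⟨⟨h1, h2⟩, h3⟩ := mem_pairW.1 hw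
    obtain ⟨⟨h1', h2'⟩, h3'⟩ := mem_pairW.1 hw'
    have hs1 : 1 ≤ capIdx n s := by unfold capIdx; omega
    have ht1 : 1 ≤ capIdx n t := by unfold capIdx; omega
    have hA : ∀ y z, y ∈ term G n (capIdx n s) → z ∈ term G n (capIdx n t) →
        ⁅y, z⁆ ∈ term G n (capIdx n (s + t + 1)) := by
      intro y z hy hz
      have h5 := h.commutator_term hn hf _ _ hs1 ht1 (commutator_mem_commutator hy hz)
      refine h.upper_le_term hn (by unfold capIdx; omega) ?_ h5
      unfold capIdx; omega
    refine mem_pairW.2 ⟨⟨hA _ _ h1 h1', hA _ _ h2 h2'⟩, ?_⟩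
    set N := Subgroup.upperCentralSeries G (pairLevel n (s + t + 1)) with hN
    set q := QuotientGroup.mk' N with hq
    have hgen : ∀ s t, ∀ u ∈ Subgroup.upperCentralSeries G (pairLevel n s),
        ∀ v ∈ term G n (capIdx n t),
        ⁅u, v⁆ ∈ Subgroup.upperCentralSeries G (pairLevel n (s + t + 1)) := by
      intro s t u hu v hv
      obtain ⟨k1, k2⟩ := h.commutator_upper_term hn hf (k := pairLevel n s)
        (by unfold pairLevel; split_ifs <;> omega) (by unfold capIdx; omega) hu hv
      rcases le_or_gt n (s + t + 1) with hr | hr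
      · exact Subgroup.upperCentralSeries_mono G
          (by unfold pairLevel capIdx; split_ifs <;> omega) k1
      · exact Subgroup.upperCentralSeries_mono G
          (by unfold pairLevel capIdx; split_ifs <;> omega) k2
    have hcomm : ∀ u v : G, ⁅u, v⁆ ∈ N → Commute (q u) (q v) := fun u v huv => by
      rw [← commutatorElement_eq_one_iff_commute, ← map_commutatorElement, hq,
        QuotientGroup.mk'_apply, QuotientGroup.eq_one_iff]
      exact huv
    rw [QuotientGroup.mk'_apply, QuotientGroup.mk'_apply, QuotientGroup.eq] at h3 h3'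
    show q ⁅w.1, w'.1⁆ = q ⁅w.2, w'.2⁆
    obtain ⟨δ, hδ, e2⟩ : ∃ δ ∈ Subgroup.upperCentralSeries G (pairLevel n s), w.2 = w.1 * δ :=
      ⟨_, h3, by group⟩
    obtain ⟨δ', hδ', e2'⟩ : ∃ δ ∈ Subgroup.upperCentralSeries G (pairLevel n t), w'.2 = w'.1 * δ :=
      ⟨_, h3', by group⟩
    have c1 : Commute (q δ) (q w'.1) := hcomm _ _ (hgen s t δ hδ _ h1')
    have c2 : Commute (q δ') (q w.1) := hcomm _ _ (by
      have := hgen t s δ' hδ' _ h1
      rwa [show t + s + 1 = s + t + 1 by omega] at this)
    have c3 : Commute (q δ) (q w'.2) := hcomm _ _ (hgen s t δ hδ _ h2')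
    have c4 : Commute (q δ) (q δ') := by
      have : q δ' = (q w'.1)⁻¹ * q w'.2 := by rw [e2', map_mul, inv_mul_cancel_left]
      rw [this]
      exact c1.inv_right.mul_right c3
    rw [map_commutatorElement, map_commutatorElement, e2, e2', map_mul, map_mul,
      commutatorElement_def, commutatorElement_def]
    generalize q w.1 = u at c2 ⊢
    generalize q w'.1 = v at c1 ⊢
    generalize q δ = d at c1 c4 ⊢
    generalize q δ' = d' at c2 c4 ⊢
    have e : d * (v * d') * d⁻¹ = v * d' := by
      rw [(c1.mul_right c4).eq, mul_inv_cancel_right]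
    calc u * v * u⁻¹ * v⁻¹ = u * v * (d' * d'⁻¹) * u⁻¹ * v⁻¹ := by group
      _ = u * v * (d' * u⁻¹) * (d'⁻¹ * v⁻¹) := by
          rw [mul_inv_cancel, mul_one, c2.inv_right.eq]; group
      _ = u * (v * d') * u⁻¹ * (v * d')⁻¹ := by group
      _ = u * (d * (v * d') * d⁻¹) * u⁻¹ * (v * d')⁻¹ := by rw [e]
      _ = u * d * (v * d') * (u * d)⁻¹ * (v * d')⁻¹ := by group

theorem pair_step (h : MaxClass G p n) (hn : 4 ≤ n) (hf : Flat G n 1) {x y a : G}
    (ha : a ∈ layerCentralizer G (n - 2)) (hxy : x = a * y) (s : ℕ) (hs : 1 ≤ s) (d : G × G)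
    (hd : d ∈ pairW G n s) : d⁻¹ * ((x, y) * d * (x, y)⁻¹) ∈ pairW G n (s + 1) := by
  obtain ⟨⟨h1, h2⟩, h3⟩ := mem_pairW.1 hd
  rw [show d⁻¹ * ((x, y) * d * (x, y)⁻¹) = (⁅d.1⁻¹, x⁆, ⁅d.2⁻¹, y⁆) by
    ext <;> simp [commutatorElement_def, mul_assoc]]
  have hA : ∀ u z, u ∈ term G n (capIdx n s) → ⁅u, z⁆ ∈ term G n (capIdx n s + 1) :=
    fun u z hu => h.term_succ_le hn (by unfold capIdx; omega)
      (commutator_mem_commutator hu (mem_top z))
  refine mem_pairW.2 ⟨⟨h.term_anti hn (by unfold capIdx; omega) (hA _ _ (inv_mem h1)),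
    h.term_anti hn (by unfold capIdx; omega) (hA _ _ (inv_mem h2))⟩, ?_⟩
  set N := Subgroup.upperCentralSeries G (pairLevel n (s + 1)) with hN
  set q := QuotientGroup.mk' N with hq
  rw [QuotientGroup.mk'_apply, QuotientGroup.mk'_apply, QuotientGroup.eq] at h3
  show q ⁅d.1⁻¹, x⁆ = q ⁅d.2⁻¹, y⁆
  rcases le_or_gt n (s + 1) with hr | hr
  · have hc : ∀ u, u ∈ term G n (capIdx n s) → ∀ z : G, ⁅u, z⁆ = 1 := by
      intro u hu z
      rw [term_of_le (by unfold capIdx; omega : 2 ≤ capIdx n s)] at hu
      have := commutator_mem_of_upper hu z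
      rwa [show n - capIdx n s - 1 = 0 by unfold capIdx; omega,
        Subgroup.upperCentralSeries_zero, mem_bot] at this
    rw [hc _ (inv_mem h1), hc _ (inv_mem h2)]
  have hmem : ∀ u v : G, ⁅u, v⁆ ∈ N → Commute (q u) (q v) := fun u v huv => by
    rw [← commutatorElement_eq_one_iff_commute, ← map_commutatorElement, hq,
      QuotientGroup.mk'_apply, QuotientGroup.eq_one_iff]
    exact huv
  have haT : a ∈ term G n 1 := by rw [term_one]; exact ha
  have k1 : ⁅d.1⁻¹, a⁆ ∈ N := by
    have := h.commutator_term hn hf (capIdx n s) 1 (by unfold capIdx; omega) le_rfl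
      (commutator_mem_commutator (inv_mem h1) haT)
    exact Subgroup.upperCentralSeries_mono G
      (by unfold capIdx pairLevel; split_ifs <;> omega) this
  have k2 : ⁅⁅d.1⁻¹, y⁆, a⁆ ∈ N := by
    have := h.commutator_term hn hf (capIdx n s + 1) 1 (by omega) le_rfl
      (commutator_mem_commutator (hA _ y (inv_mem h1)) haT)
    exact Subgroup.upperCentralSeries_mono G
      (by unfold capIdx pairLevel; split_ifs <;> omega) this
  obtain ⟨δ, hδ, e2⟩ : ∃ δ ∈ Subgroup.upperCentralSeries G (pairLevel n s), d.2⁻¹ = δ * d.1⁻¹ :=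
    ⟨(d.1⁻¹ * d.2)⁻¹, inv_mem h3, by group⟩
  have k3 : ⁅δ, y⁆ ∈ N := Subgroup.upperCentralSeries_mono G
    (by unfold pairLevel; split_ifs <;> omega) (commutator_mem_of_upper hδ y)
  have k4 : ∀ z, ⁅δ, z⁆ ∈ N := fun z => Subgroup.upperCentralSeries_mono G
    (by unfold pairLevel; split_ifs <;> omega) (commutator_mem_of_upper hδ z)
  have c1 : q ⁅d.1⁻¹, a⁆ = 1 := (QuotientGroup.eq_one_iff _).2 k1
  have c3 : q ⁅δ, y⁆ = 1 := (QuotientGroup.eq_one_iff _).2 k3
  rw [hxy, e2, commutatorElement_mul_right_eq_mul_conj, commutatorElement_mul_left_eq_conj_mul]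
  simp only [MulAut.conj_apply, map_mul, map_inv, c1, c3, one_mul, mul_one]
  rw [(hmem _ _ k2).symm.eq, (hmem _ _ (k4 _)).eq]
  simp

theorem layer_eq_of_le (h : MaxClass G p n) (hn : 4 ≤ n) {j : ℕ} (hj : 2 ≤ j) (hjn : j + 2 ≤ n)
    (hle : layerCentralizer G (n - 2) ≤ layerCentralizer G j) :
    layerCentralizer G j = layerCentralizer G (n - 2) := by
  have := h.finite
  have := Fact.mk h.prime
  by_contra hne
  refine h.layerCentralizer_ne_top hj (by omega) (eq_top_of_le_card _ ?_)
  have h1 := card_mul_le_of_lt h.isPGroup (lt_of_le_of_ne hle (Ne.symm hne))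
  refine le_trans ?_ h1
  rw [← card_mul_index (layerCentralizer G (n - 2))]
  exact Nat.mul_le_mul_left _ (h.index_layer_le (by omega) (by omega))

/-- Iterated commutators of a generator of the top with an element. -/
theorem dcomm_top_mem (h : MaxClass G p n) (hn : 3 ≤ n) (y a : G) : ∀ k, 1 ≤ k →
    dcomm y a k ∈ Subgroup.upperCentralSeries G (n - 1 - k) := by
  intro k hk
  induction k with
  | zero => omega
  | succ k ih =>
    rw [dcomm, show (dcomm y a k)⁻¹ * (y * dcomm y a k * y⁻¹) = ⁅(dcomm y a k)⁻¹, y⁆ by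
      rw [commutatorElement_def]; group]
    rcases Nat.eq_zero_or_pos k with rfl | hk0
    · exact h.commutator_mem_upper (by omega) _ _
    · rw [show n - 1 - (k + 1) = n - 1 - k - 1 by omega]
      exact commutator_mem_of_upper (inv_mem (ih hk0)) y

theorem dcomm_top_not_mem (h : MaxClass G p n) (hn : 4 ≤ n) {x a : G}
    (ha : a ∈ layerCentralizer G (n - 2)) (ha' : a ∉ Subgroup.upperCentralSeries G (n - 2))
    (hx : ∀ j, 2 ≤ j → j + 2 ≤ n → x ∉ layerCentralizer G j) :
    ∀ k, 1 ≤ k → k + 2 ≤ n → dcomm x a k ∉ Subgroup.upperCentralSeries G (n - 2 - k) := by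
  intro k hk
  induction k with
  | zero => omega
  | succ k ih =>
    intro hkn
    rw [dcomm, show (dcomm x a k)⁻¹ * (x * dcomm x a k * x⁻¹) = ⁅(dcomm x a k)⁻¹, x⁆ by
      rw [commutatorElement_def]; group]
    rcases Nat.eq_zero_or_pos k with rfl | hk0
    · exact h.commutator_not_mem_pred hn (inv_mem ha) (fun hh => ha' (inv_mem_iff.1 hh))
        (hx _ (by omega) (by omega))
    · intro hmem
      refine hx (n - 1 - k) (by omega) (by omega) (h.mem_layerCentralizer_of_exact
        (a := (dcomm x a k)⁻¹) (by omega) (by omega) (inv_mem (h.dcomm_top_mem (by omega) x a k hk0))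
        (fun hh => ih hk0 (by omega) ?_) ?_)
      · rw [show n - 2 - k = n - 1 - k - 1 by omega]
        exact inv_mem_iff.1 hh
      · rw [show n - 1 - k - 2 = n - 2 - (k + 1) by omega]
        exact hmem

/-- A group of maximal class of order `p ^ (p + 1)` does not have exponent `p`. -/
theorem exists_pow_ne_one (h : MaxClass G p n) (hnp : n = p + 1) : ∃ g : G, g ^ p ≠ 1 := by
  have := h.finite
  have := Fact.mk h.prime
  have hp2 := h.prime.two_le
  by_contra hall
  push Not at hall
  rcases eq_or_lt_of_le hp2 with hp | hp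
  · subst hp
    have hcomm : ∀ y z : G, y * z = z * y := fun y z => by
      have hi : ∀ w : G, w⁻¹ = w := fun w => inv_eq_of_mul_eq_one_right (by rw [← pow_two]; exact hall w)
      rw [← hi (y * z), mul_inv_rev, hi, hi]
    have hc : center G = ⊤ := eq_top_iff.2 fun y _ => mem_center_iff.2 fun z => hcomm z y
    have hc' := h.card_center (by omega)
    rw [hc, card_top, h.card_eq, hnp] at hc'
    norm_num at hc'
  have hn : 4 ≤ n := by omega
  have hf1 : Flat G n 1 := (blackburn n G h (by omega)).1
  obtain ⟨a, ha, ha', hgen⟩ := h.exists_top_gen hn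
  set M := layerCentralizer G (n - 2) with hM
  have hCeq : ∀ j, 3 ≤ j → j + 2 ≤ n → layerCentralizer G j = M := fun j hj hjn =>
    h.layer_eq_of_le hn (by omega) hjn (hf1 j hj hjn)
  by_cases hplain : M ≤ layerCentralizer G 2
  · have hf0 : Flat G n 0 := fun j hj hjn => by
      rcases eq_or_lt_of_le hj with rfl | hj3
      · exact hplain
      · exact hf1 j hj3 hjn
    obtain ⟨x, hx⟩ : ∃ x, x ∉ M := by
      simpa [Subgroup.eq_top_iff'] using h.layerCentralizer_ne_top (j := n - 2) (by omega) (by omega)
    have hxall : ∀ j, 2 ≤ j → j + 2 ≤ n → x ∉ layerCentralizer G j := fun j hj hjn => by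
      rw [h.layer_eq_of_le hn hj hjn (hf0 j (by omega) hjn)]; exact hx
    have hW : Filtered fun s => term G n (max s 1) :=
      { anti := fun hst => h.term_anti hn (by omega)
        normal := fun s => h.term_normal hn _
        comm := fun s t => by
          rw [commutator_le]
          intro u hu v hv
          have h1 := h.commutator_term hn hf0 _ _ (le_max_right s 1) (le_max_right t 1)
            (commutator_mem_commutator hu hv)
          rcases le_or_gt (s + t + 1) n with hr | hr
          · exact h.upper_le_term hn (by omega) (by omega) h1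
          · rw [show max 0 (n - max s 1 - max t 1 - 1) = 0 by omega,
              Subgroup.upperCentralSeries_zero, mem_bot] at h1
            rw [h1]
            exact one_mem _ }
    have hstep : ∀ s, 1 ≤ s → ∀ d ∈ term G n (max s 1),
        d⁻¹ * (x * d * x⁻¹) ∈ term G n (max (s + 1) 1) := fun s hs d hd => by
      rw [show d⁻¹ * (x * d * x⁻¹) = ⁅d⁻¹, x⁆ by rw [commutatorElement_def]; group,
        show max (s + 1) 1 = max s 1 + 1 by omega]
      exact h.term_succ_le hn (le_max_right s 1) (commutator_mem_commutator (inv_mem hd) (mem_top x))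
    have hm := mul_pow_congr hW hstep (x := x) (fun k _ _ c _ => by rw [hall c]; exact one_mem _)
      (a := a) (by rw [max_self, term_one]; exact ha)
    rw [hall, hall, hall, inv_one, mul_one, inv_one, one_mul, mul_one,
      term_of_le (by omega : 2 ≤ max (p + 1) 1), show n - max (p + 1) 1 = 0 by omega] at hm
    have hne := h.dcomm_top_not_mem hn ha ha' hxall (p - 1) (by omega) (by omega)
    rw [show n - 2 - (p - 1) = 0 by omega] at hne
    exact hne hm
  · -- the exceptional case
    have haC : a ∉ layerCentralizer G 2 := fun hh => hplain (by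
      rw [← hgen]
      exact sup_le (h.upperLayer_le_layerCentralizer (by omega) le_rfl) (zpowers_le.2 hh))
    obtain ⟨y, hy, hyM⟩ : ∃ y ∈ layerCentralizer G 2, y ∉ M := by
      by_contra hno
      push Not at hno
      have hle : layerCentralizer G 2 ≤ M := hno
      have hlt : layerCentralizer G 2 < M := lt_of_le_of_ne hle fun e => hplain e.ge
      have h1 := card_mul_le_of_lt h.isPGroup hlt
      have h2 : Nat.card M ≤ Nat.card (layerCentralizer G 2) := by
        refine Nat.le_of_mul_le_mul_right ?_ h.prime.pos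
        refine le_trans ?_ ((card_mul_index (layerCentralizer G 2)).ge.trans
          (Nat.mul_le_mul_left _ (h.index_layer_le le_rfl (by omega))))
        have h3 := card_mul_le_of_lt h.isPGroup
          (lt_top_iff_ne_top.2 (h.layerCentralizer_ne_top (j := n - 2) (by omega) (by omega)))
        rwa [card_top] at h3
      have : 0 < Nat.card (layerCentralizer G 2) := Nat.card_pos
      nlinarith
    set x := a * y with hx
    have hxM : x ∉ M := fun hh => hyM (by simpa [hx] using mul_mem (inv_mem ha) hh)
    have hxall : ∀ j, 2 ≤ j → j + 2 ≤ n → x ∉ layerCentralizer G j := fun j hj hjn => by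
      rcases eq_or_lt_of_le hj with rfl | hj3
      · exact fun hh => haC (by simpa [hx] using mul_mem hh (inv_mem hy))
      · rw [hCeq j hj3 hjn]; exact hxM
    have hm := mul_pow_congr (h.filtered_pair hn hf1) (h.pair_step hn hf1 ha hx) (x := (x, y))
      (fun k _ _ c _ => by
        rw [show c ^ p = 1 from Prod.ext (hall c.1) (hall c.2)]; exact one_mem _)
      (a := (a, a)) (mem_pairW.2 ⟨⟨by
        rw [show capIdx n 1 = 1 by unfold capIdx; omega, term_one]; exact ha, by
        rw [show capIdx n 1 = 1 by unfold capIdx; omega, term_one]; exact ha⟩, rfl⟩)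
    have hall2 : ∀ w : G × G, w ^ p = 1 := fun w => Prod.ext (hall w.1) (hall w.2)
    rw [hall2, hall2, hall2, inv_one, mul_one, inv_one, one_mul, mul_one] at hm
    have hpair : ∀ k, dcomm (x, y) (a, a) k = (dcomm x a k, dcomm y a k) := by
      intro k
      induction k with
      | zero => rfl
      | succ k ih => simp only [dcomm, ih]; ext <;> simp
    rw [hpair] at hm
    obtain ⟨-, h3⟩ := mem_pairW.1 hm
    rw [QuotientGroup.mk'_apply, QuotientGroup.mk'_apply, QuotientGroup.eq,
      show pairLevel n (p + 1) = 0 by unfold pairLevel; split_ifs <;> omega,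
      Subgroup.upperCentralSeries_zero, mem_bot, inv_mul_eq_one] at h3
    have hy1 : dcomm y a (p - 1) = 1 := by
      rw [show p - 1 = p - 2 + 1 by omega, dcomm,
        show (dcomm y a (p - 2))⁻¹ * (y * dcomm y a (p - 2) * y⁻¹) = ⁅(dcomm y a (p - 2))⁻¹, y⁆ by
          rw [commutatorElement_def]; group]
      have h4 := h.dcomm_top_mem (by omega) y a (p - 2) (by omega)
      rw [show n - 1 - (p - 2) = 2 by omega] at h4
      have h5 := mem_layerCentralizer.1 hy _ (inv_mem h4)
      rwa [Nat.sub_self, Subgroup.upperCentralSeries_zero, mem_bot] at h5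
    have hne := h.dcomm_top_not_mem hn ha ha' hxall (p - 1) (by omega) (by omega)
    rw [show n - 2 - (p - 1) = 0 by omega, Subgroup.upperCentralSeries_zero, mem_bot] at hne
    exact hne (by simpa [hy1] using h3)

end MaxClass

end CfsgLib.PMaxClass
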