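import Cfsg.Agent.PMaxClass.NoExponent

/-!
# The index of the subgroup of `p`-th powers in subgroups of a group of maximal class
-/

set_option autoImplicit false
set_option linter.style.haveILetI false

namespace CfsgLib.PMaxClass

open Subgroup
open MaxClass (layerCentralizer mem_layerCentralizer)
open scoped commutatorElement

variable {G : Type*} [Group G] {p n : ℕ}

/-- The subgroup generated by the `p`-th powers of a subgroup. -/
def powSub (p : ℕ) (H : Subgroup G) : Subgroup G :=
  Subgroup.closure {y : G | ∃ h ∈ H, y = h ^ p}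

theorem powSub_le (p : ℕ) (H : Subgroup G) : powSub p H ≤ H := by
  refine (Subgroup.closure_le _).2 ?_
  rintro _ ⟨x, hx, rfl⟩
  exact pow_mem hx p

theorem pow_mem_powSub {p : ℕ} {H : Subgroup G} {x : G} (hx : x ∈ H) : x ^ p ∈ powSub p H :=
  Subgroup.subset_closure ⟨x, hx, rfl⟩

namespace MaxClass

theorem exists_exact (h : MaxClass G p n) {y : G} {m hi : ℕ} (hy : y ∈ Subgroup.upperCentralSeries G hi)
    (hym : y ∉ Subgroup.upperCentralSeries G m) :
    ∃ l, m < l ∧ l ≤ hi ∧ y ∈ Subgroup.upperCentralSeries G l ∧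
      y ∉ Subgroup.upperCentralSeries G (l - 1) := by
  classical
  have hex : ∃ l, y ∈ Subgroup.upperCentralSeries G l := ⟨hi, hy⟩
  have h0 : m < Nat.find hex := by
    by_contra hle
    exact hym (Subgroup.upperCentralSeries_mono G (not_lt.1 hle) (Nat.find_spec hex))
  exact ⟨Nat.find hex, h0, Nat.find_min' hex hy, Nat.find_spec hex,
    Nat.find_min hex (by omega)⟩

/-- Some element of the first two-step centraliser has its `p`-th power above level `n - p - 1`. -/
theorem exists_top_power (h : MaxClass G p n) (hnp : p + 2 ≤ n) :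
    ∃ g ∈ layerCentralizer G (n - 2), g ∉ Subgroup.upperCentralSeries G (n - 2) ∧
      g ^ p ∉ Subgroup.upperCentralSeries G (n - p - 1) := by
  have := h.finite
  have := Fact.mk h.prime
  have hp2 := h.prime.two_le
  obtain ⟨z, hz⟩ := (h.quotient (i := n - p - 1) (by omega)).exists_pow_ne_one (by omega)
  obtain ⟨g, rfl⟩ := QuotientGroup.mk'_surjective _ z
  rw [← map_pow, Ne, QuotientGroup.mk'_apply, QuotientGroup.eq_one_iff] at hz
  refine ⟨g, ?_, fun hg => hz (Subgroup.upperCentralSeries_mono G (by omega)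
    (h.pow_mem_level (k := n - 2) (by omega) hg)), hz⟩
  have hflat : Flat G n (n - p - 2) := by
    rcases h.prime.eq_two_or_odd' with hp | hodd
    · intro j hj hjn
      rw [show j = n - 2 by omega]
    · obtain ⟨m, hm⟩ := hodd
      have hq := ((blackburn _ _ (h.quotient (i := n - p - 2) (by omega)) (by omega)).2
        ⟨m + 1, by omega⟩)
      simpa using h.flat_of_quotient hq
  by_contra hg
  refine hz (h.pow_mem_of_avoid (by omega) (by omega) fun j hj hjn => ?_)
  rw [h.layer_eq_of_le (by omega) (by omega) hjn (hflat j (by omega) hjn)]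
  exact hg

/-- The level drops by exactly `p - 1` on some element of each level. -/
theorem exists_power_witness (h : MaxClass G p n) (hnp : p + 2 ≤ n) :
    ∀ j, p ≤ j → j + 2 ≤ n → ∃ c ∈ Subgroup.upperCentralSeries G j,
      c ∉ Subgroup.upperCentralSeries G (j - 1) ∧ c ^ p ∉ Subgroup.upperCentralSeries G (j - p) := by
  have := h.finite
  have := Fact.mk h.prime
  have hp2 := h.prime.two_le
  have hn : 4 ≤ n := by omega
  -- the inductive step, from an element `c` with a deep enough first commutator
  have step : ∀ j, p ≤ j → j + 2 ≤ n → ∀ c d : G, ∀ l, 2 ≤ l → j - p ≤ l - 2 → l + 2 ≤ n →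
      c ^ p ∈ Subgroup.upperCentralSeries G l → c ^ p ∉ Subgroup.upperCentralSeries G (l - 1) →
      ∀ x, x ∉ layerCentralizer G l → d = ⁅x, c⁆ → d ∈ Subgroup.upperCentralSeries G j →
      ⁅d⁻¹, c⁆ ∈ Subgroup.upperCentralSeries G (j - 2) →
      d ^ p ∉ Subgroup.upperCentralSeries G (j - p) := by
    intro j hpj hjn c d l hl hlj hln hc hc' x hx hd hdj hfirst hbad
    have hk : ∀ k, 1 ≤ k → dcomm c d k ∈ Subgroup.upperCentralSeries G (j - k - 1) := by
      intro k hk
      induction k with
      | zero => omega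
      | succ k ih =>
        rw [dcomm, show (dcomm c d k)⁻¹ * (c * dcomm c d k * c⁻¹) = ⁅(dcomm c d k)⁻¹, c⁆ by
          rw [commutatorElement_def]; group]
        rcases Nat.eq_zero_or_pos k with rfl | hk0
        · rw [show j - (0 + 1) - 1 = j - 2 by omega]; exact hfirst
        · rw [show j - (k + 1) - 1 = j - k - 1 - 1 by omega]
          exact commutator_mem_of_upper (inv_mem (ih hk0)) c
    have h1 := h.mul_pow_mod hjn (a := d) (x := c) hdj
      (Subgroup.upperCentralSeries_mono G (by omega) (hk (p - 1) (by omega)))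
    rw [show d * c = x * c * x⁻¹ by rw [hd, commutatorElement_def]; group, conj_pow,
      QuotientGroup.mk_mul _ (d ^ p), (QuotientGroup.eq_one_iff _).2 hbad, one_mul,
      QuotientGroup.eq] at h1
    refine hx (h.mem_layerCentralizer_of_exact (by omega) hln hc hc' ?_)
    refine Subgroup.upperCentralSeries_mono G hlj ?_
    have h2 := inv_mem h1
    rw [show ⁅c ^ p, x⁆ = c ^ p * ((x * c ^ p * x⁻¹)⁻¹ * c ^ p)⁻¹⁻¹ * (c ^ p)⁻¹ by
      rw [commutatorElement_def]; group]
    refine (inferInstance : (Subgroup.upperCentralSeries G (j - p)).Normal).conj_mem _ ?_ _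
    exact inv_mem h2
  suffices ∀ e j, j + e = n - 2 → p ≤ j → ∃ c ∈ Subgroup.upperCentralSeries G j,
      c ∉ Subgroup.upperCentralSeries G (j - 1) ∧ c ^ p ∉ Subgroup.upperCentralSeries G (j - p) from
    fun j hpj hjn => this (n - 2 - j) j (by omega) hpj
  intro e
  induction e with
  | zero =>
    intro j hj hpj
    obtain rfl : j = n - 2 := by omega
    obtain ⟨g, hg, hg', hgp⟩ := h.exists_top_power hnp
    obtain ⟨l, hl1, hl2, hl3, hl4⟩ := h.exists_exact (h.pow_mem_top_term (by omega) g) hgp
    obtain ⟨x, hx, hxl⟩ := exists_not_mem_two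
      (h.layerCentralizer_ne_top (j := n - 2) (by omega) (by omega))
      (h.layerCentralizer_ne_top (j := l) (by omega) (by omega))
    refine ⟨⁅x, g⁆, h.commutator_mem_upper (by omega) x g, fun hh => ?_,
      step (n - 2) hpj (by omega) g _ l (by omega) (by omega) (by omega) hl3 hl4 x hxl rfl
        (h.commutator_mem_upper (by omega) x g) ?_⟩
    · refine h.commutator_not_mem_pred hn hg hg' hx ?_
      rw [← commutatorElement_inv]
      exact inv_mem hh
    · exact mem_layerCentralizer.1 hg _ (inv_mem (h.commutator_mem_upper (by omega) x g))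
  | succ e ih =>
    intro j hj hpj
    obtain ⟨c, hc, hc', hcp⟩ := ih (j + 1) (by omega) (by omega)
    obtain ⟨l, hl1, hl2, hl3, hl4⟩ :=
      h.exists_exact (h.pow_mem_level (k := j + 1) (by omega) hc) hcp
    obtain ⟨x, hx, hxl⟩ := exists_not_mem_two
      (h.layerCentralizer_ne_top (j := j + 1) (by omega) (by omega))
      (h.layerCentralizer_ne_top (j := l) (by omega) (by omega))
    have hmem : ⁅x, c⁆ ∈ Subgroup.upperCentralSeries G j := by
      rw [← commutatorElement_inv]
      exact inv_mem (by simpa using commutator_mem_of_upper hc x)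
    refine ⟨⁅x, c⁆, hmem, fun hh => ?_,
      step j hpj (by omega) c _ l (by omega) (by omega) (by omega) hl3 hl4 x hxl rfl hmem ?_⟩
    · refine hx (h.mem_layerCentralizer_of_exact (a := c) (by omega) (by omega) hc hc' ?_)
      rw [show j + 1 - 2 = j - 1 by omega, ← commutatorElement_inv]
      exact inv_mem hh
    · exact Subgroup.upperCentralSeries_mono G (by omega)
        (h.commutator_upper_upper (h.upper_top (by omega)) (i := j) (j := j + 1) (by omega)
          (commutator_mem_commutator (inv_mem hmem) hc))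

/-- The level drops by exactly `p - 1`. -/
theorem pow_not_mem_level (h : MaxClass G p n) (hnp : p + 2 ≤ n) {j : ℕ} (hpj : p ≤ j)
    (hjn : j + 2 ≤ n) {a : G} (ha : a ∈ Subgroup.upperCentralSeries G j)
    (ha' : a ∉ Subgroup.upperCentralSeries G (j - 1)) :
    a ^ p ∉ Subgroup.upperCentralSeries G (j - p) := by
  have := h.finite
  have := Fact.mk h.prime
  have hp2 := h.prime.two_le
  intro hbad
  obtain ⟨c, hc, -, hcp⟩ := h.exists_power_witness hnp j hpj hjn
  have hgen : Subgroup.upperCentralSeries G (j - 1) ⊔ zpowers a = Subgroup.upperCentralSeries G j := by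
    refine eq_of_le_of_card_ge (sup_le (Subgroup.upperCentralSeries_mono G (by omega))
      (zpowers_le.2 ha)) ?_
    have h1 := card_mul_le_of_lt h.isPGroup (lt_of_le_of_ne le_sup_left
      fun (e : Subgroup.upperCentralSeries G (j - 1) = _) =>
        ha' (e.symm ▸ mem_sup_right (mem_zpowers a) : a ∈ Subgroup.upperCentralSeries G (j - 1)))
    rw [h.card_upper (by omega)] at h1
    rw [h.card_upper (by omega)]
    calc p ^ j = p ^ (j - 1) * p := by rw [← pow_succ, Nat.sub_add_cancel (by omega)]
      _ ≤ _ := h1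
  rw [← hgen, mem_sup_of_normal_left] at hc
  obtain ⟨w, hw, z, hz, rfl⟩ := hc
  obtain ⟨k, rfl⟩ := mem_zpowers_iff.1 hz
  have h1 := h.mul_pow_mod hjn (a := w) (x := a ^ k)
    (Subgroup.upperCentralSeries_mono G (by omega) hw)
    (Subgroup.upperCentralSeries_mono G (by omega) (MaxClass.dcomm_mem hw (p - 1)))
  refine hcp ?_
  rw [← QuotientGroup.eq_one_iff, h1, QuotientGroup.mk_mul, ← zpow_natCast (a ^ k), ← zpow_mul,
    mul_comm k, zpow_mul, zpow_natCast, QuotientGroup.mk_zpow, (QuotientGroup.eq_one_iff _).2 hbad,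
    one_zpow, mul_one, QuotientGroup.eq_one_iff]
  exact Subgroup.upperCentralSeries_mono G (by omega) (h.pow_mem_level (k := j - 1) (by omega) hw)

theorem levels_powSub (h : MaxClass G p n) (H : Subgroup G) :
    ((levels n H).filter (p ≤ ·)).image (· + 1 - p) ⊆ levels n (powSub p H) := by
  intro i hi
  obtain ⟨j, hj, rfl⟩ := Finset.mem_image.1 hi
  obtain ⟨hj, hpj⟩ := Finset.mem_filter.1 hj
  obtain ⟨⟨hj1, hjn⟩, a, haH, ha, ha'⟩ := mem_levels.1 hj
  have := h.prime.two_le
  refine mem_levels.2 ⟨⟨by omega, by omega⟩, _, pow_mem_powSub haH, h.pow_mem_level hjn ha, ?_⟩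
  rw [show j + 1 - p - 1 = j - p by omega]
  exact h.pow_not_mem_level (by omega) hpj hjn ha ha'

theorem card_high_le (h : MaxClass G p n) (hn : 2 ≤ n) (H : Subgroup G) :
    p ^ ((levels n H).filter (p ≤ ·)).card ≤ Nat.card (powSub p H) := by
  refine le_trans (le_of_eq ?_) (h.pow_card_le hn (h.levels_powSub H))
  rw [Finset.card_image_of_injOn]
  intro a ha b hb hab
  have h1 := (Finset.mem_filter.1 ha).2
  have h2 := (Finset.mem_filter.1 hb).2
  simp only at hab
  omega

theorem card_le_powSub (h : MaxClass G p n) (hn : 3 ≤ n) (H : Subgroup G) :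
    Nat.card H ≤ Nat.card (powSub p H) * p ^ p := by
  have := h.finite
  have := Fact.mk h.prime
  have hp2 := h.prime.two_le
  set L := levels n H with hL
  by_cases hH : H = ⊤
  · subst hH
    rw [card_top, h.card_eq]
    rcases le_or_gt n p with hnp | hnp
    · exact (Nat.pow_le_pow_right h.prime.pos hnp).trans (Nat.le_mul_of_pos_left _ Nat.card_pos)
    suffices p ^ (n - p) ≤ Nat.card (powSub p (⊤ : Subgroup G)) by
      calc p ^ n = p ^ (n - p) * p ^ p := by rw [← pow_add, Nat.sub_add_cancel hnp.le]
        _ ≤ _ := Nat.mul_le_mul_right _ this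
    rcases eq_or_lt_of_le (Nat.succ_le_of_lt hnp) with hnp' | hnp'
    · obtain ⟨g, hg⟩ := h.exists_pow_ne_one hnp'.symm
      have hne : (⊥ : Subgroup G) < powSub p ⊤ := bot_lt_iff_ne_bot.2 fun e =>
        hg (by rw [← mem_bot, ← e]; exact pow_mem_powSub (mem_top g))
      have h1 := card_mul_le_of_lt h.isPGroup hne
      rw [show n - p = 1 by omega, pow_one]
      simpa using h1
    obtain ⟨g, -, -, hg⟩ := h.exists_top_power hnp'
    obtain ⟨l, hl1, hl2, hl3, hl4⟩ := h.exists_exact (h.pow_mem_top_term (by omega) g) hg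
    have hsub : insert l (Finset.Icc 1 (n - 1 - p)) ⊆ levels n (powSub p (⊤ : Subgroup G)) := by
      intro i hi
      rcases Finset.mem_insert.1 hi with rfl | hi
      · exact mem_levels.2 ⟨⟨by omega, by omega⟩, _, pow_mem_powSub (mem_top g), hl3, hl4⟩
      · rw [Finset.mem_Icc] at hi
        obtain ⟨a, ha, ha', hap⟩ := h.exists_power_witness hnp' (i + p - 1) (by omega) (by omega)
        refine mem_levels.2 ⟨⟨hi.1, by omega⟩, _, pow_mem_powSub (mem_top a), ?_, ?_⟩
        · have := h.pow_mem_level (k := i + p - 1) (by omega) ha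
          rwa [show i + p - 1 + 1 - p = i by omega] at this
        · rwa [show i - 1 = i + p - 1 - p by omega]
    refine le_trans (le_of_eq ?_) (h.pow_card_le (by omega) hsub)
    rw [Finset.card_insert_of_notMem (by rw [Finset.mem_Icc]; omega), Nat.card_Icc]
    congr 1
    omega
  · have hlow : (L.filter fun j => ¬ p ≤ j).card ≤ p - 1 := by
      refine (Finset.card_le_card (t := Finset.Icc 1 (p - 1)) fun j hj => ?_).trans (by simp)
      obtain ⟨hj, hjp⟩ := Finset.mem_filter.1 hj
      have := (mem_levels.1 hj).1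
      rw [Finset.mem_Icc]
      omega
    have hsum := Finset.card_filter_add_card_filter_not (s := L) (p ≤ ·)
    rw [h.card_le_relIndex (by omega) H, ← hL, ← hsum, pow_add, mul_assoc]
    refine Nat.mul_le_mul (h.card_high_le (by omega) H) ?_
    calc p ^ (L.filter fun j => ¬ p ≤ j).card * (Subgroup.upperCentralSeries G (n - 2)).relIndex H
        ≤ p ^ (p - 1) * p := Nat.mul_le_mul (Nat.pow_le_pow_right h.prime.pos hlow)
          (h.relIndex_le_of_ne_top hn hH)
      _ = p ^ p := by rw [← pow_succ, Nat.sub_add_cancel (by omega)]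

theorem relIndex_powSub_le (h : MaxClass G p n) (hn : 3 ≤ n) (H : Subgroup G) :
    (powSub p H).relIndex H ≤ p ^ p := by
  have := h.finite
  have h1 : Nat.card (powSub p H) * (powSub p H).relIndex H = Nat.card H := by
    rw [← relIndex_bot_left, relIndex_mul_relIndex _ _ _ bot_le (powSub_le p H), relIndex_bot_left]
  exact Nat.le_of_mul_le_mul_left (h1.trans_le (h.card_le_powSub hn H)) Nat.card_pos

end MaxClass

end CfsgLib.PMaxClass
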