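import Cfsg.Agent.PMaxClass.Uniform
import Cfsg.Agent.Solvable.Frattini

/-!
# Generating numbers of subgroups of groups of maximal class

* `levels`: the levels of the upper series met by a subgroup of `U_(n-2)`; they count its order.
* `exists_generators`: generators from a lower bound for the Frattini subgroup.
* `MaxClass.exists_generators_le_prime`: with a pearl element, every subgroup has `p` generators.
-/

set_option autoImplicit false
set_option linter.style.haveILetI false

namespace CfsgLib.PMaxClass

open Subgroup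
open scoped commutatorElement

variable {G : Type*} [Group G] {p n : ℕ}

/-- The levels met by `K`. -/
noncomputable def levels (n : ℕ) (K : Subgroup G) : Finset ℕ := by
  classical exact (Finset.Icc 1 (n - 2)).filter fun j =>
    ∃ a ∈ K, a ∈ Subgroup.upperCentralSeries G j ∧ a ∉ Subgroup.upperCentralSeries G (j - 1)

theorem mem_levels {K : Subgroup G} {j : ℕ} : j ∈ levels n K ↔ (1 ≤ j ∧ j + 2 ≤ n) ∧
    ∃ a ∈ K, a ∈ Subgroup.upperCentralSeries G j ∧ a ∉ Subgroup.upperCentralSeries G (j - 1) := by
  simp only [levels, Finset.mem_filter, Finset.mem_Icc]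
  exact and_congr_left' (by omega)

theorem levels_mono {K L : Subgroup G} (h : K ≤ L) : levels n K ⊆ levels n L := fun j hj => by
  obtain ⟨hj', a, ha, h1⟩ := mem_levels.1 hj
  exact mem_levels.2 ⟨hj', a, h ha, h1⟩

namespace MaxClass

theorem card_inf_upper (h : MaxClass G p n) (K : Subgroup G) :
    ∀ m, m + 2 ≤ n → Nat.card ↥(K ⊓ Subgroup.upperCentralSeries G m) =
      p ^ ((levels n K).filter (· ≤ m)).card := by
  have := h.finite
  have := Fact.mk h.prime
  intro m
  induction m with
  | zero =>
    intro _
    have : (levels n K).filter (· ≤ 0) = ∅ := Finset.filter_eq_empty_iff.2 fun j hj => by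
      have := (mem_levels.1 hj).1.1
      omega
    rw [this, Finset.card_empty, pow_zero, Subgroup.upperCentralSeries_zero, inf_bot_eq, card_bot]
  | succ m ih =>
    intro hm
    have hmn : m + 2 ≤ n := by omega
    by_cases hlev : m + 1 ∈ levels n K
    · obtain ⟨-, a, haK, ha, ha'⟩ := mem_levels.1 hlev
      rw [Nat.add_sub_cancel] at ha'
      have hlt : K ⊓ Subgroup.upperCentralSeries G m < K ⊓ Subgroup.upperCentralSeries G (m + 1) :=
        lt_of_le_of_ne (inf_le_inf_left _ (Subgroup.upperCentralSeries_mono G (by omega)))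
          fun e => ha' ((e.symm ▸ (⟨haK, ha⟩ : a ∈ K ⊓ Subgroup.upperCentralSeries G (m + 1)) :
            a ∈ K ⊓ Subgroup.upperCentralSeries G m).2)
      have h1 := card_mul_le_of_lt h.isPGroup hlt
      have hmul : Nat.card ↥(K ⊓ Subgroup.upperCentralSeries G m) *
          (K ⊓ Subgroup.upperCentralSeries G m).relIndex (K ⊓ Subgroup.upperCentralSeries G (m + 1)) =
          Nat.card ↥(K ⊓ Subgroup.upperCentralSeries G (m + 1)) := by
        rw [← relIndex_bot_left, relIndex_mul_relIndex _ _ _ bot_le hlt.le, relIndex_bot_left]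
      have hle : (K ⊓ Subgroup.upperCentralSeries G m).relIndex
          (K ⊓ Subgroup.upperCentralSeries G (m + 1)) ≤ p := by
        have h2 : (K ⊓ Subgroup.upperCentralSeries G m).relIndex
            (K ⊓ Subgroup.upperCentralSeries G (m + 1)) =
            (Subgroup.upperCentralSeries G m).relIndex (K ⊓ Subgroup.upperCentralSeries G (m + 1)) := by
          rw [← inf_relIndex_right, ← inf_relIndex_right (Subgroup.upperCentralSeries G m)]
          congr 1
          ext y
          simp only [mem_inf]
          tauto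
        rw [h2]
        refine (relIndex_le_of_le_right inf_le_right ?_).trans (le_of_eq ?_)
        · exact FiniteIndex.index_ne_zero
        · have h3 : Nat.card (Subgroup.upperCentralSeries G m) *
              (Subgroup.upperCentralSeries G m).relIndex (Subgroup.upperCentralSeries G (m + 1)) =
              Nat.card (Subgroup.upperCentralSeries G (m + 1)) := by
            rw [← relIndex_bot_left, relIndex_mul_relIndex _ _ _ bot_le
              (Subgroup.upperCentralSeries_mono G (by omega)), relIndex_bot_left]
          rw [h.card_upper (by omega), h.card_upper (by omega), pow_succ] at h3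
          exact Nat.eq_of_mul_eq_mul_left (pow_pos h.prime.pos m) h3
      have heq : Nat.card ↥(K ⊓ Subgroup.upperCentralSeries G (m + 1)) =
          Nat.card ↥(K ⊓ Subgroup.upperCentralSeries G m) * p :=
        le_antisymm (hmul ▸ Nat.mul_le_mul_left _ hle) h1
      have hins : (levels n K).filter (· ≤ m + 1) =
          insert (m + 1) ((levels n K).filter (· ≤ m)) := by
        ext j
        simp only [Finset.mem_filter, Finset.mem_insert]
        constructor
        · rintro ⟨hj, hjm⟩
          rcases Nat.lt_or_ge m j with hlt' | hge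
          · left; omega
          · exact Or.inr ⟨hj, hge⟩
        · rintro (rfl | ⟨hj, hjm⟩)
          · exact ⟨hlev, le_rfl⟩
          · exact ⟨hj, by omega⟩
      rw [heq, ih hmn, hins, Finset.card_insert_of_notMem (by simp), pow_succ]
    · have heq : K ⊓ Subgroup.upperCentralSeries G (m + 1) = K ⊓ Subgroup.upperCentralSeries G m :=
        le_antisymm (fun a ha => ⟨ha.1, by
          by_contra ha'
          exact hlev (mem_levels.2 ⟨⟨by omega, hm⟩, a, ha.1, ha.2, by simpa using ha'⟩)⟩)
          (inf_le_inf_left _ (Subgroup.upperCentralSeries_mono G (by omega)))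
      have hins : (levels n K).filter (· ≤ m + 1) = (levels n K).filter (· ≤ m) :=
        Finset.filter_congr fun j hj => ⟨fun hjm => by
          rcases hjm.eq_or_lt with rfl | hlt'
          · exact absurd hj hlev
          · omega, fun hjm => by omega⟩
      rw [heq, ih hmn, hins]

theorem card_inf_top_level (h : MaxClass G p n) (hn : 2 ≤ n) (K : Subgroup G) :
    Nat.card ↥(K ⊓ Subgroup.upperCentralSeries G (n - 2)) = p ^ (levels n K).card := by
  rw [h.card_inf_upper K (n - 2) (by omega)]
  congr 1
  rw [Finset.filter_true_of_mem fun j hj => ?_]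
  have := (mem_levels.1 hj).1
  omega

theorem pow_card_le (h : MaxClass G p n) (hn : 2 ≤ n) {K : Subgroup G} {s : Finset ℕ}
    (hs : s ⊆ levels n K) : p ^ s.card ≤ Nat.card K := by
  have := h.finite
  exact (Nat.pow_le_pow_right h.prime.pos (Finset.card_le_card hs)).trans
    ((h.card_inf_top_level hn K).symm.trans_le (card_le_of_le inf_le_left))

end MaxClass

/-- Generators from a bound on the Frattini index. -/
theorem exists_generators [Fact p.Prime] {H : Subgroup G} [Finite H] (hH : IsPGroup p H) (r : ℕ)
    (hr : Nat.card H ≤ Nat.card ((frattini H).map H.subtype) * p ^ r) :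
    ∃ T : Finset G, T.card ≤ r ∧ Subgroup.closure (T : Set G) = H := by
  classical
  have hp : p.Prime := Fact.out
  obtain ⟨k, hk⟩ := hH.index (frattini H)
  have : Fintype H := Fintype.ofFinite H
  obtain ⟨T, -, hTc, hT⟩ := (CfsgLib.Solvable.burnside_basis hH k hk).1 Finset.univ (by simp)
  refine ⟨T.image H.subtype, Finset.card_image_le.trans ?_, ?_⟩
  · rw [hTc]
    have h4 : Nat.card (frattini H) * p ^ k ≤ Nat.card (frattini H) * p ^ r := by
      rw [← hk, card_mul_index]
      rwa [card_map_of_injective H.subtype_injective] at hr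
    exact (Nat.pow_le_pow_iff_right hp.one_lt).1 (Nat.le_of_mul_le_mul_left h4 Nat.card_pos)
  · rw [Finset.coe_image, ← MonoidHom.map_closure, hT, ← MonoidHom.range_eq_map, range_subtype]

theorem pow_mem_map_frattini [Fact p.Prime] {H : Subgroup G} [Finite H] (hH : IsPGroup p H) {a : G}
    (ha : a ∈ H) : a ^ p ∈ (frattini H).map H.subtype :=
  ⟨⟨a, ha⟩ ^ p, CfsgLib.Solvable.pow_mem_frattini hH _, rfl⟩

theorem commutator_mem_map_frattini [Fact p.Prime] {H : Subgroup G} [Finite H] (hH : IsPGroup p H)
    {a b : G} (ha : a ∈ H) (hb : b ∈ H) : ⁅a, b⁆ ∈ (frattini H).map H.subtype :=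
  ⟨⁅(⟨a, ha⟩ : H), ⟨b, hb⟩⁆, CfsgLib.Solvable.commutator_le_frattini hH
    (by rw [commutator_def]; exact commutator_mem_commutator (mem_top _) (mem_top _)),
    map_commutatorElement H.subtype _ _⟩

namespace MaxClass

/-- `U_(n-2)` is the derived group. -/
theorem upper_eq_commutator (h : MaxClass G p n) (hn : 3 ≤ n) :
    Subgroup.upperCentralSeries G (n - 2) = ⁅(⊤ : Subgroup G), ⊤⁆ := by
  have h1 := h.lower_eq_upper (h.upper_top (by omega)) (i := n - 2) (by omega)
  rw [show n - 1 - (n - 2) = 0 + 1 by omega, Subgroup.lowerCentralSeries_succ,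
    Subgroup.lowerCentralSeries_zero] at h1
  exact h1.symm

/-- A subgroup covering `G / U_(n-2)` is everything. -/
theorem eq_top_of_cover (h : MaxClass G p n) (hn : 3 ≤ n) {H : Subgroup G}
    (hH : p ^ 2 ≤ (Subgroup.upperCentralSeries G (n - 2)).relIndex H) : H = ⊤ := by
  have := h.finite
  have := Fact.mk h.prime
  refine CfsgLib.Solvable.eq_top_of_sup_frattini (top_le_iff.1 (le_trans ?_ (sup_le_sup_left
    (show Subgroup.upperCentralSeries G (n - 2) ≤ frattini G by
      rw [h.upper_eq_commutator hn, ← commutator_def]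
      exact CfsgLib.Solvable.commutator_le_frattini h.isPGroup) H)))
  rw [top_le_iff, ← index_eq_one]
  set U := Subgroup.upperCentralSeries G (n - 2) with hU
  have h1 := relIndex_mul_index (le_sup_right : U ≤ H ⊔ U)
  rw [relIndex_sup_right, h.index_upper (by omega)] at h1
  have h2 : U.relIndex H ≤ p ^ 2 :=
    Nat.le_of_dvd (pow_pos h.prime.pos 2) (Dvd.intro _ h1)
  rw [le_antisymm h2 hH] at h1
  exact (Nat.mul_eq_left (pow_ne_zero 2 h.prime.ne_zero)).1 h1

theorem card_le_relIndex (h : MaxClass G p n) (hn : 2 ≤ n) (H : Subgroup G) :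
    Nat.card H = p ^ (levels n H).card * (Subgroup.upperCentralSeries G (n - 2)).relIndex H := by
  rw [← h.card_inf_top_level hn H, ← inf_relIndex_right, inf_comm,
    ← relIndex_bot_left, ← relIndex_bot_left, relIndex_mul_relIndex _ _ _ bot_le inf_le_right]

theorem relIndex_le_of_ne_top (h : MaxClass G p n) (hn : 3 ≤ n) {H : Subgroup G} (hH : H ≠ ⊤) :
    (Subgroup.upperCentralSeries G (n - 2)).relIndex H ≤ p := by
  have := h.finite
  have hd : (Subgroup.upperCentralSeries G (n - 2)).relIndex H ∣ p ^ 2 := by
    rw [← h.index_upper (by omega)]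
    exact relIndex_dvd_index_of_normal _ _
  obtain ⟨i, hi, he⟩ := (Nat.dvd_prime_pow h.prime).1 hd
  rw [he]
  rcases Nat.lt_or_ge i 2 with hlt | hge
  · exact (Nat.pow_le_pow_right h.prime.pos (show i ≤ 1 by omega)).trans_eq (pow_one p)
  · exact absurd (h.eq_top_of_cover hn (by rw [he]; exact Nat.pow_le_pow_right h.prime.pos hge)) hH

/-- The whole group has two generators. -/
theorem exists_generators_top (h : MaxClass G p n) (hn : 2 ≤ n) {H : Subgroup G} (hH : H = ⊤) :
    ∃ T : Finset G, T.card ≤ 2 ∧ Subgroup.closure (T : Set G) = H := by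
  have := h.finite
  have := Fact.mk h.prime
  refine exists_generators (p := p) (h.isPGroup.to_subgroup H) 2 ?_
  have hG : Nat.card H = p ^ n := by rw [hH, card_top, h.card_eq]
  rcases Nat.lt_or_ge n 3 with h3 | h3
  · rw [hG]
    exact (Nat.pow_le_pow_right h.prime.pos (by omega : n ≤ 2)).trans
      (Nat.le_mul_of_pos_left _ Nat.card_pos)
  have hle : Subgroup.upperCentralSeries G (n - 2) ≤ (frattini H).map H.subtype := by
    rw [h.upper_eq_commutator h3, commutator_le]
    exact fun a _ b _ => commutator_mem_map_frattini (h.isPGroup.to_subgroup H)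
      (hH ▸ mem_top a) (hH ▸ mem_top b)
  rw [hG]
  calc p ^ n = Nat.card (Subgroup.upperCentralSeries G (n - 2)) * p ^ 2 := by
        rw [h.card_upper le_rfl, ← pow_add, Nat.sub_add_cancel hn]
    _ ≤ _ := Nat.mul_le_mul_right _ (card_le_of_le hle)

/-- The `p`-th powers give all but at most `p - 1` levels. -/
theorem card_levels_le (h : MaxClass G p n) {x : G} (hu : Uniform G n x)
    (hx : ∀ a ∈ Subgroup.upperCentralSeries G (n - 2), (a * x) ^ p = 1) (H : Subgroup G) :
    ((levels n H).filter (p ≤ ·)).image (· + 1 - p) ⊆ levels n ((frattini H).map H.subtype) := by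
  have := h.finite
  have := Fact.mk h.prime
  intro i hi
  obtain ⟨j, hj, rfl⟩ := Finset.mem_image.1 hi
  obtain ⟨hj, hpj⟩ := Finset.mem_filter.1 hj
  obtain ⟨⟨hj1, hjn⟩, a, haH, ha, ha'⟩ := mem_levels.1 hj
  obtain ⟨h1, h2⟩ := h.pow_level hu hx j hjn a ha
  have := h.prime.two_le
  refine mem_levels.2 ⟨⟨by omega, by omega⟩, _, pow_mem_map_frattini (h.isPGroup.to_subgroup H) haH,
    h1, ?_⟩
  rw [show j + 1 - p - 1 = j - p by omega]
  exact h2 hpj ha'

theorem exists_generators_le_prime (h : MaxClass G p n) (hn : 3 ≤ n) {x : G}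
    (hu : Uniform G n x)
    (hx : ∀ a ∈ Subgroup.upperCentralSeries G (n - 2), (a * x) ^ p = 1) (H : Subgroup G) :
    ∃ T : Finset G, T.card ≤ p ∧ Subgroup.closure (T : Set G) = H := by
  have := h.finite
  have := Fact.mk h.prime
  have hp2 := h.prime.two_le
  by_cases hH : H = ⊤
  · obtain ⟨T, hT, hc⟩ := h.exists_generators_top (by omega) hH
    exact ⟨T, hT.trans hp2, hc⟩
  refine exists_generators (h.isPGroup.to_subgroup H) p ?_
  set L := levels n H with hL
  have hlow : (L.filter fun j => ¬ p ≤ j).card ≤ p - 1 := by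
    refine (Finset.card_le_card (t := Finset.Icc 1 (p - 1)) fun j hj => ?_).trans (by simp)
    obtain ⟨hj, hjp⟩ := Finset.mem_filter.1 hj
    have := (mem_levels.1 hj).1
    rw [Finset.mem_Icc]
    omega
  have hhigh : p ^ (L.filter (p ≤ ·)).card ≤ Nat.card ((frattini H).map H.subtype) := by
    refine le_trans (le_of_eq ?_) (h.pow_card_le (by omega) (h.card_levels_le hu hx H))
    rw [Finset.card_image_of_injOn]
    intro a ha b hb hab
    have h1 := (Finset.mem_filter.1 ha).2
    have h2 := (Finset.mem_filter.1 hb).2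
    simp only at hab
    omega
  have hsum := Finset.card_filter_add_card_filter_not (s := L) (p ≤ ·)
  rw [h.card_le_relIndex (by omega) H, ← hL, ← hsum, pow_add, mul_assoc]
  refine Nat.mul_le_mul hhigh ?_
  calc p ^ (L.filter fun j => ¬ p ≤ j).card * (Subgroup.upperCentralSeries G (n - 2)).relIndex H
      ≤ p ^ (p - 1) * p := Nat.mul_le_mul (Nat.pow_le_pow_right h.prime.pos hlow)
        (h.relIndex_le_of_ne_top hn hH)
    _ = p ^ p := by rw [← pow_succ, Nat.sub_add_cancel (by omega)]

end MaxClass

end CfsgLib.PMaxClass
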