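import Cfsg.Agent.PMaxClass.Pearl
import Cfsg.Agent.Solvable.Nilpotent

/-!
# `3`-groups of maximal class

* `MaxClass.layer_top_le`: the two-step centraliser `Γ₁` centralises every layer, for `p = 3`.
* `MaxClass.exists_generators_two`: for `p = 3` and order at least `3 ^ 5` every subgroup has two
  generators.
* `MaxClass.wreath_or_two`: order `3 ^ 4`: two generators, or a Sylow `3`-subgroup of `Sym(9)`.
-/

set_option autoImplicit false
set_option linter.style.haveILetI false

namespace CfsgLib.PMaxClass

open Subgroup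
open scoped commutatorElement

variable {G : Type*} [Group G] {p n : ℕ}

namespace MaxClass

/-- `y` centralises the layer as soon as it centralises one element of exact level. -/
theorem mem_layerCentralizer_of_exact (h : MaxClass G p n) {j : ℕ} (hj : 1 ≤ j) (hjn : j + 2 ≤ n)
    {a y : G} (ha : a ∈ Subgroup.upperCentralSeries G j)
    (ha' : a ∉ Subgroup.upperCentralSeries G (j - 1))
    (hy : ⁅a, y⁆ ∈ Subgroup.upperCentralSeries G (j - 2)) : y ∈ layerCentralizer G j := by
  have := h.finite
  have := Fact.mk h.prime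
  set U := Subgroup.upperCentralSeries G with hU
  have hsup : U (j - 1) ⊔ zpowers a = U j := by
    refine eq_of_le_of_card_ge (sup_le (Subgroup.upperCentralSeries_mono G (by omega))
      (zpowers_le.2 ha)) ?_
    have h1 := card_mul_le_of_lt h.isPGroup (lt_of_le_of_ne le_sup_left
      fun (e : U (j - 1) = U (j - 1) ⊔ zpowers a) =>
        ha' (e.symm ▸ mem_sup_right (mem_zpowers a) : a ∈ U (j - 1)))
    rw [h.card_upper (by omega)] at h1
    rw [h.card_upper (by omega)]
    calc p ^ j = p ^ (j - 1) * p := by rw [← pow_succ, Nat.sub_add_cancel hj]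
      _ ≤ _ := h1
  refine mem_layerCentralizer.2 fun b hb => ?_
  let q := QuotientGroup.mk' (U (j - 2))
  have hle : U (j - 1) ⊔ zpowers a ≤ (centralizer ({q y} : Set _)).comap q := by
    refine sup_le (fun c hc => ?_) (zpowers_le.2 ?_)
    · rw [mem_comap, mem_centralizer_singleton_iff, ← commutatorElement_eq_one_iff_mul_comm,
        ← map_commutatorElement, QuotientGroup.mk'_apply, QuotientGroup.eq_one_iff]
      rcases Nat.eq_zero_or_pos (j - 1) with h0 | h0
      · rw [h0] at hc
        rw [hU, Subgroup.upperCentralSeries_zero, mem_bot] at hc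
        rw [hc, commutatorElement_one_left]
        exact one_mem _
      · rw [show j - 1 = j - 2 + 1 by omega] at hc
        exact Subgroup.mem_upperCentralSeries_succ_iff.1 hc y
    · rw [mem_comap, mem_centralizer_singleton_iff, ← commutatorElement_eq_one_iff_mul_comm,
        ← map_commutatorElement, QuotientGroup.mk'_apply, QuotientGroup.eq_one_iff]
      exact hy
  have := hle (hsup.ge hb)
  rwa [mem_comap, mem_centralizer_singleton_iff, ← commutatorElement_eq_one_iff_mul_comm,
    ← map_commutatorElement, QuotientGroup.mk'_apply, QuotientGroup.eq_one_iff] at this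

theorem index_layer_le (h : MaxClass G p n) {j : ℕ} (hj : 2 ≤ j) (hjn : j + 2 ≤ n) :
    (layerCentralizer G j).index ≤ p := by
  have := h.finite
  set U := Subgroup.upperCentralSeries G with hU
  obtain ⟨a, ha, ha'⟩ := SetLike.not_le_iff_exists.1 (h.upper_lt (show 1 ≤ j by omega) (by omega))
  let q := QuotientGroup.mk' (U (j - 2))
  set K := (centralizer ({q a} : Set _)).comap q with hK
  have hKL : K ≤ layerCentralizer G j := fun y hy =>
    h.mem_layerCentralizer_of_exact (by omega) hjn ha ha' (by
      rw [← hU, ← QuotientGroup.eq_one_iff, ← QuotientGroup.mk'_apply, map_commutatorElement,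
        commutatorElement_eq_one_iff_mul_comm]
      exact (mem_centralizer_singleton_iff.1 (mem_comap.1 hy)).symm)
  have hcomm : ∀ y, ⁅a, y⁆ ∈ U (j - 1) := fun y => Subgroup.mem_upperCentralSeries_succ_iff.1
    (show a ∈ U (j - 1 + 1) by rwa [show j - 1 + 1 = j by omega]) y
  have himg : Nat.card ((U (j - 1)).map q) ≤ p := by
    have hle : U (j - 2) ≤ U (j - 1) := Subgroup.upperCentralSeries_mono G (by omega)
    have h3 : Nat.card (U (j - 2)) * (U (j - 2)).relIndex (U (j - 1)) = Nat.card (U (j - 1)) := by
      rw [← relIndex_bot_left, relIndex_mul_relIndex _ _ _ bot_le hle, relIndex_bot_left]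
    have h1 : (U (j - 2)).relIndex (U (j - 1)) = p := by
      refine Nat.eq_of_mul_eq_mul_left (pow_pos h.prime.pos (j - 2)) ?_
      rw [h.card_upper (by omega), h.card_upper (by omega)] at h3
      rw [h3, ← pow_succ]
      congr 1
      omega
    have h4 : (q.comp (U (j - 1)).subtype).range = (U (j - 1)).map q := by
      rw [MonoidHom.range_comp, range_subtype]
    rw [← h4, ← index_ker, ← MonoidHom.comap_ker, QuotientGroup.ker_mk']
    exact le_of_eq h1
  refine (Nat.le_of_dvd (Nat.pos_of_ne_zero FiniteIndex.index_ne_zero) (index_dvd_of_le hKL)).trans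
    (le_trans ?_ himg)
  rw [index_eq_card]
  refine Nat.card_le_card_of_injective (Quotient.lift
    (fun y => (⟨q ⁅y, a⁆, mem_map_of_mem _ (by
      rw [← commutatorElement_inv]; exact inv_mem (hcomm y))⟩ : (U (j - 1)).map q)) ?_) ?_
  · intro b c hbc
    refine Subtype.ext ?_
    have h1 : Commute (q (b⁻¹ * c)) (q a) :=
      mem_centralizer_singleton_iff.1 (mem_comap.1 (QuotientGroup.leftRel_apply.1 hbc))
    show q ⁅b, a⁆ = q ⁅c, a⁆
    obtain ⟨k, rfl⟩ : ∃ k, c = b * k := ⟨b⁻¹ * c, by group⟩
    rw [inv_mul_cancel_left] at h1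
    simp only [commutatorElement_def, map_mul, map_inv, mul_inv_rev]
    generalize q b = B
    revert h1
    generalize q k = K'
    generalize q a = A'
    intro h1
    calc B * A' * B⁻¹ * A'⁻¹ = B * (A' * K') * K'⁻¹ * B⁻¹ * A'⁻¹ := by group
      _ = B * (K' * A') * K'⁻¹ * B⁻¹ * A'⁻¹ := by rw [h1.eq]
      _ = B * K' * A' * (K'⁻¹ * B⁻¹) * A'⁻¹ := by group
  · intro b c
    induction b using QuotientGroup.induction_on with
    | _ b =>
    induction c using QuotientGroup.induction_on with
    | _ c =>
    intro hbc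
    have h2 : q ⁅b, a⁆ = q ⁅c, a⁆ := congrArg Subtype.val hbc
    refine QuotientGroup.eq.2 (mem_comap.2 (mem_centralizer_singleton_iff.2 ?_))
    simp only [commutatorElement_def, map_mul, map_inv] at h2 ⊢
    rw [mul_left_inj] at h2
    revert h2
    generalize q b = B
    generalize q c = C'
    generalize q a = A'
    intro h2
    calc B⁻¹ * C' * A' = B⁻¹ * (C' * A' * C'⁻¹) * C' := by group
      _ = B⁻¹ * (B * A' * B⁻¹) * C' := by rw [h2]
      _ = A' * (B⁻¹ * C') := by group

theorem not_mem_layerCentralizer {x : G} (hu : Uniform G n x) {j : ℕ} (hj : 2 ≤ j)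
    (hjn : j + 2 ≤ n) (h : MaxClass G p n) : x ∉ layerCentralizer G j := by
  intro hx
  obtain ⟨a, ha, ha'⟩ := SetLike.not_le_iff_exists.1 (h.upper_lt (by omega) (by omega : j + 1 ≤ n))
  exact hu j hj hjn a ha ha' (mem_layerCentralizer.1 hx a ha)

/-- The first two-step centraliser centralises the next layer. -/
theorem layer_top_le_pred (h : MaxClass G p n) (hn : 5 ≤ n) {x y : G} (hu : Uniform G n x)
    (hy : y ∈ layerCentralizer G (n - 2)) : y ∈ layerCentralizer G (n - 3) := by
  have := h.finite
  have := Fact.mk h.prime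
  set U := Subgroup.upperCentralSeries G with hU
  have hc := h.upper_top (by omega)
  obtain ⟨u, hu1, hu2⟩ := SetLike.not_le_iff_exists.1
    (h.upper_lt (show 1 ≤ n - 2 by omega) (by omega : n - 2 + 1 ≤ n))
  have ha : ⁅u, x⁆ ∈ U (n - 3) := by
    have := Subgroup.mem_upperCentralSeries_succ_iff.1
      (show u ∈ U (n - 3 + 1) by rwa [show n - 3 + 1 = n - 2 by omega]) x
    exact this
  have ha' : ⁅u, x⁆ ∉ U (n - 3 - 1) := by
    rw [show n - 3 - 1 = n - 2 - 2 by omega]
    exact hu (n - 2) (by omega) (by omega) u hu1 hu2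
  refine h.mem_layerCentralizer_of_exact (by omega) (by omega) ha ha' ?_
  rw [show n - 3 - 2 = n - 5 by omega]
  let q := QuotientGroup.mk' (U (n - 5))
  have hq : ∀ {a b : G}, ⁅a, b⁆ ∈ U (n - 5) → Commute (q a) (q b) := fun {a b} hab => by
    rw [← commutatorElement_eq_one_iff_commute, ← map_commutatorElement, QuotientGroup.mk'_apply,
      QuotientGroup.eq_one_iff]
    exact hab
  set v := ⁅y, x⁆ with hv
  have hvU : v ∈ U (n - 2) := h.commutator_mem_upper (by omega) y x
  have huy : ⁅u, y⁆ ∈ U (n - 4) := by
    have := mem_layerCentralizer.1 hy u hu1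
    rwa [show n - 2 - 2 = n - 4 by omega] at this
  have hdeep : ∀ w ∈ U (n - 4), ∀ g : G, Commute (q g) (q w) := fun w hw g => by
    refine (hq ?_).symm
    rw [show n - 4 = n - 5 + 1 by omega] at hw
    exact Subgroup.mem_upperCentralSeries_succ_iff.1 hw g
  -- `u` commutes with `U (n - 2)` modulo `U (n - 5)`
  have huv : Commute (q u) (q v) := by
    have hsup : U (n - 3) ⊔ zpowers u = U (n - 2) := by
      refine eq_of_le_of_card_ge (sup_le (Subgroup.upperCentralSeries_mono G (by omega))
        (zpowers_le.2 hu1)) ?_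
      have h1 := card_mul_le_of_lt h.isPGroup (lt_of_le_of_ne le_sup_left
        fun (e : U (n - 3) = U (n - 3) ⊔ zpowers u) =>
          hu2 (show n - 3 = n - 2 - 1 by omega ▸ (e.symm ▸ mem_sup_right (mem_zpowers u) : u ∈ U (n - 3))))
      rw [h.card_upper (by omega)] at h1
      rw [h.card_upper (by omega)]
      calc p ^ (n - 2) = p ^ (n - 3) * p := by rw [← pow_succ]; congr 1; omega
        _ ≤ _ := h1
    have hle : U (n - 3) ⊔ zpowers u ≤ (centralizer ({q u} : Set _)).comap q := by
      refine sup_le (fun c hc' => ?_) (zpowers_le.2 ?_)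
      · rw [mem_comap, mem_centralizer_singleton_iff]
        refine (hq (Subgroup.upperCentralSeries_mono G ?_ (h.commutator_upper_upper hc (i := n - 3)
          (j := n - 2) (by omega) (commutator_mem_commutator hc' hu1)))).eq
        omega
      · rw [mem_comap, mem_centralizer_singleton_iff]
    have := hle (hsup.symm ▸ hvU)
    rw [mem_comap, mem_centralizer_singleton_iff] at this
    exact this.symm
  have hav : Commute (q ⁅u, x⁆) (q v) := hq (Subgroup.upperCentralSeries_mono G (by omega)
    (h.commutator_upper_upper hc (i := n - 3) (j := n - 2) (by omega)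
      (commutator_mem_commutator ha hvU)))
  -- conjugation by `y`
  have h1 : q y * q u * (q y)⁻¹ = q u * q (⁅u⁻¹, y⁆) := by
    rw [← map_inv, ← map_mul, ← map_mul, ← map_mul]
    congr 1
    rw [commutatorElement_def]; group
  have hw : ⁅u⁻¹, y⁆ ∈ U (n - 4) := by
    rw [show ⁅u⁻¹, y⁆ = u⁻¹ * ⁅u, y⁆⁻¹ * u by simp only [commutatorElement_def]; group]
    have := (inferInstance : (U (n - 4)).Normal).conj_mem _ (inv_mem huy) u⁻¹
    rwa [inv_inv] at this
  have h2 : q y * q x * (q y)⁻¹ = q v * q x := by
    rw [← map_inv, ← map_mul, ← map_mul, ← map_mul]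
    congr 1
    rw [hv, commutatorElement_def]; group
  rw [← QuotientGroup.eq_one_iff, ← QuotientGroup.mk'_apply, map_commutatorElement,
    commutatorElement_eq_one_iff_mul_comm]
  show q ⁅u, x⁆ * q y = q y * q ⁅u, x⁆
  have h3 : q y * q ⁅u, x⁆ * (q y)⁻¹ = q ⁅u, x⁆ := by
    have e1 : q y * q ⁅u, x⁆ * (q y)⁻¹ =
        ⁅q y * q u * (q y)⁻¹, q y * q x * (q y)⁻¹⁆ := by
      rw [map_commutatorElement]; simp only [commutatorElement_def]; group
    rw [e1, h1, h2]
    set a := q u with ha0
    set w := q ⁅u⁻¹, y⁆ with hw0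
    set b := q x
    set c := q v with hc0
    have hwc : ∀ g : G, Commute (q g) w := hdeep _ hw
    have e2 : ⁅a * w, c * b⁆ = ⁅a, c * b⁆ := by
      have hwb : Commute w (c * b) := by
        rw [hc0, ← map_mul]
        exact (hwc _).symm
      simp only [commutatorElement_def]
      calc a * w * (c * b) * (a * w)⁻¹ * (c * b)⁻¹ = a * (w * (c * b) * w⁻¹) * a⁻¹ * (c * b)⁻¹ := by group
        _ = a * (c * b) * a⁻¹ * (c * b)⁻¹ := by rw [hwb.eq, mul_inv_cancel_right]
    rw [e2]
    have e3 : ⁅a, c * b⁆ = c * ⁅a, b⁆ * c⁻¹ := by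
      simp only [commutatorElement_def]
      calc a * (c * b) * a⁻¹ * (c * b)⁻¹ = (a * c) * (b * a⁻¹ * b⁻¹) * c⁻¹ := by group
        _ = (c * a) * (b * a⁻¹ * b⁻¹) * c⁻¹ := by rw [huv.eq]
        _ = c * (a * b * a⁻¹ * b⁻¹) * c⁻¹ := by group
    rw [e3, ha0, ← map_commutatorElement, hav.symm.eq, mul_inv_cancel_right]
  rw [eq_comm]
  exact mul_inv_eq_iff_eq_mul.1 h3

section Three

variable (h : MaxClass G 3 n) {x : G} (hu : Uniform G n x)
  (hx : ∀ a ∈ Subgroup.upperCentralSeries G (n - 2), (a * x) ^ 3 = 1)

include h hu hx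

theorem layer_step_down {y : G} {j : ℕ} (hj : 4 ≤ j) (hjn : j + 2 ≤ n)
    (hy : y ∈ layerCentralizer G j) : y ∈ layerCentralizer G (j - 2) := by
  set U := Subgroup.upperCentralSeries G with hU
  obtain ⟨a, ha, ha'⟩ := SetLike.not_le_iff_exists.1 (h.upper_lt (by omega) (by omega : j + 1 ≤ n))
  obtain ⟨hb, hb'⟩ := h.pow_level hu hx j hjn a ha
  refine h.mem_layerCentralizer_of_exact (a := a ^ 3) (by omega) (by omega)
    (by rwa [show j - 2 = j + 1 - 3 by omega])
    (by rw [show j - 2 - 1 = j - 3 by omega]; exact hb' (by omega) ha') ?_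
  rw [show j - 2 - 2 = j - 4 by omega]
  have hay := mem_layerCentralizer.1 hy a⁻¹ (inv_mem ha)
  -- `y a y⁻¹ = a w`
  set w := ⁅a⁻¹, y⁆ with hw
  let q := QuotientGroup.mk' (U (j - 4))
  have hcomm : Commute (q a) (q w) := by
    rw [← commutatorElement_eq_one_iff_commute, ← map_commutatorElement, QuotientGroup.mk'_apply,
      QuotientGroup.eq_one_iff]
    exact Subgroup.upperCentralSeries_mono G (by omega)
      (h.commutator_upper_upper (h.upper_top (by omega)) (i := j) (j := j - 2) hjn
        (commutator_mem_commutator ha hay))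
  have hw3 : q (w ^ 3) = 1 := by
    rw [QuotientGroup.mk'_apply, QuotientGroup.eq_one_iff]
    have := (h.pow_level hu hx (j - 2) (by omega) w hay).1
    rwa [show j - 2 + 1 - 3 = j - 4 by omega] at this
  have hconj : q y * q (a ^ 3) * (q y)⁻¹ = q (a ^ 3) := by
    have e : y * a * y⁻¹ = a * w := by rw [hw, commutatorElement_def]; group
    have e2 : y * a ^ 3 * y⁻¹ = (a * w) ^ 3 := by rw [← e, conj_pow]
    rw [← map_inv, ← map_mul, ← map_mul, e2, map_pow, map_mul, hcomm.mul_pow, ← map_pow, ← map_pow,
      hw3, mul_one]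
  rw [← QuotientGroup.eq_one_iff, ← QuotientGroup.mk'_apply, map_commutatorElement,
    commutatorElement_eq_one_iff_mul_comm]
  exact (mul_inv_eq_iff_eq_mul.1 hconj).symm

theorem layer_top_le (hn : 5 ≤ n) {y : G} (hy : y ∈ layerCentralizer G (n - 2)) :
    ∀ j, 2 ≤ j → j + 2 ≤ n → y ∈ layerCentralizer G j := by
  suffices h' : ∀ k j, j + 2 + k = n → 2 ≤ j → y ∈ layerCentralizer G j from
    fun j hj hjn => h' (n - 2 - j) j (by omega) hj
  intro k
  induction k using Nat.strong_induction_on with
  | _ k ih =>
  intro j hk hj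
  match k with
  | 0 => rwa [show j = n - 2 by omega]
  | 1 => rw [show j = n - 3 by omega]; exact h.layer_top_le_pred hn hu hy
  | k + 2 =>
    have := h.layer_step_down hu hx (j := j + 2) (by omega) (by omega)
      (ih k (by omega) (j + 2) (by omega) (by omega))
    rwa [Nat.add_sub_cancel] at this

/-- Cubes outside `U_(n-2)` inside the first two-step centraliser. -/
theorem cube_level (hn : 5 ≤ n) {g : G} (hg : g ∈ layerCentralizer G (n - 2))
    (hg' : g ∉ Subgroup.upperCentralSeries G (n - 2)) :
    g ^ 3 ∈ Subgroup.upperCentralSeries G (n - 3) ∧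
      g ^ 3 ∉ Subgroup.upperCentralSeries G (n - 4) := by
  have := h.finite
  have := Fact.mk h.prime
  set U := Subgroup.upperCentralSeries G with hU
  set M := layerCentralizer G (n - 2) with hM
  have hc := h.upper_top (by omega)
  have hxM : x ∉ M := h.not_mem_layerCentralizer hu (by omega) (by omega)
  have hUM : U (n - 2) ≤ M := fun b hb => by
    refine mem_layerCentralizer.2 fun c hc' => ?_
    exact Subgroup.upperCentralSeries_mono G (by omega) (h.commutator_upper_upper hc
      (i := n - 2) (j := n - 2) (by omega) (commutator_mem_commutator hc' hb))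
  have hMN : M.Normal := ⟨fun b hb g => by
    refine mem_layerCentralizer.2 fun c hc' => ?_
    have := mem_layerCentralizer.1 hb _ ((inferInstance : (U (n - 2)).Normal).conj_mem c hc' g⁻¹)
    have h2 := (inferInstance : (U (n - 2 - 2)).Normal).conj_mem _ this g
    convert h2 using 1
    simp only [commutatorElement_def]
    group⟩
  -- `U (n - 2)` has index `3` in `M`
  have hMU : (U (n - 2)).relIndex M = 3 := by
    have h1 := relIndex_mul_index hUM
    rw [h.index_upper (by omega)] at h1
    obtain ⟨i, hi, he⟩ := (Nat.dvd_prime_pow h.prime).1 (Dvd.intro _ h1)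
    have hne0 : i ≠ 0 := by
      rintro rfl
      rw [pow_zero, relIndex_eq_one] at he
      exact hg' (he hg)
    have hne2 : i ≠ 2 := by
      rintro rfl
      have hMtop : M = ⊤ := by
        rw [he] at h1
        exact index_eq_one.1 ((Nat.mul_eq_left (by norm_num)).1 h1)
      exact hxM (hMtop ▸ mem_top x)
    rw [he, show i = 1 by omega, pow_one]
  have hgM : U (n - 2) ⊔ zpowers g = M := by
    refine eq_of_le_of_card_ge (sup_le hUM (zpowers_le.2 hg)) ?_
    have hlt : U (n - 2) < U (n - 2) ⊔ zpowers g :=
      lt_of_le_of_ne le_sup_left fun e => hg' (e ▸ mem_sup_right (mem_zpowers g))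
    have h1 := card_mul_le_of_lt h.isPGroup hlt
    have h2 : Nat.card M = Nat.card (U (n - 2)) * 3 := by
      rw [← hMU, ← relIndex_bot_left, ← relIndex_bot_left (U (n - 2)),
        relIndex_mul_relIndex _ _ _ bot_le hUM]
    omega
  have hMall : ∀ j, 2 ≤ j → j + 2 ≤ n → M ≤ layerCentralizer G j :=
    fun j hj hjn y hy => h.layer_top_le hu hx hn hy j hj hjn
  have hcommM : ∀ i, i + 2 ≤ n → ⁅M, U i⁆ ≤ U (i - 2) := by
    intro i hi
    rw [commutator_comm, commutator_le]
    intro b hb y hy
    rcases Nat.lt_or_ge i 2 with h2 | h2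
    · rw [show i - 2 = 0 by omega]
      rcases Nat.eq_zero_or_pos i with rfl | h1
      · rw [hU, Subgroup.upperCentralSeries_zero, mem_bot] at hb
        rw [hb, commutatorElement_one_left]; exact one_mem _
      · rw [show i = 0 + 1 by omega] at hb
        exact Subgroup.mem_upperCentralSeries_succ_iff.1 hb y
    · exact mem_layerCentralizer.1 (hMall i h2 hi hy) b hb
  have hMM : ⁅M, M⁆ ≤ U (n - 4) := by
    rw [commutator_le]
    intro b hb c hc'
    let q := QuotientGroup.mk' (U (n - 4))
    rw [← QuotientGroup.eq_one_iff, ← QuotientGroup.mk'_apply, map_commutatorElement,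
      commutatorElement_eq_one_iff_mul_comm]
    have key : ∀ d ∈ M, ∀ e ∈ U (n - 2), Commute (q d) (q e) := fun d hd e he => by
      rw [← commutatorElement_eq_one_iff_commute, ← map_commutatorElement, QuotientGroup.mk'_apply,
        QuotientGroup.eq_one_iff]
      have := hcommM (n - 2) (by omega) (commutator_mem_commutator hd he)
      rwa [show n - 2 - 2 = n - 4 by omega] at this
    have hgc : ∀ d ∈ M, Commute (q d) (q g) := by
      intro d hd
      have hle : U (n - 2) ⊔ zpowers g ≤ (centralizer ({q g} : Set _)).comap q := sup_le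
        (fun e he => mem_comap.2 (mem_centralizer_singleton_iff.2 (key g hg e he).symm.eq))
        (zpowers_le.2 (mem_comap.2 (mem_centralizer_singleton_iff.2 rfl)))
      exact mem_centralizer_singleton_iff.1 (mem_comap.1 (hle (hgM.symm ▸ hd)))
    have hle : U (n - 2) ⊔ zpowers g ≤ (centralizer ({q c} : Set _)).comap q := sup_le
      (fun e he => mem_comap.2 (mem_centralizer_singleton_iff.2 (key c hc' e he).symm.eq))
      (zpowers_le.2 (mem_comap.2 (mem_centralizer_singleton_iff.2 (hgc c hc').symm.eq)))
    exact mem_centralizer_singleton_iff.1 (mem_comap.1 (hle (hgM.symm ▸ hb)))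
  -- commutators with lower terms fall one step more
  have hMtop : ⁅M, (⊤ : Subgroup G)⁆ = U (n - 2) := by
    have := commutator_normal M (⊤ : Subgroup G)
    have hle : ⁅M, (⊤ : Subgroup G)⁆ ≤ U (n - 2) := commutator_le.2 fun b _ c _ =>
      h.commutator_mem_upper (by omega) b c
    obtain ⟨i, hi, hcard⟩ := (Nat.dvd_prime_pow h.prime).1
      ((h.card_upper (i := n - 2) le_rfl) ▸ card_dvd_of_le hle)
    have heq := h.normal_eq_upper hi hcard
    rcases hi.eq_or_lt with rfl | hlt
    · exact heq
    · refine absurd ?_ hg'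
      rw [show n - 2 = n - 3 + 1 by omega, Subgroup.mem_upperCentralSeries_succ_iff]
      intro c
      exact Subgroup.upperCentralSeries_mono G (by omega)
        (heq.le (commutator_mem_commutator hg (mem_top c)))
  have hlow : ∀ k i, i + 2 ≤ n →
      ⁅(⊤ : Subgroup G).lowerCentralSeries (k + 1), U i⁆ ≤ U (i - k - 3) := by
    intro k
    induction k with
    | zero =>
      intro i hi
      rw [Subgroup.lowerCentralSeries_succ, Subgroup.lowerCentralSeries_zero,
        ← h.upper_eq_commutator (by omega), ← hU, ← hMtop]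
      refine CfsgLib.LocalEven48.three_subgroups_le le_normalizer_of_normal le_normalizer_of_normal
        le_normalizer_of_normal
        ?_ ?_
      · refine (commutator_mono ?_ le_rfl).trans
          ((commutator_comm _ _).le.trans ((hcommM (i - 1) (by omega)).trans
            (Subgroup.upperCentralSeries_mono G (by omega))))
        rcases Nat.eq_zero_or_pos i with rfl | h0
        · rw [hU, Subgroup.upperCentralSeries_zero, commutator_bot_right]
        · rw [commutator_comm]
          have := commutator_upper_le (G := G) (i - 1)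
          rwa [Nat.sub_add_cancel h0] at this
      · refine (commutator_mono ((commutator_comm _ _).le.trans (hcommM i hi)) le_rfl).trans ?_
        rcases Nat.eq_zero_or_pos (i - 2) with h0 | h0
        · rw [h0, hU, Subgroup.upperCentralSeries_zero, commutator_bot_left]; exact bot_le
        · rw [show i - 2 = i - 3 + 1 by omega]
          exact commutator_upper_le _
    | succ k ih =>
      intro i hi
      rw [Subgroup.lowerCentralSeries_succ]
      refine CfsgLib.LocalEven48.three_subgroups_le le_normalizer_of_normal le_normalizer_of_normal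
        le_normalizer_of_normal
        ?_ ?_
      · refine (commutator_mono ?_ le_rfl).trans
          ((commutator_comm _ _).le.trans ((ih (i - 1) (by omega)).trans
            (Subgroup.upperCentralSeries_mono G (by omega))))
        rcases Nat.eq_zero_or_pos i with rfl | h0
        · rw [hU, Subgroup.upperCentralSeries_zero, commutator_bot_right]
        · rw [commutator_comm]
          have := commutator_upper_le (G := G) (i - 1)
          rwa [Nat.sub_add_cancel h0] at this
      · refine (commutator_mono ((commutator_comm _ _).le.trans (ih i hi)) le_rfl).trans ?_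
        rcases Nat.eq_zero_or_pos (i - k - 3) with h0 | h0
        · rw [h0, hU, Subgroup.upperCentralSeries_zero, commutator_bot_left]; exact bot_le
        · rw [show i - k - 3 = i - (k + 1) - 3 + 1 by omega]
          exact commutator_upper_le _
  -- the filtration
  let W : ℕ → Subgroup G := fun s => if s ≤ 1 then M else U (n - s)
  have hW1 : ∀ s, s ≤ 1 → W s = M := fun s hs => if_pos hs
  have hW2 : ∀ s, 2 ≤ s → W s = U (n - s) := fun s hs => if_neg (by omega)
  have hWle : ∀ s, W s ≤ M := fun s => by
    rcases Nat.lt_or_ge s 2 with hs | hs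
    · rw [hW1 s (by omega)]
    · rw [hW2 s hs]
      exact (Subgroup.upperCentralSeries_mono G (by omega)).trans hUM
  have hW : Filtered W :=
    { anti := fun {s t} hst => by
        rcases Nat.lt_or_ge s 2 with hs | hs
        · rw [hW1 s (by omega)]; exact hWle t
        · rw [hW2 s hs, hW2 t (by omega)]
          exact Subgroup.upperCentralSeries_mono G (by omega)
      normal := fun s => by
        rcases Nat.lt_or_ge s 2 with hs | hs
        · rw [hW1 s (by omega)]; exact hMN
        · rw [hW2 s hs]; infer_instance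
      comm := fun s t => by
        rcases Nat.lt_or_ge s 2 with hs | hs <;> rcases Nat.lt_or_ge t 2 with ht | ht
        · rw [hW1 s (by omega), hW1 t (by omega)]
          rcases Nat.lt_or_ge (s + t + 1) 2 with hst | hst
          · rw [hW1 _ (by omega)]; exact commutator_le_self M
          · rw [hW2 _ hst]
            exact hMM.trans (Subgroup.upperCentralSeries_mono G (by omega))
        · rw [hW1 s (by omega), hW2 t ht, hW2 _ (by omega)]
          exact (hcommM _ (by omega)).trans (Subgroup.upperCentralSeries_mono G (by omega))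
        · rw [hW1 t (by omega), hW2 s hs, hW2 _ (by omega), commutator_comm]
          exact (hcommM _ (by omega)).trans (Subgroup.upperCentralSeries_mono G (by omega))
        · rw [hW2 s hs, hW2 t ht, hW2 _ (by omega)]
          rcases Nat.lt_or_ge n (s + 1) with hsn | hsn
          · rw [show n - s = 0 by omega, hU, Subgroup.upperCentralSeries_zero, commutator_bot_left]
            exact bot_le
          · rw [hU, ← h.lower_eq_upper hc (i := n - s) (by omega),
              show n - 1 - (n - s) = s - 2 + 1 by omega]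
            exact (hlow (s - 2) (n - t) (by omega)).trans
              (Subgroup.upperCentralSeries_mono G (by omega)) }
  have hstep : ∀ s, 1 ≤ s → ∀ d ∈ W s, d⁻¹ * (x * d * x⁻¹) ∈ W (s + 1) := by
    intro s hs d hd
    rw [hW2 (s + 1) (by omega), show d⁻¹ * (x * d * x⁻¹) = ⁅d⁻¹, x⁆ by
      rw [commutatorElement_def]; group]
    rcases Nat.lt_or_ge s 2 with hs2 | hs2
    · rw [show n - (s + 1) = n - 2 by omega]
      exact h.commutator_mem_upper (by omega) _ _
    · rw [hW2 s hs2] at hd
      rcases Nat.eq_zero_or_pos (n - s) with h0 | h0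
      · rw [h0, hU, Subgroup.upperCentralSeries_zero, mem_bot] at hd
        rw [hd, inv_one, commutatorElement_one_left]; exact one_mem _
      · rw [show n - s = n - (s + 1) + 1 by omega] at hd
        exact Subgroup.mem_upperCentralSeries_succ_iff.1 (inv_mem hd) x
  have hmain := mul_pow_congr (p := 3) hW (x := x) hstep (fun k hk hk3 c hc' => by
    obtain rfl : k = 2 := by omega
    rw [hW2 2 le_rfl] at hc'
    rw [hW2 _ (by omega)]
    have := (h.pow_level hu hx (n - 2) (by omega) c hc').1
    rwa [show n - 2 + 1 - 3 = n - (3 + 1) by omega] at this)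
    (a := g) (by rw [hW1 1 le_rfl]; exact hg)
  have hx1 : x ^ 3 = 1 := by simpa using hx 1 (one_mem _)
  -- the cube of `g x` is central
  have hgxM : g * x ∉ M := fun hh => hxM (by simpa using mul_mem (inv_mem hg) hh)
  have hg3 : g ^ 3 ∈ U (n - 2) := by
    have h1 := pow_index_mem ((U (n - 2)).subgroupOf M) (⟨g, hg⟩ : M)
    rw [show ((U (n - 2)).subgroupOf M).index = 3 from hMU] at h1
    exact h1
  have hz : (g * x) ^ 3 ∈ U 1 := by
    have hmem : (g * x) ^ 3 ∈ U (n - 2) := by
      have hc2 := IsPGroup.isMulCommutative_of_card_eq_prime_sq (p := 3)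
        (G := G ⧸ U (n - 2)) (h.index_upper (by omega))
      rw [← QuotientGroup.eq_one_iff, QuotientGroup.mk_pow, QuotientGroup.mk_mul,
        (show Commute (g : G ⧸ U (n - 2)) x from hc2.is_comm.comm _ _).mul_pow,
        ← QuotientGroup.mk_pow, ← QuotientGroup.mk_pow, hx1, (QuotientGroup.eq_one_iff _).2 hg3]
      simp
    by_contra hbad
    obtain ⟨m, hm, hm2⟩ : ∃ m, (g * x) ^ 3 ∈ U m ∧ ∀ k, (g * x) ^ 3 ∈ U k → m ≤ k := by
      classical
      have hex : ∃ k, (g * x) ^ 3 ∈ U k := ⟨n - 2, hmem⟩
      exact ⟨Nat.find hex, Nat.find_spec hex, fun k hk => Nat.find_min' hex hk⟩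
    have hmn := hm2 _ hmem
    have hm0 : 2 ≤ m := by
      by_contra hlt
      exact hbad (Subgroup.upperCentralSeries_mono G (by omega) hm)
    refine hgxM ?_
    have hmem2 := h.mem_layerCentralizer_of_exact (y := g * x) (by omega) (by omega) hm
      (fun hh => by have := hm2 _ hh; omega) (by
        rw [(commutatorElement_eq_one_iff_commute).2 (Commute.pow_self (g * x) 3)]
        exact one_mem _)
    -- `M` is the centraliser of that layer
    have hle := hMall m hm0 (by omega)
    have heq : M = layerCentralizer G m := by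
      refine eq_of_le_of_card_ge hle ?_
      have hlt : layerCentralizer G m < ⊤ := lt_top_iff_ne_top.2 fun e =>
        h.not_mem_layerCentralizer hu hm0 (by omega) (e ▸ mem_top x)
      have h1 := card_mul_le_of_lt h.isPGroup hlt
      rw [card_top, h.card_eq] at h1
      have h2 : Nat.card M * 3 = 3 ^ n := by
        have h3 := relIndex_mul_index hUM
        rw [hMU, h.index_upper (by omega)] at h3
        rw [← h.card_eq, ← card_mul_index M]
        congr 1
        omega
      omega
    exact heq ▸ hmem2
  rw [hW2 _ (by omega), show n - (3 + 1) = n - 4 by omega, hx1, inv_one, mul_one] at hmain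
  have hF : (g * x) ^ 3 ∈ U (n - 4) := Subgroup.upperCentralSeries_mono G (by omega) hz
  have hdg : dcomm x g 2 * g ^ 3 ∈ U (n - 4) := by
    have := mul_mem hF hmain
    simpa using this
  -- the iterated commutator has exact level `n - 3`
  have hd1 : dcomm x g 1 ∈ U (n - 2) := by
    show g⁻¹ * (x * g * x⁻¹) ∈ _
    rw [show g⁻¹ * (x * g * x⁻¹) = ⁅g⁻¹, x⁆ by rw [commutatorElement_def]; group]
    exact h.commutator_mem_upper (by omega) _ _
  have hd1' : dcomm x g 1 ∉ U (n - 3) := by
    intro hbad
    refine hg' ?_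
    -- otherwise `g` is central modulo `U (n - 3)`
    let q := QuotientGroup.mk' (U (n - 3))
    have hUZ : ∀ y : G, ∀ e ∈ U (n - 2), Commute (q y) (q e) := fun y e he => by
      refine Commute.symm ?_
      rw [← commutatorElement_eq_one_iff_commute, ← map_commutatorElement, QuotientGroup.mk'_apply,
        QuotientGroup.eq_one_iff]
      rw [show n - 2 = n - 3 + 1 by omega] at he
      exact Subgroup.mem_upperCentralSeries_succ_iff.1 he y
    have hgx : Commute (q g) (q x) := by
      have h1 : q (dcomm x g 1) = 1 := by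
        rw [QuotientGroup.mk'_apply, QuotientGroup.eq_one_iff]; exact hbad
      have h2 : q (g⁻¹ * (x * g * x⁻¹)) = 1 := h1
      rw [map_mul, map_mul, map_mul, map_inv, map_inv, inv_mul_eq_one] at h2
      exact (mul_inv_eq_iff_eq_mul.1 h2.symm).symm
    rw [show n - 2 = n - 3 + 1 by omega, Subgroup.mem_upperCentralSeries_succ_iff]
    intro y
    rw [← QuotientGroup.eq_one_iff, ← QuotientGroup.mk'_apply, map_commutatorElement,
      commutatorElement_eq_one_iff_mul_comm]
    have hcov : U (n - 2) ⊔ zpowers g ⊔ zpowers x = ⊤ := by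
      rw [hgM]
      have hlt : M < M ⊔ zpowers x :=
        lt_of_le_of_ne le_sup_left fun e => hxM (e ▸ mem_sup_right (mem_zpowers x))
      refine eq_of_le_of_card_ge le_top ?_
      have h1 := card_mul_le_of_lt h.isPGroup hlt
      have h3 := relIndex_mul_index hUM
      rw [hMU, h.index_upper (by omega)] at h3
      have h4 := card_mul_index M
      rw [show M.index = 3 by omega] at h4
      rw [card_top, ← h4]
      exact h1
    have hle : U (n - 2) ⊔ zpowers g ⊔ zpowers x ≤ (centralizer ({q g} : Set _)).comap q :=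
      sup_le (sup_le (fun e he => mem_comap.2 (mem_centralizer_singleton_iff.2 (hUZ g e he).symm.eq))
        (zpowers_le.2 (mem_comap.2 (mem_centralizer_singleton_iff.2 rfl))))
        (zpowers_le.2 (mem_comap.2 (mem_centralizer_singleton_iff.2 hgx.symm.eq)))
    rw [hcov] at hle
    exact (mem_centralizer_singleton_iff.1 (mem_comap.1 (hle (mem_top y)))).symm
  have hd2 : dcomm x g 2 = ⁅(dcomm x g 1)⁻¹, x⁆ := by
    show (dcomm x g 1)⁻¹ * (x * dcomm x g 1 * x⁻¹) = _
    rw [commutatorElement_def]; group
  have hd2m : dcomm x g 2 ∈ U (n - 3) := by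
    rw [hd2]
    exact Subgroup.mem_upperCentralSeries_succ_iff.1
      (show (dcomm x g 1)⁻¹ ∈ U (n - 3 + 1) by
        rw [show n - 3 + 1 = n - 2 by omega]; exact inv_mem hd1) x
  have hd2n : dcomm x g 2 ∉ U (n - 4) := by
    rw [hd2, show n - 4 = n - 2 - 2 by omega]
    refine hu (n - 2) (by omega) (by omega) _ (inv_mem hd1) ?_
    rw [show n - 2 - 1 = n - 3 by omega]
    exact fun hh => hd1' (inv_mem_iff.1 hh)
  refine ⟨?_, fun hbad => hd2n ?_⟩
  · have := mul_mem (inv_mem hd2m) (Subgroup.upperCentralSeries_mono G (by omega : n - 4 ≤ n - 3) hdg)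
    simpa using this
  · simpa using mul_mem hdg (inv_mem hbad)

/-- Two generators for every subgroup. -/
theorem exists_generators_two (hn : 5 ≤ n) (H : Subgroup G) :
    ∃ T : Finset G, T.card ≤ 2 ∧ Subgroup.closure (T : Set G) = H := by
  have := h.finite
  have := Fact.mk h.prime
  by_cases hH : H = ⊤
  · exact h.exists_generators_top (by omega) hH
  have hHp : IsPGroup 3 H := h.isPGroup.to_subgroup H
  refine exists_generators hHp 2 ?_
  set L := levels n H with hL
  set Φ := (frattini H).map H.subtype with hΦ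
  set U := Subgroup.upperCentralSeries G with hU
  rw [h.card_le_relIndex (by omega) H, ← hL]
  have hr := h.relIndex_le_of_ne_top (by omega) hH
  suffices key : ∃ e c, 3 ^ e ≤ Nat.card Φ ∧ (U (n - 2)).relIndex H ≤ 3 ^ c ∧ L.card + c ≤ e + 2 by
    obtain ⟨e, c, h1, h2, h3⟩ := key
    calc 3 ^ L.card * (U (n - 2)).relIndex H ≤ 3 ^ L.card * 3 ^ c := Nat.mul_le_mul_left _ h2
      _ ≤ 3 ^ e * 3 ^ 2 := by
        rw [← pow_add, ← pow_add]; exact Nat.pow_le_pow_right (by norm_num) h3
      _ ≤ _ := Nat.mul_le_mul_right _ h1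
  have hlow : (L.filter fun j => ¬ 3 ≤ j).card ≤ 2 := by
    refine (Finset.card_le_card (t := Finset.Icc 1 2) fun j hj => ?_).trans (by simp)
    obtain ⟨hj, hj3⟩ := Finset.mem_filter.1 hj
    have := (mem_levels.1 hj).1
    rw [Finset.mem_Icc]
    omega
  have hsum := Finset.card_filter_add_card_filter_not (s := L) (3 ≤ ·)
  set A := ((L.filter (3 ≤ ·)).image (· + 1 - 3)) with hA
  have hAcard : A.card = (L.filter (3 ≤ ·)).card := by
    rw [hA, Finset.card_image_of_injOn]
    intro a ha b hb hab
    have h1 := (Finset.mem_filter.1 ha).2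
    have h2 := (Finset.mem_filter.1 hb).2
    simp only at hab
    omega
  have hAsub : A ⊆ levels n Φ := h.card_levels_le hu hx H
  by_cases hHU : H ≤ U (n - 2)
  · exact ⟨(L.filter (3 ≤ ·)).card, 0, hAcard ▸ h.pow_card_le (by omega) hAsub,
      by rw [relIndex_eq_one.2 hHU, pow_zero], by omega⟩
  obtain ⟨g, hgH, hg⟩ := SetLike.not_le_iff_exists.1 hHU
  by_cases hgM : g ∈ layerCentralizer G (n - 2)
  · obtain ⟨h1, h2⟩ := h.cube_level hu hx hn hgM hg
    have hextra : n - 3 ∈ levels n Φ := mem_levels.2 ⟨⟨by omega, by omega⟩, _,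
      pow_mem_map_frattini hHp hgH, h1, by rwa [show n - 3 - 1 = n - 4 by omega]⟩
    have hnotA : n - 3 ∉ A := by
      rw [hA, Finset.mem_image]
      rintro ⟨j, hj, hje⟩
      obtain ⟨hj, hj3⟩ := Finset.mem_filter.1 hj
      have := (mem_levels.1 hj).1
      omega
    refine ⟨(insert (n - 3) A).card, 1, h.pow_card_le (by omega)
      (Finset.insert_subset hextra hAsub), by rwa [pow_one], ?_⟩
    rw [Finset.card_insert_of_notMem hnotA, hAcard]
    omega
  · have hnot : ∀ j, 2 ≤ j → j + 2 ≤ n → g ∉ layerCentralizer G j := by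
      intro j hj hjn hgj
      refine hgM ?_
      -- the two-step centralisers coincide
      have hle : layerCentralizer G (n - 2) ≤ layerCentralizer G j :=
        fun y hy => h.layer_top_le hu hx hn hy j hj hjn
      have hUle : ∀ i, i + 2 ≤ n → U (n - 2) ≤ layerCentralizer G i := fun i hi b hb =>
        mem_layerCentralizer.2 fun c hc => Subgroup.upperCentralSeries_mono G (by omega)
          (h.commutator_upper_upper (h.upper_top (by omega)) (i := i) (j := n - 2) hi
            (commutator_mem_commutator hc hb))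
      have hlt : layerCentralizer G j < ⊤ := lt_top_iff_ne_top.2 fun e =>
        h.not_mem_layerCentralizer hu hj hjn (e ▸ mem_top x)
      have h1 := card_mul_le_of_lt h.isPGroup hlt
      rw [card_top, h.card_eq] at h1
      have hlt2 : U (n - 2) < layerCentralizer G (n - 2) := by
        refine lt_of_le_of_ne (hUle (n - 2) (by omega)) fun e => ?_
        have hnle : ¬ layerCentralizer G j ≤ U (n - 2) := fun h' => hg (h' hgj)
        have hi : (layerCentralizer G (n - 2)).index ≤ 3 := h.index_layer_le (by omega) (by omega)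
        rw [← e, h.index_upper (by omega)] at hi
        norm_num at hi
      have h2 := card_mul_le_of_lt h.isPGroup hlt2
      rw [h.card_upper le_rfl, show n - 2 = n - 2 from rfl] at h2
      have h3 : 3 ^ n ≤ Nat.card (layerCentralizer G (n - 2)) * 3 := by
        refine le_trans (le_of_eq ?_) (Nat.mul_le_mul_right 3 h2)
        rw [← pow_succ, ← pow_succ]
        congr 1
        omega
      have heq : layerCentralizer G (n - 2) = layerCentralizer G j :=
        eq_of_le_of_card_ge hle (by omega)
      exact heq ▸ hgj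
    have hsub : (L.filter (2 ≤ ·)).image (· - 1) ⊆ levels n Φ := by
      intro i hi
      obtain ⟨j, hj, rfl⟩ := Finset.mem_image.1 hi
      obtain ⟨hj, hj2⟩ := Finset.mem_filter.1 hj
      obtain ⟨⟨-, hjn⟩, a, haH, ha, ha'⟩ := mem_levels.1 hj
      refine mem_levels.2 ⟨⟨by omega, by omega⟩, _, commutator_mem_map_frattini hHp haH hgH, ?_, ?_⟩
      · rw [show j = j - 1 + 1 by omega] at ha
        exact Subgroup.mem_upperCentralSeries_succ_iff.1 ha g
      · rw [show j - 1 - 1 = j - 2 by omega]
        exact fun hh => hnot j hj2 hjn (h.mem_layerCentralizer_of_exact (by omega) hjn ha ha' hh)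
    refine ⟨((L.filter (2 ≤ ·)).image (· - 1)).card, 1, h.pow_card_le (by omega) hsub,
      by rwa [pow_one], ?_⟩
    rw [Finset.card_image_of_injOn (fun a ha b hb hab => by
      have h1 := (Finset.mem_filter.1 ha).2
      have h2 := (Finset.mem_filter.1 hb).2
      have h3 : a - 1 = b - 1 := hab
      omega)]
    have h1 : (L.filter fun j => ¬ 2 ≤ j).card ≤ 1 := by
      refine (Finset.card_le_card (t := {1}) fun j hj => ?_).trans (by simp)
      obtain ⟨hj, hj2⟩ := Finset.mem_filter.1 hj
      have := (mem_levels.1 hj).1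
      rw [Finset.mem_singleton]
      omega
    have := Finset.card_filter_add_card_filter_not (s := L) (2 ≤ ·)
    omega

end Three

/-- Order `3 ^ 4`. -/
theorem wreath_or_two (h : MaxClass G 3 4) :
    (∀ H : Subgroup G, ∃ T : Finset G, T.card ≤ 2 ∧ Subgroup.closure (T : Set G) = H) ∨
      ∃ W : Sylow 3 (Equiv.Perm (Fin 9)), Nonempty (G ≃* ↥(W : Subgroup (Equiv.Perm (Fin 9)))) := by
  have := h.finite
  have := Fact.mk h.prime
  by_cases hex : ∃ M : Subgroup G, Nat.card M = 27 ∧ (frattini M).map M.subtype = ⊥
  · right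
    obtain ⟨M, hM, hMel⟩ := hex
    have hMc : ∀ a ∈ M, ∀ b ∈ M, a * b = b * a := fun a ha b hb => by
      rw [← commutatorElement_eq_one_iff_mul_comm, ← mem_bot, ← hMel]
      exact commutator_mem_map_frattini (h.isPGroup.to_subgroup M) ha hb
    have hMp : ∀ a ∈ M, a ^ 3 = 1 := fun a ha => by
      rw [← mem_bot, ← hMel]
      exact pow_mem_map_frattini (h.isPGroup.to_subgroup M) ha
    set Z := center G with hZ
    have hZc : Nat.card Z = 3 := h.card_center (by norm_num)
    have hMne : M ≠ ⊥ := fun e => by rw [e, card_bot] at hM; norm_num at hM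
    have hMn : M.Normal := by
      refine CfsgLib.Solvable.normal_of_coatom h.isPGroup ?_
      refine ⟨fun e => by rw [e, card_top, h.card_eq] at hM; norm_num at hM, fun K hK => ?_⟩
      have h1 := card_mul_le_of_lt h.isPGroup hK
      exact eq_of_le_of_card_ge le_top (by rw [card_top, h.card_eq]; omega)
    have hmeet : ∀ K : Subgroup G, K.Normal → K ≠ ⊥ → Z ≤ K := by
      intro K hK hK1
      have hlt : (⊥ : Subgroup G) < K ⊓ Z := bot_lt_iff_ne_bot.2 fun e => by
        haveI := h.isPGroup.isNilpotent
        exact CfsgLib.Solvable.inf_center_ne_bot hK1 e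
      have h1 := card_mul_le_of_lt h.isPGroup hlt
      rw [card_bot, one_mul] at h1
      exact le_trans (eq_of_le_of_card_ge inf_le_right (by omega)).ge inf_le_left
    have hZM : Z ≤ M := hmeet M hMn hMne
    -- a complement of the centre in `M`
    obtain ⟨A, ⟨hAM, hAZ⟩, hmax⟩ := Set.Finite.exists_maximal
      (Set.toFinite {A : Subgroup G | A ≤ M ∧ A ⊓ Z = ⊥}) ⟨⊥, bot_le, bot_inf_eq _⟩
    have hsup : M ≤ A ⊔ Z := by
      intro g hg
      by_contra hgn
      have hgA : g ∉ A := fun h' => hgn (mem_sup_left h')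
      have hne : (A ⊔ zpowers g) ⊓ Z ≠ ⊥ := fun e => hgA (hmax (y := A ⊔ zpowers g)
        ⟨sup_le hAM (zpowers_le.2 hg), e⟩ le_sup_left (mem_sup_right (mem_zpowers g)))
      obtain ⟨⟨z, hz⟩, hz1⟩ := (ne_bot_iff_exists_ne_one.1 hne)
      have hz1 : z ≠ 1 := fun e => hz1 (Subtype.ext e)
      obtain ⟨hz', hzZ⟩ := mem_inf.1 hz
      have hzc : z ∈ A ⊔ zpowers g := hz'
      rw [← SetLike.mem_coe] at hzc
      have hAn : zpowers g ≤ normalizer (A : Set G) := zpowers_le.2 (mem_normalizer_iff.2 fun a =>
        ⟨fun ha => by rwa [hMc g hg a (hAM ha), mul_inv_cancel_right], fun ha => by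
          have h1 : g * a * g⁻¹ ∈ M := hAM ha
          have h2 : a ∈ M := by simpa [mul_assoc] using mul_mem (mul_mem (inv_mem hg) h1) hg
          rwa [hMc g hg a h2, mul_inv_cancel_right] at ha⟩)
      rw [coe_mul_of_right_le_normalizer_left A (zpowers g) hAn] at hzc
      obtain ⟨a, ha, b, hb, rfl⟩ := hzc
      obtain ⟨i, rfl⟩ := mem_zpowers_iff.1 hb
      by_cases h3 : (3 : ℤ) ∣ i
      · obtain ⟨c, rfl⟩ := h3
        have : g ^ ((3 : ℤ) * c) = 1 := by
          rw [zpow_mul, show g ^ (3 : ℤ) = g ^ (3 : ℕ) from zpow_natCast g 3, hMp g hg, one_zpow]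
        simp only [this, mul_one] at hzZ hz1
        exact hz1 (mem_bot.1 (hAZ ▸ mem_inf.2 ⟨ha, hzZ⟩))
      · have hgi : g ^ i ∈ A ⊔ Z := by
          have := mul_mem (mem_sup_left (T := Z) (inv_mem ha)) (mem_sup_right (S := A) hzZ)
          simpa using this
        obtain ⟨u, v, huv⟩ : IsCoprime i (3 : ℤ) :=
          ((Int.prime_three).coprime_iff_not_dvd.2 h3).symm
        apply hgn
        have : g = (g ^ i) ^ u := by
          rw [← zpow_mul, mul_comm]
          conv_lhs => rw [← zpow_one g, ← huv]
          rw [zpow_add, mul_comm v 3, zpow_mul g 3 v,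
            show g ^ (3 : ℤ) = g ^ (3 : ℕ) from zpow_natCast g 3, hMp g hg, one_zpow, mul_one]
        rw [this]
        exact zpow_mem hgi u
    have hAcore : A.normalCore = ⊥ := by
      by_contra hne
      have h1 := le_trans (hmeet _ (normalCore_normal A) hne) (normalCore_le A)
      have h2 : (Z : Subgroup G) ≤ ⊥ := hAZ ▸ le_inf h1 le_rfl
      rw [le_bot_iff] at h2
      rw [h2, card_bot] at hZc
      norm_num at hZc
    have hAcard : Nat.card A = 9 := by
      have h1 : Nat.card A * Nat.card Z = Nat.card ↥(A ⊔ Z) := by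
        have h2 : Z.relIndex (A ⊔ Z) = Z.relIndex A := relIndex_sup_right _ _
        have h3 : Z.relIndex A = Nat.card A := by
          rw [← inf_relIndex_right, inf_comm, hAZ, relIndex_bot_left]
        rw [mul_comm, ← h3, ← h2, ← relIndex_bot_left, relIndex_mul_relIndex _ _ _ bot_le le_sup_right,
          relIndex_bot_left]
      rw [le_antisymm (sup_le hAM hZM) hsup, hM, hZc] at h1
      omega
    have hidx : A.index = 9 := by
      have := card_mul_index A
      rw [hAcard, h.card_eq] at this
      omega
    let e : G ⧸ A ≃ Fin 9 := Finite.equivFinOfCardEq (by rw [← index_eq_card, hidx])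
    let f : G →* Equiv.Perm (Fin 9) :=
      (e.permCongrHom).toMonoidHom.comp (MulAction.toPermHom G (G ⧸ A))
    have hf : Function.Injective f := by
      refine (e.permCongrHom.injective).comp ?_
      rw [← MonoidHom.ker_eq_bot_iff, ← normalCore_eq_ker, hAcore]
    have hcard : Nat.card f.range = 3 ^ (Nat.card (Equiv.Perm (Fin 9))).factorization 3 := by
      rw [← Nat.card_congr (MonoidHom.ofInjective hf).toEquiv, h.card_eq, Nat.card_perm,
        Nat.card_fin]
      congr 1
      rw [show Nat.factorial 9 = 3 ^ 4 * 4480 by rfl, Nat.factorization_mul (by norm_num) (by norm_num)]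
      rw [Finsupp.add_apply, Nat.factorization_pow, Finsupp.smul_apply,
        Nat.prime_three.factorization_self, Nat.factorization_eq_zero_of_not_dvd (by norm_num)]
      rfl
    exact ⟨Sylow.ofCard f.range hcard, ⟨(MonoidHom.ofInjective hf)⟩⟩
  · left
    intro H
    by_cases hH : H = ⊤
    · exact h.exists_generators_top (by norm_num) hH
    refine exists_generators (h.isPGroup.to_subgroup H) 2 ?_
    have h1 := card_mul_le_of_lt h.isPGroup (lt_top_iff_ne_top.2 hH)
    rw [card_top, h.card_eq] at h1
    by_cases hΦ : (frattini H).map H.subtype = ⊥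
    · rw [hΦ, card_bot]
      push Not at hex
      have hne := fun e => hex H e hΦ
      obtain ⟨i, hi⟩ := IsPGroup.iff_card.1 (h.isPGroup.to_subgroup H)
      rw [hi] at hne h1 ⊢
      have hi4 : i < 4 := by
        by_contra hge
        have := Nat.pow_le_pow_right (show 0 < 3 by norm_num) (show 4 ≤ i by omega)
        omega
      interval_cases i <;> simp_all
    · have h2 := card_mul_le_of_lt h.isPGroup (bot_lt_iff_ne_bot.2 hΦ)
      rw [card_bot] at h2
      omega

end MaxClass

end CfsgLib.PMaxClass
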