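import Cfsg.Agent.PMaxClass.ThreeGroups
import Cfsg.Agent.RegularPGroups.SmallClass

/-!
# `p`-th powers along the upper series, without uniform elements

Elements avoiding a short window of layer centralisers suffice: the `p`-th power lowers the level by
exactly `p - 1`.
-/

set_option autoImplicit false
set_option linter.style.haveILetI false

namespace CfsgLib.PMaxClass

open Subgroup
open scoped commutatorElement

variable {G : Type*} [Group G] {p n : ℕ}

theorem exists_not_mem_two {A B : Subgroup G} (hA : A ≠ ⊤) (hB : B ≠ ⊤) :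
    ∃ x, x ∉ A ∧ x ∉ B := by
  obtain ⟨a, ha⟩ : ∃ a, a ∉ A := by simpa [Subgroup.eq_top_iff'] using hA
  obtain ⟨b, hb⟩ : ∃ b, b ∉ B := by simpa [Subgroup.eq_top_iff'] using hB
  by_cases haB : a ∈ B
  · by_cases hbA : b ∈ A
    · exact ⟨a * b, fun h => ha (by simpa using mul_mem h (inv_mem hbA)),
        fun h => hb (by simpa using mul_mem (inv_mem haB) h)⟩
    · exact ⟨b, hbA, hb⟩
  · exact ⟨a, ha, haB⟩

namespace MaxClass

theorem upperLayer_le_layerCentralizer (h : MaxClass G p n) (hn : 2 ≤ n) {j : ℕ} (hj : 2 ≤ j) :
    Subgroup.upperCentralSeries G (n - 2) ≤ layerCentralizer G j := by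
  intro x hx
  refine mem_layerCentralizer.2 fun b hb => ?_
  have h1 := h.commutator_upper_upper (h.upper_top hn) (i := n - 2) (j := j) (by omega)
    (commutator_mem_commutator hx hb)
  rw [show j + (n - 2) - n = j - 2 by omega] at h1
  rw [← commutatorElement_inv]
  exact inv_mem h1

/-- Fewer than `p` proper layer centralisers do not cover. -/
theorem exists_avoid (h : MaxClass G p n) {J : Finset ℕ} (hJb : ∀ j ∈ J, 2 ≤ j ∧ j + 1 ≤ n)
    (hJ : J.card < p) : ∃ s : G, ∀ j ∈ J, s ∉ layerCentralizer G j := by
  classical
  have := h.finite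
  have := Fact.mk h.prime
  by_contra hno
  push Not at hno
  have : Fintype G := Fintype.ofFinite G
  have hcard : ∀ j ∈ J, (Finset.univ.filter (· ∈ layerCentralizer G j)).card * p ≤ Nat.card G := by
    intro j hj
    have h1 := card_mul_le_of_lt h.isPGroup
      (lt_top_iff_ne_top.2 (h.layerCentralizer_ne_top (hJb j hj).1 (hJb j hj).2))
    rw [card_top] at h1
    rwa [Nat.card_eq_fintype_card, Fintype.card_subtype] at h1
  have hcov : Finset.univ ⊆ J.biUnion fun j => Finset.univ.filter (· ∈ layerCentralizer G j) := by
    intro x _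
    obtain ⟨j, hj, hx⟩ := hno x
    exact Finset.mem_biUnion.2 ⟨j, hj, by simpa using hx⟩
  have h1 := (Finset.card_le_card hcov).trans Finset.card_biUnion_le
  rw [Finset.card_univ, ← Nat.card_eq_fintype_card] at h1
  have h2 : (∑ j ∈ J, (Finset.univ.filter (· ∈ layerCentralizer G j)).card) * p ≤
      J.card * Nat.card G := by
    rw [Finset.sum_mul]
    exact (Finset.sum_le_card_nsmul J _ _ hcard).trans_eq (by rw [smul_eq_mul])
  have h3 : Nat.card G * p ≤ J.card * Nat.card G := (Nat.mul_le_mul_right p h1).trans h2
  rw [mul_comm J.card] at h3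
  have := Nat.le_of_mul_le_mul_left h3 Nat.card_pos
  omega

theorem pow_mem_top_term (h : MaxClass G p n) (hn : 3 ≤ n) (s : G) :
    s ^ p ∈ Subgroup.upperCentralSeries G (n - 2) := by
  have := h.finite
  have := Fact.mk h.prime
  set U := Subgroup.upperCentralSeries G (n - 2) with hU
  by_contra hs
  have hne : zpowers s ≠ ⊤ := by
    intro he
    have hc : center G = ⊤ := by
      refine eq_top_iff.2 fun g _ => mem_center_iff.2 fun y => ?_
      obtain ⟨e, rfl⟩ := mem_zpowers_iff.1 (he ▸ mem_top g : g ∈ zpowers s)
      obtain ⟨f, rfl⟩ := mem_zpowers_iff.1 (he ▸ mem_top y : y ∈ zpowers s)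
      exact ((Commute.refl s).zpow_zpow f e).eq
    have hc' := h.card_center hn
    rw [hc, card_top, h.card_eq] at hc'
    exact absurd hc' (by
      intro e
      have := Nat.pow_right_injective h.prime.two_le (e.trans (pow_one p).symm)
      omega)
  have hr := h.relIndex_le_of_ne_top hn hne
  have hd : U.relIndex (zpowers s) ∣ p ^ 2 := by
    rw [hU, ← h.index_upper (by omega)]
    exact relIndex_dvd_index_of_normal _ _
  obtain ⟨i, -, he⟩ := (Nat.dvd_prime_pow h.prime).1 hd
  have hi : i ≤ 1 := by
    rw [hU] at he
    rw [he] at hr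
    by_contra hi
    exact absurd hr (not_le.2 (by simpa using Nat.pow_lt_pow_right h.prime.one_lt (not_le.1 hi)))
  have := Subgroup.pow_mem_of_relIndex_ne_zero_of_dvd (H := U) (K := zpowers s)
    (by rw [he]; exact pow_ne_zero _ h.prime.ne_zero) (mem_zpowers s) (n := p)
    (fun m hm hm' => by
      rw [he] at hm'
      exact False.elim (hs (by
        rcases Nat.eq_zero_or_pos i with rfl | hi0
        · have h1 : zpowers s ≤ U := relIndex_eq_one.1 (by rw [he, pow_zero])
          exact pow_mem (h1 (mem_zpowers s)) p
        · have h1 : (U.subgroupOf (zpowers s)).index = p := by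
            rw [show (U.subgroupOf (zpowers s)).index = p ^ i from he, show i = 1 by omega, pow_one]
          have h2 := Subgroup.pow_index_mem (U.subgroupOf (zpowers s)) ⟨s, mem_zpowers s⟩
          rw [h1, mem_subgroupOf] at h2
          simpa using h2)))
  exact hs (this.1)

/-- An element avoiding a window has `p`-th power below the window. -/
theorem pow_mem_of_avoid (h : MaxClass G p n) (hn : 3 ≤ n) {lo : ℕ} (hlo : 1 ≤ lo) {s : G}
    (hs : ∀ j, lo < j → j + 2 ≤ n → s ∉ layerCentralizer G j) :
    s ^ p ∈ Subgroup.upperCentralSeries G lo := by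
  suffices ∀ d t, t + d = n - 2 → lo ≤ t → s ^ p ∈ Subgroup.upperCentralSeries G t by
    rcases le_or_gt lo (n - 2) with h' | h'
    · exact this (n - 2 - lo) lo (by omega) le_rfl
    · exact Subgroup.upperCentralSeries_mono G h'.le (h.pow_mem_top_term hn s)
  intro d
  induction d with
  | zero =>
    intro t ht _
    rw [show t = n - 2 by omega]
    exact h.pow_mem_top_term hn s
  | succ d ih =>
    intro t ht hlt
    by_contra hno
    refine hs (t + 1) (by omega) (by omega) (h.mem_layerCentralizer_of_exact (a := s ^ p) (by omega)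
      (by omega) (ih (t + 1) (by omega) (by omega)) (by simpa using hno) ?_)
    rw [commutatorElement_eq_one_iff_commute.2 (Commute.pow_self s p)]
    exact one_mem _

theorem quotient_series (h : MaxClass G p n) (i : ℕ) : ∀ j,
    (Subgroup.upperCentralSeries (G ⧸ Subgroup.upperCentralSeries G i) j).comap
      (QuotientGroup.mk' (Subgroup.upperCentralSeries G i)) = Subgroup.upperCentralSeries G (i + j) := by
  intro j
  induction j with
  | zero =>
    rw [Subgroup.upperCentralSeries_zero, MonoidHom.comap_bot, QuotientGroup.ker_mk', Nat.add_zero]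
  | succ j ih =>
    ext x
    rw [mem_comap, Subgroup.mem_upperCentralSeries_succ_iff, ← Nat.add_assoc,
      Subgroup.mem_upperCentralSeries_succ_iff]
    constructor
    · intro hx y
      rw [← ih, mem_comap, map_commutatorElement]
      exact hx _
    · intro hx z
      obtain ⟨y, rfl⟩ := QuotientGroup.mk'_surjective _ z
      have := hx y
      rwa [← ih, mem_comap, map_commutatorElement] at this

theorem quotient (h : MaxClass G p n) {i : ℕ} (hi : i + 2 ≤ n) :
    MaxClass (G ⧸ Subgroup.upperCentralSeries G i) p (n - i) := by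
  have := h.finite
  refine ⟨h.prime, ?_, fun e => h.ne_top ?_⟩
  · refine Nat.eq_of_mul_eq_mul_left (pow_pos h.prime.pos i) ?_
    have h1 := card_mul_index (Subgroup.upperCentralSeries G i)
    rw [h.card_upper (by omega), h.card_eq, index_eq_card] at h1
    rw [h1, ← pow_add]
    congr 1
    omega
  · have h1 := h.quotient_series i (n - i - 2)
    rw [e, comap_top] at h1
    rw [show n - 2 = i + (n - i - 2) by omega, ← h1]

/-- The terms of order at most `p ^ (p - 1)` have exponent `p`. -/
theorem pow_eq_one_low (h : MaxClass G p n) : ∀ k, k + 1 ≤ p → k + 2 ≤ n →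
    ∀ c ∈ Subgroup.upperCentralSeries G k, c ^ p = 1 := by
  have := h.finite
  have := Fact.mk h.prime
  have hp2 := h.prime.two_le
  intro k
  induction k with
  | zero =>
    intro _ _ c hc
    rw [Subgroup.upperCentralSeries_zero, mem_bot] at hc
    rw [hc, one_pow]
  | succ k ih =>
    intro hkp hkn
    have hn : 3 ≤ n := by omega
    have hc := h.upper_top (by omega)
    set U := Subgroup.upperCentralSeries G with hU
    set lo := max 1 (n - p) with hlo
    obtain ⟨s, hs⟩ := h.exists_avoid (J := insert (k + 2) (Finset.Icc (max 2 (lo + 1)) (n - 2)))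
      (fun j hj => by
        rcases Finset.mem_insert.1 hj with rfl | hj
        · omega
        · rw [Finset.mem_Icc] at hj; omega)
      (lt_of_le_of_lt (Finset.card_insert_le _ _) (by rw [Nat.card_Icc]; omega))
    have hsp : s ^ p ∈ U lo := h.pow_mem_of_avoid hn (by omega) fun j hj hjn =>
      hs j (Finset.mem_insert_of_mem (Finset.mem_Icc.2 ⟨by omega, by omega⟩))
    obtain ⟨b, hb, hb'⟩ : ∃ b ∈ U (k + 2), ⁅b, s⁆ ∉ U k := by
      have := hs (k + 2) (Finset.mem_insert_self _ _)
      rw [mem_layerCentralizer, show k + 2 - 2 = k by omega] at this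
      push Not at this
      exact this
    set c := ⁅b, s⁆ with hcdef
    have hcU : c ∈ U (k + 1) := Subgroup.mem_upperCentralSeries_succ_iff.1 hb s
    have hbs : Commute b (s ^ p) := by
      rw [← commutatorElement_eq_one_iff_commute]
      have h1 := h.commutator_upper_upper hc (i := lo) (j := k + 2) (by omega)
        (commutator_mem_commutator hsp hb)
      rw [show k + 2 + lo - n = 0 by omega, Subgroup.upperCentralSeries_zero, mem_bot] at h1
      rw [← commutatorElement_inv, h1, inv_one]
    have hcs : (c * s) ^ p = s ^ p := by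
      rw [hcdef, show ⁅b, s⁆ * s = b * s * b⁻¹ by rw [commutatorElement_def]; group, conj_pow,
        hbs.eq, mul_inv_cancel_right]
    have hk1 : k + 1 + 2 ≤ n := hkn
    have hmain := mul_pow_congr (h.filtered_layer hk1) layer_step (x := s) (fun i hi hip d hd => by
        unfold layer at hd
        rw [ih (by omega) (by omega) d (Subgroup.upperCentralSeries_mono G (by omega) hd)]
        exact one_mem _)
      (a := c) (by unfold layer; rwa [show min (k + 1) (k + 1 + 1 - 1) = k + 1 by omega])
    have hd0 : dcomm s c (p - 1) = 1 := by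
      have := dcomm_mem (x := s) hcU (p - 1)
      rwa [show k + 1 - (p - 1) = 0 by omega, Subgroup.upperCentralSeries_zero, mem_bot] at this
    unfold layer at hmain
    rw [show min (k + 1) (k + 1 + 1 - (p + 1)) = 0 by omega, Subgroup.upperCentralSeries_zero,
      mem_bot, hcs, mul_inv_cancel, hd0, one_mul, inv_one, one_mul] at hmain
    -- spread over the whole term
    let V := U (k + 1)
    have hlcs : ∀ m, ((⊤ : Subgroup V).lowerCentralSeries m).map V.subtype ≤ U (k + 1 - m) := by
      intro m
      induction m with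
      | zero => exact map_subtype_le _
      | succ m ihm =>
        rw [Subgroup.lowerCentralSeries_succ, Subgroup.map_commutator]
        refine (Subgroup.commutator_mono ihm le_top).trans (commutator_le.2 fun x hx y _ => ?_)
        rcases Nat.eq_zero_or_pos (k + 1 - m) with h0 | h0
        · rw [h0, hU, Subgroup.upperCentralSeries_zero, mem_bot] at hx
          rw [hx, commutatorElement_one_left]
          exact one_mem _
        · rw [show k + 1 - m = k + 1 - (m + 1) + 1 by omega] at hx
          exact Subgroup.mem_upperCentralSeries_succ_iff.1 hx y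
    have hVreg : CfsgLib.RegularPGroups.RegAt p V := by
      have h1 := CfsgLib.RegularPGroups.isRegularPGroup_of_class_lt (p := p)
        (h.isPGroup.to_subgroup V) (by
          have := hlcs (p - 1)
          rwa [show k + 1 - (p - 1) = 0 by omega, hU, Subgroup.upperCentralSeries_zero, le_bot_iff,
            Subgroup.map_eq_bot_iff_of_injective _ (Subgroup.subtype_injective _)] at this)
      simpa using (CfsgLib.RegularPGroups.isRegularPGroup_iff.1 h1).2 1
    let E : Subgroup G :=
      { carrier := {y | y ∈ U (k + 1) ∧ y ^ p = 1}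
        one_mem' := ⟨one_mem _, one_pow _⟩
        mul_mem' := fun {y z} hy hz => ⟨mul_mem hy.1 hz.1, by
          have := CfsgLib.RegularPGroups.mul_pow_eq_one (h.isPGroup.to_subgroup V) hVreg
            (⟨y, hy.1⟩ : V) ⟨z, hz.1⟩ (Subtype.ext hy.2) (Subtype.ext hz.2)
          exact congrArg Subtype.val this⟩
        inv_mem' := fun {y} hy => ⟨inv_mem hy.1, by rw [inv_pow, hy.2, inv_one]⟩ }
    have hUk : U k ⊔ zpowers c ≤ E := sup_le
      (fun y hy => ⟨Subgroup.upperCentralSeries_mono G (by omega) hy, ih (by omega) (by omega) y hy⟩)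
      (zpowers_le.2 ⟨hcU, hmain⟩)
    have hgen : U k ⊔ zpowers c = U (k + 1) := by
      refine eq_of_le_of_card_ge (sup_le (Subgroup.upperCentralSeries_mono G (by omega))
        (zpowers_le.2 hcU)) ?_
      have h1 := card_mul_le_of_lt h.isPGroup (lt_of_le_of_ne le_sup_left
        fun (e : U k = U k ⊔ zpowers c) => hb' (e.symm ▸ mem_sup_right (mem_zpowers c) : c ∈ U k))
      rw [h.card_upper (by omega)] at h1
      rw [h.card_upper (by omega), pow_succ]
      exact h1
    exact fun y hy => (hUk (hgen.symm ▸ hy)).2

/-- The `p`-th power lowers the level by at least `p - 1`. -/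
theorem pow_mem_level (h : MaxClass G p n) {k : ℕ} (hk : k + 2 ≤ n) {c : G}
    (hc : c ∈ Subgroup.upperCentralSeries G k) :
    c ^ p ∈ Subgroup.upperCentralSeries G (k + 1 - p) := by
  have := h.prime.two_le
  by_cases hkp : k + 1 ≤ p
  · rw [h.pow_eq_one_low k hkp hk c hc]
    exact one_mem _
  · set i := k + 1 - p with hi
    rw [← QuotientGroup.eq_one_iff, ← QuotientGroup.mk'_apply, map_pow]
    refine (h.quotient (i := i) (by omega)).pow_eq_one_low (p - 1) (by omega) (by omega) _ ?_
    rw [← mem_comap, h.quotient_series i (p - 1), show i + (p - 1) = k by omega]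
    exact hc

/-- Congruence for powers inside a term. -/
theorem mul_pow_mod (h : MaxClass G p n) {j : ℕ} (hj : j + 2 ≤ n) {a x : G}
    (ha : a ∈ Subgroup.upperCentralSeries G j)
    (hd : dcomm x a (p - 1) ∈ Subgroup.upperCentralSeries G (j - p)) :
    (((a * x) ^ p : G) : G ⧸ Subgroup.upperCentralSeries G (j - p)) = ((a ^ p * x ^ p : G) : _) := by
  have := Fact.mk h.prime
  have hp2 := h.prime.two_le
  have hm := mul_pow_congr (h.filtered_layer hj) layer_step (x := x) (fun k hk hkp c hc => by
      unfold layer at hc ⊢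
      exact Subgroup.upperCentralSeries_mono G (by omega) (h.pow_mem_level (by omega) hc))
    (a := a) (by unfold layer; rwa [show min j (j + 1 - 1) = j by omega])
  unfold layer at hm
  rw [show min j (j + 1 - (p + 1)) = j - p by omega, ← QuotientGroup.eq, QuotientGroup.mk_mul,
    QuotientGroup.mk_mul, (QuotientGroup.eq_one_iff _).2 hd, one_mul] at hm
  rw [QuotientGroup.mk_mul _ (a ^ p), ← hm]
  simp

/-- The first commutator step below the top. -/
theorem commutator_not_mem_pred (h : MaxClass G p n) (hn : 4 ≤ n) {a x : G}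
    (ha : a ∈ layerCentralizer G (n - 2)) (ha' : a ∉ Subgroup.upperCentralSeries G (n - 2))
    (hx : x ∉ layerCentralizer G (n - 2)) :
    ⁅a, x⁆ ∉ Subgroup.upperCentralSeries G (n - 3) := by
  have := h.finite
  have := Fact.mk h.prime
  intro hbad
  set U := Subgroup.upperCentralSeries G with hU
  have key : ∀ g y, ⁅g, y⁆ ∈ U (n - 3) ↔
      y ∈ (centralizer ({QuotientGroup.mk' (U (n - 3)) g} : Set _)).comap (QuotientGroup.mk' (U (n - 3))) :=
    fun g y => by
      rw [mem_comap, mem_centralizer_singleton_iff, ← QuotientGroup.eq_one_iff,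
        ← QuotientGroup.mk'_apply, map_commutatorElement, commutatorElement_eq_one_iff_mul_comm]
      exact eq_comm
  set K := (centralizer ({QuotientGroup.mk' (U (n - 3)) x} : Set _)).comap
    (QuotientGroup.mk' (U (n - 3))) with hK
  have haK : a ∈ K := (key x a).1 (by rw [← commutatorElement_inv]; exact inv_mem hbad)
  have hxK : x ∈ K := (key x x).1 (by rw [commutatorElement_self]; exact one_mem _)
  have hUK : U (n - 2) ≤ K := fun y hy => (key x y).1 (by
    rw [show n - 2 = n - 3 + 1 by omega] at hy
    rw [← commutatorElement_inv]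
    exact inv_mem (Subgroup.mem_upperCentralSeries_succ_iff.1 hy x))
  have hUL : U (n - 2) ≤ layerCentralizer G (n - 2) :=
    h.upperLayer_le_layerCentralizer (by omega) (by omega)
  have hlt1 : U (n - 2) < K ⊓ layerCentralizer G (n - 2) :=
    lt_of_le_of_ne (le_inf hUK hUL) fun e => ha' (e.symm ▸ mem_inf.2 ⟨haK, ha⟩)
  have hlt2 : K ⊓ layerCentralizer G (n - 2) < K :=
    lt_of_le_of_ne inf_le_left fun e => hx (inf_eq_left.1 e hxK)
  have h1 := card_mul_le_of_lt h.isPGroup hlt1
  have h2 := card_mul_le_of_lt h.isPGroup hlt2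
  rw [h.card_upper le_rfl, ← pow_succ] at h1
  have hKtop : K = ⊤ := by
    refine eq_top_of_le_card _ ?_
    rw [h.card_eq]
    calc p ^ n = p ^ (n - 2 + 1) * p := by rw [← pow_succ]; congr 1; omega
      _ ≤ _ := (Nat.mul_le_mul_right p h1).trans h2
  refine hx (h.upperLayer_le_layerCentralizer (by omega) (by omega) ?_)
  rw [← hU, show n - 2 = n - 3 + 1 by omega, hU, Subgroup.mem_upperCentralSeries_succ_iff]
  exact fun y => (key x y).2 (by rw [← hK, hKtop]; exact mem_top y)

end MaxClass

end CfsgLib.PMaxClass
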